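import Groth.Agent.Hens.IndEtale
import Groth.Agent.IndAlg.Etale
import Groth.Agent.IndAlg.Localization
import Groth.Prelude.Def_Hens2
import Mathlib.AlgebraicGeometry.Morphisms.Etale
import Mathlib.AlgebraicGeometry.Morphisms.Affine

/-!
# The strict localisation as a limit of affine étale neighbourhoods
-/

set_option autoImplicit false
set_option backward.isDefEq.respectTransparency false

universe u

open CategoryTheory CategoryTheory.Limits AlgebraicGeometry Opposite

noncomputable section

namespace Groth.Agent.EtLimit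

/-- A presentation of `σ : T ⟶ S` as a cofiltered limit of affine schemes étale over `S`. -/
structure EtPres {S T : Scheme.{u}} (σ : T ⟶ S) : Type (u + 1) where
  /-- The index category. -/
  I : Type u
  [cat : SmallCategory I]
  [cofiltered : IsCofiltered I]
  /-- The diagram. -/
  D : I ⥤ Scheme.{u}
  /-- The projections. -/
  π : (Functor.const I).obj T ⟶ D
  isLimit : IsLimit (Cone.mk T π)
  /-- The structure maps. -/
  p : ∀ i, D.obj i ⟶ S
  isAffine : ∀ i, IsAffine (D.obj i)
  etale : ∀ i, Etale (p i)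
  w : ∀ (i j : I) (a : i ⟶ j), D.map a ≫ p j = p i
  fac : ∀ i, π.app i ≫ p i = σ

open IndAlg in
/-- A strict henselization of a local ring of `S` is ind-étale over the ring of an affine
neighbourhood. -/
theorem fac_et_strictHenselization {A L R : Type u} [CommRing A] [CommRing L] [IsLocalRing L]
    [CommRing R] [IsLocalRing R] [Algebra A L] [Algebra L R] [Algebra A R] [IsScalarTower A L R]
    [IsLocalHom (algebraMap L R)] [Hensel.IsStrictHenselization L R] (p : Ideal A) [p.IsPrime]
    [IsLocalization.AtPrime L p] : Fac (Etale.Et A) R := by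
  refine Etale.fac_trans (B := L) ?_
    (fac_algEquiv (Hens.strictHenselizationEquiv (R := L) R) Hens.fac_etLoc)
  refine fac_mono (fun E _ _ hE => fac_self ?_) (IndAlg.Localization.fac_localization (B := L) p.primeCompl)
  haveI : Algebra.IsStandardOpenImmersion A E := hE
  obtain ⟨r, hr⟩ := Algebra.IsStandardOpenImmersion.exists_away A E
  show Algebra.Etale A E
  exact Algebra.Etale.of_isLocalizationAway r

theorem nonempty_etPres (S : Scheme.{u}) (s : S) (R : Type u) [CommRing R] [IsLocalRing R]
    [Algebra (S.presheaf.stalk s) R] [IsLocalHom (algebraMap (S.presheaf.stalk s) R)]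
    [Hensel.IsStrictHenselization (S.presheaf.stalk s) R] :
    Nonempty (EtPres (Hens2.specOf S s R)) := by
  obtain ⟨V, hV, hsV⟩ : ∃ V : S.Opens, IsAffineOpen V ∧ s ∈ V := by
    obtain ⟨_, ⟨V, hV, rfl⟩, hsV, -⟩ :=
      S.isBasis_affineOpens.exists_subset_of_mem_open (Set.mem_univ s) isOpen_univ
    exact ⟨V, hV, hsV⟩
  let := TopCat.Presheaf.algebra_section_stalk S.presheaf ⟨s, hsV⟩
  haveI := hV.isLocalization_stalk ⟨s, hsV⟩
  let algR : Algebra Γ(S, V) R :=
    ((algebraMap (S.presheaf.stalk s) R).comp (algebraMap Γ(S, V) (S.presheaf.stalk s))).toAlgebra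
  haveI : IsScalarTower Γ(S, V) (S.presheaf.stalk s) R := .of_algebraMap_eq fun _ => rfl
  obtain ⟨J, _, _, D, c, hc, hQ, ⟨e⟩⟩ := IndAlg.Etale.isInd_of_fac
    (fac_et_strictHenselization (A := Γ(S, V)) (L := S.presheaf.stalk s) (R := R)
      (hV.primeIdealOf ⟨s, hsV⟩).asIdeal)
  haveI : IsConnected J := IsFiltered.isConnected J
  let K : Cocone (D ⋙ Under.forget _) :=
    ((Under.forget _).mapCocone c).extend (e.hom.right)
  have hK : IsColimit K :=
    IsColimit.extendIso _ (isColimitOfPreserves (Under.forget _) hc)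
  have hw : ∀ j, (D.obj j).hom ≫ (K.ι.app j) = CommRingCat.ofHom (algebraMap Γ(S, V) R) := by
    intro j
    exact Under.w (c.ι.app j ≫ e.hom)
  refine ⟨{
    I := Jᵒᵖ
    D := (D ⋙ Under.forget _).op ⋙ Scheme.Spec
    π := (Scheme.Spec.mapCone K.op).π
    isLimit := isLimitOfPreserves Scheme.Spec hK.op
    p := fun i => Spec.map (D.obj i.unop).hom ≫ hV.fromSpec
    isAffine := fun i => inferInstanceAs (IsAffine (Spec _))
    etale := fun i => ?_
    w := fun i j a => ?_
    fac := fun i => ?_ }⟩
  · haveI : Etale (Spec.map (D.obj i.unop).hom) := by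
      refine (HasRingHomProperty.Spec_iff (P := @Etale)).2 ?_
      let := (D.obj i.unop).hom.hom.toAlgebra
      exact RingHom.etale_algebraMap.2 (hQ i.unop)
    exact MorphismProperty.comp_mem _ _ _ this inferInstance
  · show Spec.map _ ≫ Spec.map _ ≫ _ = _
    rw [← Spec.map_comp_assoc]
    exact congrArg (fun k => Spec.map k ≫ hV.fromSpec) (Under.w (D.map a.unop))
  · show Spec.map (K.ι.app i.unop) ≫ Spec.map _ ≫ _ = _
    rw [← Spec.map_comp_assoc, hw]
    show _ = Spec.map _ ≫ S.fromSpecStalk s
    rw [← IsAffineOpen.fromSpecStalk_eq_fromSpecStalk hV hsV, IsAffineOpen.fromSpecStalk,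
      ← Spec.map_comp_assoc]
    rfl

end Groth.Agent.EtLimit
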