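import Groth.Agent.EtLimit.EtSys
import Groth.Agent.EtLimit.Nbhd

/-!
# Base change along a limit of affine schemes étale over the base

For `σ : T ⟶ S` a limit of affine schemes étale over `S` and `f : X ⟶ S` quasi-compact and
quasi-separated, the base change map `σ^* f_* ⟶ f'_* g^*` is bijective on global sections, and
`g^*` of an injective sheaf is acyclic.
-/

set_option autoImplicit false
set_option backward.isDefEq.respectTransparency false

universe u

open CategoryTheory CategoryTheory.Limits AlgebraicGeometry Opposite CategoryTheory.Abelian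

noncomputable section

namespace Groth.Agent.EtLimit

open FHom

section Map

variable {X S T : Scheme.{u}} (f : X ⟶ S) (σ : T ⟶ S)

theorem bcFHom_w {W : T.Etale} {U : S.Etale} (w : W.left ⟶ U.left)
    (hw : w ≫ U.hom = W.hom ≫ σ) :
    (bcFst (pullback.snd f σ) W ≫ w) ≫ U.hom =
      (((EtCoh.bc (pullback.snd f σ)).obj W).hom ≫ pullback.fst f σ) ≫ f := by
  rw [Category.assoc, hw, ← Category.assoc, bcFst_w, Category.assoc, Category.assoc,
    pullback.condition]

/-- The map to the base change. -/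
def bcLift {W : T.Etale} {U : S.Etale} (w : W.left ⟶ U.left)
    (hw : w ≫ U.hom = W.hom ≫ σ) :
    ((EtCoh.bc (pullback.snd f σ)).obj W).left ⟶ ((EtCoh.bc f).obj U).left :=
  pullback.lift (bcFst (pullback.snd f σ) W ≫ w)
    (((EtCoh.bc (pullback.snd f σ)).obj W).hom ≫ pullback.fst f σ) (bcFHom_w f σ w hw)

theorem bcLift_w {W : T.Etale} {U : S.Etale} (w : W.left ⟶ U.left)
    (hw : w ≫ U.hom = W.hom ≫ σ) :
    bcLift f σ w hw ≫ ((EtCoh.bc f).obj U).hom =
      ((EtCoh.bc (pullback.snd f σ)).obj W).hom ≫ pullback.fst f σ :=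
  pullback.lift_snd _ _ _

theorem bcLift_fst {W : T.Etale} {U : S.Etale} (w : W.left ⟶ U.left)
    (hw : w ≫ U.hom = W.hom ≫ σ) :
    bcLift f σ w hw ≫ bcFst f U = bcFst (pullback.snd f σ) W ≫ w :=
  pullback.lift_fst _ _ _

/-- The base change map as a `σ`-morphism. -/
def bcFHom (F : EtCoh.Ab X) : FHom σ ((EtCoh.push f).obj F)
    ((EtCoh.push (pullback.snd f σ)).obj ((EtCoh.pull (pullback.fst f σ)).obj F)) where
  app W U w hw := (unit (pullback.fst f σ) F).app ((EtCoh.bc (pullback.snd f σ)).obj W)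
    ((EtCoh.bc f).obj U) (bcLift f σ w hw) (bcLift_w f σ w hw)
  naturality {W' W U U'} h g w hw w' hw' e := by
    refine (unit (pullback.fst f σ) F).naturality ((EtCoh.bc (pullback.snd f σ)).map h)
      ((EtCoh.bc f).map g) _ (bcLift_w f σ w hw) _ (bcLift_w f σ w' hw') (pullback.hom_ext ?_ ?_)
    · refine Eq.trans ?_ (bcLift_fst f σ w' hw').symm
      simp only [Category.assoc]
      refine (congrArg (_ ≫ ·) ((congrArg (_ ≫ ·) (bc_map_fst g)).trans
        ((Category.assoc _ _ _).symm.trans ((congrArg (· ≫ g.left) (bcLift_fst f σ w hw)).trans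
          (Category.assoc _ _ _))))).trans ?_
      refine (Category.assoc _ _ _).symm.trans ?_
      refine (congrArg (· ≫ w ≫ g.left) (bc_map_fst h)).trans ?_
      rw [Category.assoc]
      exact congrArg (bcFst (pullback.snd f σ) W' ≫ ·) e
    · refine Eq.trans ?_ (bcLift_w f σ w' hw').symm
      simp only [Category.assoc]
      refine (congrArg (_ ≫ ·) ((congrArg (_ ≫ ·)
        (MorphismProperty.Over.w ((EtCoh.bc f).map g))).trans (bcLift_w f σ w hw))).trans ?_
      exact (Category.assoc _ _ _).symm.trans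
        (congrArg (· ≫ pullback.fst f σ)
          (MorphismProperty.Over.w ((EtCoh.bc (pullback.snd f σ)).map h)))

/-- The base change morphism of sheaves. -/
def bcHom (F : EtCoh.Ab X) : (EtCoh.pull σ).obj ((EtCoh.push f).obj F) ⟶
    (EtCoh.push (pullback.snd f σ)).obj ((EtCoh.pull (pullback.fst f σ)).obj F) :=
  (bcFHom f σ F).desc

theorem bcHom_naturality {F G : EtCoh.Ab X} (a : F ⟶ G) :
    (EtCoh.pull σ).map ((EtCoh.push f).map a) ≫ bcHom f σ G =
      bcHom f σ F ≫
        (EtCoh.push (pullback.snd f σ)).map ((EtCoh.pull (pullback.fst f σ)).map a) := by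
  refine unit_post_inj ?_
  rw [← post_post, unit_post_map, pre_post, ← post_post, bcHom, bcHom, unit_post_desc,
    unit_post_desc]
  ext W U w hw : 5
  exact congrArg (fun σ' : FHom (pullback.fst f σ) F _ => σ'.app ((EtCoh.bc _).obj W)
    ((EtCoh.bc f).obj U) (bcLift f σ w hw) (bcLift_w f σ w hw)) (unit_post_map a).symm

/-- The base change map on global sections. -/
def bcSec : EtCoh.push f ⋙ EtCoh.pull σ ⋙ EtCore.gsec T ⟶
    EtCoh.pull (pullback.fst f σ) ⋙ EtCore.gsec (pullback f σ) where
  app F := (bcHom f σ F).hom.app (op (EtCoh.top T)) ≫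
    ((EtCoh.pull (pullback.fst f σ)).obj F).obj.map (EtCore.bcTopIso (pullback.snd f σ)).inv.op
  naturality F G a := by
    have h := congrArg (fun k => k.hom.app (op (EtCoh.top T))) (bcHom_naturality f σ a)
    refine (Category.assoc _ _ _).symm.trans ((congrArg (· ≫ _) h).trans ?_)
    refine (Category.assoc _ _ _).trans (Eq.trans ?_ (Category.assoc _ _ _).symm)
    refine congrArg ((bcHom f σ F).hom.app (op (EtCoh.top T)) ≫ ·) ?_
    exact (((EtCoh.pull (pullback.fst f σ)).map a).hom.naturality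
      (EtCore.bcTopIso (pullback.snd f σ)).inv.op).symm

end Map

section System

variable {X S T : Scheme.{u}} (f : X ⟶ S) [QuasiCompact f] [QuasiSeparated f] {σ : T ⟶ S}
  (P : EtPres σ)

attribute [local instance] EtPres.cat EtPres.cofiltered EtPres.isAffine EtPres.etale
  IsCofiltered.nonempty

/-- The stages as objects of the étale site of the base. -/
abbrev EtPres.st (i : P.I) : S.Etale := stageObj P.p i

/-- The transition maps. -/
abbrev EtPres.stMap {i j : P.I} (a : i ⟶ j) : P.st i ⟶ P.st j :=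
  stageObjMap P.p P.w a

/-- The base changed system. -/
def EtPres.bcD : P.I ⥤ Scheme.{u} where
  obj i := ((EtCoh.bc f).obj (P.st i)).left
  map a := ((EtCoh.bc f).map (P.stMap a)).left
  map_id i := by
    have : P.stMap (𝟙 i) = 𝟙 _ := MorphismProperty.Over.Hom.ext (P.D.map_id i)
    rw [this, CategoryTheory.Functor.map_id]
    rfl
  map_comp a b := by
    have : P.stMap (a ≫ b) = P.stMap a ≫ P.stMap b :=
      MorphismProperty.Over.Hom.ext (P.D.map_comp a b)
    rw [this, Functor.map_comp]
    rfl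

/-- The maps to the base. -/
def EtPres.bcp (i : P.I) : (P.bcD f).obj i ⟶ X := ((EtCoh.bc f).obj (P.st i)).hom

instance (i : P.I) : Etale (P.bcp f i) := ((EtCoh.bc f).obj (P.st i)).prop

omit [QuasiCompact f] [QuasiSeparated f] in
theorem EtPres.bcp_w (i j : P.I) (a : i ⟶ j) : (P.bcD f).map a ≫ P.bcp f j = P.bcp f i :=
  MorphismProperty.Over.w ((EtCoh.bc f).map (P.stMap a))

instance (i j : P.I) (a : i ⟶ j) : IsAffineHom (P.D.map a) := inferInstance

instance (i j : P.I) (a : i ⟶ j) : IsAffineHom ((P.bcD f).map a) :=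
  MorphismProperty.of_isPullback (P := @IsAffineHom) (EtCoh.isPullback_bc_map f (P.stMap a)).flip
    (show IsAffineHom (P.D.map a) from inferInstance)

instance (i : P.I) : CompactSpace ((P.bcD f).obj i) := by
  haveI : CompactSpace (P.st i).left := inferInstanceAs (CompactSpace (P.D.obj i))
  exact QuasiCompact.compactSpace_of_compactSpace (bcFst f (P.st i))

instance (i : P.I) : QuasiSeparatedSpace ((P.bcD f).obj i) := by
  haveI : QuasiSeparatedSpace (P.st i).left := inferInstanceAs (QuasiSeparatedSpace (P.D.obj i))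
  exact quasiSeparatedSpace_of_quasiSeparated (bcFst f (P.st i))

omit [QuasiCompact f] [QuasiSeparated f] in
theorem EtPres.bcπ_cond (i : P.I) :
    (pullback.snd f σ ≫ P.π.app i) ≫ (P.st i).hom = pullback.fst f σ ≫ f := by
  refine (Category.assoc _ _ _).trans ?_
  refine (congrArg (pullback.snd f σ ≫ ·) ((congrArg (P.π.app i ≫ ·) (Category.id_comp _)).trans
    (P.fac i))).trans ?_
  exact pullback.condition.symm

/-- The projections of the base changed system. -/
def EtPres.bcπ (i : P.I) : pullback f σ ⟶ (P.bcD f).obj i :=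
  pullback.lift (pullback.snd f σ ≫ P.π.app i) (pullback.fst f σ) (P.bcπ_cond f i)

omit [QuasiCompact f] [QuasiSeparated f] in
theorem EtPres.bcπ_fst (i : P.I) :
    P.bcπ f i ≫ bcFst f (P.st i) = pullback.snd f σ ≫ P.π.app i :=
  pullback.lift_fst _ _ _

omit [QuasiCompact f] [QuasiSeparated f] in
theorem EtPres.bcπ_bcp (i : P.I) : P.bcπ f i ≫ P.bcp f i = pullback.fst f σ :=
  pullback.lift_snd _ _ _

/-- The base changed cone. -/
def EtPres.bcCone : Cone (P.bcD f) where
  pt := pullback f σ
  π :=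
    { app := fun i => P.bcπ f i
      naturality := fun i j a => by
        refine (Category.id_comp _).trans (pullback.hom_ext ?_ ?_)
        · refine (P.bcπ_fst f j).trans (Eq.trans ?_ (Category.assoc _ _ _).symm)
          refine Eq.trans ?_ (congrArg (P.bcπ f i ≫ ·) (bc_map_fst (P.stMap a))).symm
          refine Eq.trans ?_ (Category.assoc _ _ _)
          refine Eq.trans ?_ (congrArg (· ≫ P.D.map a) (P.bcπ_fst f i)).symm
          refine Eq.trans ?_ (Category.assoc _ _ _).symm
          exact congrArg (pullback.snd f σ ≫ ·) ((Cone.mk T P.π).w a).symm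
        · refine (P.bcπ_bcp f j).trans (Eq.trans ?_ (Category.assoc _ _ _).symm)
          exact (P.bcπ_bcp f i).symm.trans (congrArg (P.bcπ f i ≫ ·) (P.bcp_w f i j a).symm) }

omit [QuasiCompact f] [QuasiSeparated f] in
theorem EtPres.cone_app_bcp_eq (s : Cone (P.bcD f)) (i j : P.I) :
    s.π.app i ≫ P.bcp f i = s.π.app j ≫ P.bcp f j := by
  have key : ∀ (k l : P.I) (a : k ⟶ l), s.π.app l ≫ P.bcp f l = s.π.app k ≫ P.bcp f k := by
    intro k l a
    rw [← s.w a, Category.assoc, P.bcp_w]
  rw [key _ _ (IsCofiltered.minToLeft i j), key _ _ (IsCofiltered.minToRight i j)]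

/-- The projection of a cone on the base changed system to the original one. -/
def EtPres.coneFst (s : Cone (P.bcD f)) : Cone P.D where
  pt := s.pt
  π :=
    { app := fun i => s.π.app i ≫ bcFst f (P.st i)
      naturality := fun i j a => by
        refine (Category.id_comp _).trans ?_
        rw [← s.w a]
        exact ((Category.assoc _ _ _).trans (congrArg (s.π.app i ≫ ·) (bc_map_fst (P.stMap a)))).trans
          (Category.assoc _ _ _).symm }

omit [QuasiCompact f] [QuasiSeparated f] in
theorem EtPres.lift_cond (s : Cone (P.bcD f)) (i : P.I) :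
    (s.π.app i ≫ P.bcp f i) ≫ f = P.isLimit.lift (P.coneFst f s) ≫ σ := by
  refine Eq.trans ?_ (congrArg (P.isLimit.lift (P.coneFst f s) ≫ ·) (P.fac i))
  refine Eq.trans ?_ (Category.assoc _ _ _)
  refine (Category.assoc _ _ _).trans ?_
  refine Eq.trans ?_ (congrArg (· ≫ P.p i) (P.isLimit.fac (P.coneFst f s) i)).symm
  refine Eq.trans ?_ (Category.assoc _ _ _).symm
  refine congrArg (s.π.app i ≫ ·) ?_
  exact (bcFst_w f (P.st i)).symm.trans (congrArg (bcFst f (P.st i) ≫ ·) (Category.id_comp _))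

/-- The base changed cone is a limit cone. -/
def EtPres.isLimitBcCone : IsLimit (P.bcCone f) where
  lift s := pullback.lift (s.π.app (Classical.arbitrary P.I) ≫ P.bcp f _)
    (P.isLimit.lift (P.coneFst f s)) (P.lift_cond f s _)
  fac s i := by
    refine pullback.hom_ext ?_ ?_
    · refine (Category.assoc _ _ _).trans ((congrArg (_ ≫ ·) (P.bcπ_fst f i)).trans ?_)
      refine (Category.assoc _ _ _).symm.trans ((congrArg (· ≫ P.π.app i) (pullback.lift_snd _ _ _)).trans ?_)
      exact P.isLimit.fac (P.coneFst f s) i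
    · refine (Category.assoc _ _ _).trans ((congrArg (_ ≫ ·) (P.bcπ_bcp f i)).trans ?_)
      exact (pullback.lift_fst _ _ _).trans (P.cone_app_bcp_eq f s _ i)
  uniq s m hm := by
    refine pullback.hom_ext ?_ ?_
    · refine Eq.trans ?_ (pullback.lift_fst _ _ _).symm
      rw [← hm, Category.assoc]
      exact congrArg (m ≫ ·) (P.bcπ_bcp f _).symm
    · refine Eq.trans ?_ (pullback.lift_snd _ _ _).symm
      refine P.isLimit.uniq (P.coneFst f s) _ fun i => ?_
      show (m ≫ pullback.snd f σ) ≫ P.π.app i = s.π.app i ≫ bcFst f (P.st i)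
      rw [← hm i, Category.assoc, Category.assoc]
      exact congrArg (m ≫ ·) (P.bcπ_fst f i).symm

variable (F : EtCoh.Ab X)

/-- A stage of the base changed system seen in the étale site of `X`. -/
def EtPres.toSt (i : P.I) : stageObj (P.bcp f) i ⟶ (EtCoh.bc f).obj (P.st i) :=
  MorphismProperty.Over.homMk (𝟙 ((P.bcD f).obj i))
    ((Category.id_comp _).trans (Category.id_comp _).symm) trivial

/-- The inverse of `toSt`. -/
def EtPres.ofSt (i : P.I) : (EtCoh.bc f).obj (P.st i) ⟶ stageObj (P.bcp f) i :=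
  MorphismProperty.Over.homMk (𝟙 ((P.bcD f).obj i))
    ((congrArg (𝟙 _ ≫ ·) (Category.id_comp _)).trans (Category.id_comp _)) trivial

section Restr

omit [QuasiCompact f] [QuasiSeparated f]

/-- The projection of the stage as a map of étale schemes. -/
def EtPres.stπ (i : P.I) : (EtCoh.top T).left ⟶ (P.st i).left := P.π.app i

theorem EtPres.stπ_w (i : P.I) : P.stπ i ≫ (P.st i).hom = (EtCoh.top T).hom ≫ σ :=
  π_w (c := Cone.mk T P.π) P.p σ P.fac i

variable (G : EtCoh.Ab S)

/-- Restriction of sections to the limit. -/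
def EtPres.res (i : P.I) : G.obj.obj (op (P.st i)) ⟶
    ((EtCoh.pull σ).obj G).obj.obj (op (EtCoh.top T)) :=
  (unit σ G).app (EtCoh.top T) (P.st i) (P.stπ i) (P.stπ_w i)

theorem EtPres.res_surjective (x : ((EtCoh.pull σ).obj G).obj.obj (op (EtCoh.top T))) :
    ∃ (i : P.I) (t : G.obj.obj (op (P.st i))), P.res G i t = x :=
  toLim_surjective (c := Cone.mk T P.π) P.isLimit P.p P.w σ P.fac G x

theorem EtPres.res_map {i j : P.I} (a : i ⟶ j) (t : G.obj.obj (op (P.st j))) :
    P.res G i (G.obj.map (P.stMap a).op t) = P.res G j t :=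
  toLim_map (c := Cone.mk T P.π) P.p P.w σ P.fac G a t

/-- Restriction of sections to the base changed limit. -/
def EtPres.resBc (i : P.I) : F.obj.obj (op (stageObj (P.bcp f) i)) ⟶
    ((EtCoh.pull (pullback.fst f σ)).obj F).obj.obj (op (EtCoh.top (pullback f σ))) :=
  toLim (c := P.bcCone f) (P.bcp f) (pullback.fst f σ) (P.bcπ_bcp f) F i

end Restr

theorem EtPres.resBc_surjective
    (y : ((EtCoh.pull (pullback.fst f σ)).obj F).obj.obj (op (EtCoh.top (pullback f σ)))) :
    ∃ (i : P.I) (z : F.obj.obj (op (stageObj (P.bcp f) i))), P.resBc f F i z = y :=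
  toLim_surjective (c := P.bcCone f) (P.isLimitBcCone f) (P.bcp f) (P.bcp_w f)
    (pullback.fst f σ) (P.bcπ_bcp f) F y

theorem EtPres.resBc_eq_zero {i : P.I} (z : F.obj.obj (op (stageObj (P.bcp f) i)))
    (h : P.resBc f F i z = 0) :
    ∃ (k : P.I) (a : k ⟶ i), F.obj.map (stageObjMap (P.bcp f) (P.bcp_w f) a).op z = 0 :=
  toLim_eq_zero (c := P.bcCone f) (P.isLimitBcCone f) (P.bcp f) (P.bcp_w f)
    (pullback.fst f σ) (P.bcπ_bcp f) F z h

omit [QuasiCompact f] [QuasiSeparated f] in
theorem EtPres.bcSec_res (i : P.I) (t : F.obj.obj (op ((EtCoh.bc f).obj (P.st i)))) :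
    (bcSec f σ).app F (P.res ((EtCoh.push f).obj F) i t) =
      P.resBc f F i (F.obj.map (P.toSt f i).op t) := by
  have hw := P.stπ_w i
  have h1 : (bcHom f σ F).hom.app (op (EtCoh.top T)) (P.res ((EtCoh.push f).obj F) i t) =
      (unit (pullback.fst f σ) F).app ((EtCoh.bc (pullback.snd f σ)).obj (EtCoh.top T))
        ((EtCoh.bc f).obj (P.st i)) (bcLift f σ (P.stπ i) hw) (bcLift_w f σ _ hw) t :=
    ConcreteCategory.congr_hom (congrArg (fun σ' : FHom σ ((EtCoh.push f).obj F) _ =>
      σ'.app (EtCoh.top T) (P.st i) (P.stπ i) hw) (unit_post_desc (bcFHom f σ F))) t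
  refine (congrArg (((EtCoh.pull (pullback.fst f σ)).obj F).obj.map
    (EtCore.bcTopIso (pullback.snd f σ)).inv.op) h1).trans ?_
  refine ((unit (pullback.fst f σ) F).app_map_apply (EtCore.bcTopIso (pullback.snd f σ)).inv
    (bcLift f σ (P.stπ i) hw) (bcLift_w f σ _ hw) (P.bcπ f i)
    ((P.bcπ_bcp f i).trans (Category.id_comp _).symm) (pullback.hom_ext ?_ ?_) t).trans ?_
  · refine Eq.trans ?_ (P.bcπ_fst f i).symm
    refine (Category.assoc _ _ _).trans ((congrArg (_ ≫ ·) (bcLift_fst f σ _ hw)).trans ?_)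
    refine (Category.assoc (EtCore.bcTopIso (pullback.snd f σ)).inv.left
      (bcFst (pullback.snd f σ) (EtCoh.top T)) (P.stπ i)).symm.trans ?_
    exact congrArg (fun k : (EtCoh.top (pullback f σ)).left ⟶ (EtCoh.top T).left => k ≫ P.stπ i)
      (bcTopIso_inv_fst (pullback.snd f σ))
  · refine Eq.trans ?_ (P.bcπ_bcp f i).symm
    refine (Category.assoc _ _ _).trans ((congrArg (_ ≫ ·) (bcLift_w f σ _ hw)).trans ?_)
    refine (Category.assoc _ _ _).symm.trans ?_
    exact (congrArg (· ≫ pullback.fst f σ)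
      (MorphismProperty.Over.w (EtCore.bcTopIso (pullback.snd f σ)).inv)).trans (Category.id_comp _)
  · exact ((unit (pullback.fst f σ) F).map_app_apply (W := EtCoh.top (pullback f σ))
      (U := stageObj (P.bcp f) i) (U' := (EtCoh.bc f).obj (P.st i)) (P.toSt f i) (P.bcπ f i)
      (π_w (c := P.bcCone f) (P.bcp f) (pullback.fst f σ) (P.bcπ_bcp f) i) (P.bcπ f i)
      ((P.bcπ_bcp f i).trans (Category.id_comp _).symm) (Category.comp_id (P.bcπ f i)) t).symm

omit [QuasiCompact f] [QuasiSeparated f] in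
theorem EtPres.map_stMap_eq_zero {i k : P.I} (a : k ⟶ i)
    (t : F.obj.obj (op ((EtCoh.bc f).obj (P.st i))))
    (h : F.obj.map (stageObjMap (P.bcp f) (P.bcp_w f) a).op (F.obj.map (P.toSt f i).op t) = 0) :
    ((EtCoh.push f).obj F).obj.map (P.stMap a).op t = 0 := by
  show F.obj.map ((EtCoh.bc f).map (P.stMap a)).op t = 0
  have := congrArg (F.obj.map (P.ofSt f k).op) h
  rw [map_zero] at this
  refine Eq.trans ?_ this
  rw [← ConcreteCategory.comp_apply, ← ConcreteCategory.comp_apply, ← Functor.map_comp,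
    ← Functor.map_comp, ← op_comp, ← op_comp]
  refine congrArg (fun q : (EtCoh.bc f).obj (P.st k) ⟶ (EtCoh.bc f).obj (P.st i) =>
    F.obj.map q.op t) (MorphismProperty.Over.Hom.ext ?_)
  show ((EtCoh.bc f).map (P.stMap a)).left = (𝟙 _ ≫ (P.bcD f).map a) ≫ 𝟙 _
  rw [Category.comp_id, Category.id_comp]
  rfl

include P in
theorem bijective_bcSec : Function.Bijective ((bcSec f σ).app F) := by
  constructor
  · intro x₁ x₂ hx
    refine sub_eq_zero.1 ?_
    obtain ⟨i, t, ht⟩ := P.res_surjective ((EtCoh.push f).obj F) (x₁ - x₂)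
    have h1 : P.resBc f F i (F.obj.map (P.toSt f i).op t) = 0 :=
      (P.bcSec_res f F i t).symm.trans
        ((congrArg ((bcSec f σ).app F) ht).trans (((map_sub _ _ _).trans (sub_eq_zero.2 hx))))
    obtain ⟨k, a, ha⟩ := P.resBc_eq_zero f F _ h1
    refine ht.symm.trans ((P.res_map ((EtCoh.push f).obj F) a t).symm.trans ?_)
    exact (congrArg _ (P.map_stMap_eq_zero f F a t ha)).trans (map_zero _)
  · intro y
    obtain ⟨i, z, rfl⟩ := P.resBc_surjective f F y
    refine ⟨P.res ((EtCoh.push f).obj F) i (F.obj.map (P.ofSt f i).op z),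
      (P.bcSec_res f F i _).trans (congrArg _ ?_)⟩
    rw [← ConcreteCategory.comp_apply, ← Functor.map_comp, ← op_comp]
    have e : P.toSt f i ≫ P.ofSt f i = 𝟙 _ := MorphismProperty.Over.Hom.ext (Category.id_comp _)
    rw [e, op_id, CategoryTheory.Functor.map_id]
    rfl

include P in
theorem subsingleton_H_pullback_of_injective (J : EtCoh.Ab X) [Injective J] (q : ℕ) :
    Subsingleton (EtCoh.H (pullback f σ) ((EtCoh.pull (pullback.fst f σ)).obj J) (q + 1)) :=
  subsingleton_H_of_injective (c := P.bcCone f) (P.isLimitBcCone f) (P.bcp f) (P.bcp_w f)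
    (pullback.fst f σ) (P.bcπ_bcp f) J q

end System

end Groth.Agent.EtLimit
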