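import Groth.Agent.EtLimit.FHom

/-!
# Elementwise forms of the identities for `f`-morphisms
-/

set_option autoImplicit false
set_option backward.isDefEq.respectTransparency false

universe u

open CategoryTheory CategoryTheory.Limits AlgebraicGeometry Opposite

noncomputable section

namespace Groth.Agent.EtLimit

namespace FHom

variable {A B C : Scheme.{u}} {f : A ⟶ B}

theorem app_of_eq {G : EtCoh.Ab B} {H : EtCoh.Ab A} {σ τ : FHom f G H} (e : σ = τ) (W : A.Etale)
    (U : B.Etale) (w : W.left ⟶ U.left) (hw : w ≫ U.hom = W.hom ≫ f) (x : G.obj.obj (op U)) :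
    σ.app W U w hw x = τ.app W U w hw x := by
  subst e; rfl

theorem post_app_apply {G : EtCoh.Ab B} {H H' : EtCoh.Ab A} (σ : FHom f G H) (a : H ⟶ H')
    (W : A.Etale) (U : B.Etale) (w : W.left ⟶ U.left) (hw : w ≫ U.hom = W.hom ≫ f)
    (x : G.obj.obj (op U)) :
    (σ.post a).app W U w hw x = a.hom.app (op W) (σ.app W U w hw x) :=
  rfl

theorem pre_app_apply {G G' : EtCoh.Ab B} {H : EtCoh.Ab A} (a : G' ⟶ G) (σ : FHom f G H)
    (W : A.Etale) (U : B.Etale) (w : W.left ⟶ U.left) (hw : w ≫ U.hom = W.hom ≫ f)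
    (x : G'.obj.obj (op U)) :
    (σ.pre a).app W U w hw x = σ.app W U w hw (a.hom.app (op U) x) :=
  rfl

theorem pull_map_unit_apply (f : A ⟶ B) {G G' : EtCoh.Ab B} (a : G ⟶ G') (W : A.Etale) (U : B.Etale)
    (w : W.left ⟶ U.left) (hw : w ≫ U.hom = W.hom ≫ f) (x : G.obj.obj (op U)) :
    ((EtCoh.pull f).map a).hom.app (op W) ((unit f G).app W U w hw x) =
      (unit f G').app W U w hw (a.hom.app (op U) x) := by
  rw [← post_app_apply, app_of_eq (unit_post_map a) W U w hw x, pre_app_apply]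

theorem κ_unit_apply (f : A ⟶ B) (g : B ⟶ C) {h : A ⟶ C} (e : f ≫ g = h) (G : EtCoh.Ab C)
    {W : A.Etale} {V : B.Etale} {U : C.Etale}
    (w₁ : W.left ⟶ V.left) (h₁ : w₁ ≫ V.hom = W.hom ≫ f) (w₂ : V.left ⟶ U.left)
    (h₂ : w₂ ≫ U.hom = V.hom ≫ g) (w : W.left ⟶ U.left) (hw : w ≫ U.hom = W.hom ≫ h)
    (he : w₁ ≫ w₂ = w) (x : G.obj.obj (op U)) :
    (κ f g e G).hom.hom.app (op W)
        ((unit f ((EtCoh.pull g).obj G)).app W V w₁ h₁ ((unit g G).app V U w₂ h₂ x)) =
      (unit h G).app W U w hw x := by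
  rw [comp_app_apply (unit g G) (unit f ((EtCoh.pull g).obj G)) e w₁ h₁ w₂ h₂ w hw he,
    ← post_app_apply, app_of_eq (unit_comp_unit_post_κ f g e G) W U w hw x]

theorem iso_inv_hom_apply {G H : EtCoh.Ab A} (e : G ≅ H) (W : A.Etale) (x : H.obj.obj (op W)) :
    e.hom.hom.app (op W) (e.inv.hom.app (op W) x) = x :=
  ConcreteCategory.congr_hom (congrArg (fun m => m.hom.app (op W)) e.inv_hom_id) x

theorem iso_app_eq_zero {G H : EtCoh.Ab A} (e : G ≅ H) (W : A.Etale) (x : G.obj.obj (op W))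
    (h : e.hom.hom.app (op W) x = 0) : x = 0 := by
  have := congrArg (e.inv.hom.app (op W)) h
  rw [map_zero] at this
  exact (ConcreteCategory.congr_hom (congrArg (fun m => m.hom.app (op W)) e.hom_inv_id) x).symm.trans this

theorem comp_hom_app_apply {G H K : EtCoh.Ab A} (a : G ⟶ H) (b : H ⟶ K) (W : A.Etale)
    (x : G.obj.obj (op W)) :
    (a ≫ b).hom.app (op W) x = b.hom.app (op W) (a.hom.app (op W) x) :=
  rfl

end FHom

end Groth.Agent.EtLimit
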