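import Groth.Agent.EtLimit.Main
import Groth.Agent.EtLimit.Apply
import Groth.Agent.EtaleSite.OpenImm
import Groth.Agent.EtSupp.ExtZero

/-!
# Limits of schemes étale over a fixed base

For a cofiltered limit of qcqs schemes with affine transition maps, all étale over a scheme `X`,
the sections of a pulled back sheaf on the limit are the colimit of the sections over the stages,
and pullbacks of injectives are acyclic.
-/

set_option autoImplicit false
set_option backward.isDefEq.respectTransparency false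

universe u

open CategoryTheory CategoryTheory.Limits AlgebraicGeometry Opposite CategoryTheory.Abelian

noncomputable section

namespace Groth.Agent.EtLimit

open FHom

section Etale

variable {Y X : Scheme.{u}} (q : Y ⟶ X) [Etale q]

/-- The object `W` seen over the base of an étale morphism. -/
abbrev over (W : Y.Etale) : X.Etale := (EtShriek.compEtale q).obj W

theorem over_w (W : Y.Etale) : (𝟙 W.left : W.left ⟶ (over q W).left) ≫ (over q W).hom = W.hom ≫ q :=
  Category.id_comp _

/-- Restriction as an `f`-morphism. -/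
def restrFHom [EtShriek.JCont q] (F : EtCoh.Ab X) :
    FHom q F ((EtShriek.restrAlong q).obj F) where
  app W U w hw := F.obj.map (MorphismProperty.Over.homMk w hw trivial : over q W ⟶ U).op
  naturality {W' W U U'} h g w hw w' hw' e := by
    show F.obj.map g.op ≫ F.obj.map _ ≫ F.obj.map ((EtShriek.compEtale q).map h).op = F.obj.map _
    rw [← Functor.map_comp, ← Functor.map_comp, ← op_comp, ← op_comp]
    refine congrArg (fun k : over q W' ⟶ U' => F.obj.map k.op) (MorphismProperty.Over.Hom.ext ?_)
    exact (Category.assoc _ _ _).trans e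

/-- The map from restriction to the inverse image. -/
def restrToPull [EtShriek.JCont q] (F : EtCoh.Ab X) :
    (EtShriek.restrAlong q).obj F ⟶ (EtCoh.pull q).obj F :=
  ObjectProperty.homMk
    { app := fun W => (unit q F).app W.unop (over q W.unop) (𝟙 W.unop.left) (over_w q W.unop)
      naturality := fun W W' h => by
        refine ((unit q F).map_app (U := over q W'.unop) (U' := over q W.unop)
          ((EtShriek.compEtale q).map h.unop) _ (over_w q W'.unop) h.unop.left ?_
          (Category.id_comp _)).trans ?_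
        · exact (congrArg (h.unop.left ≫ ·) (show (over q W.unop).hom = W.unop.hom ≫ q from rfl)).trans
            ((Category.assoc _ _ _).symm.trans (congrArg (· ≫ q) (MorphismProperty.Over.w h.unop)))
        · exact ((unit q F).app_map h.unop _ (over_w q W.unop) h.unop.left _
            (Category.comp_id _)).symm }

/-- Sections of the inverse image along an étale morphism. -/
theorem bijective_unit_etale (F : EtCoh.Ab X) (W : Y.Etale) :
    Function.Bijective ((unit q F).app W (over q W) (𝟙 W.left) (over_w q W)) := by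
  let φ := (restrFHom q F).desc
  let ψ := restrToPull q F
  have h1 : ∀ x, φ.hom.app (op W) ((unit q F).app W (over q W) (𝟙 W.left) (over_w q W) x) = x := by
    intro x
    have h : ((unit q F).post φ).app W (over q W) (𝟙 W.left) (over_w q W) =
        (restrFHom q F).app W (over q W) (𝟙 W.left) (over_w q W) := by
      rw [unit_post_desc]
    refine (ConcreteCategory.congr_hom h x).trans ?_
    show F.obj.map _ x = x
    have e : (MorphismProperty.Over.homMk (𝟙 W.left) (over_w q W) trivial : over q W ⟶ over q W) =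
        𝟙 _ := MorphismProperty.Over.Hom.ext rfl
    erw [e, op_id, CategoryTheory.Functor.map_id]
    rfl
  have h2 : φ ≫ ψ = 𝟙 _ := by
    refine unit_post_inj ?_
    rw [post_id, ← post_post, unit_post_desc]
    ext W U w hw : 5
    exact (unit q F).map_app _ _ _ _ hw (Category.id_comp _)
  refine ⟨fun x y h => (h1 x).symm.trans ((congrArg _ h).trans (h1 y)), fun t => ⟨φ.hom.app (op W) t, ?_⟩⟩
  exact ConcreteCategory.congr_hom (congrArg (fun k => k.hom.app (op W)) h2) t

end Etale

/-- Pulling back global sections along a composite. -/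
theorem s₀_HpullVia {A B C : Scheme.{u}} (f : A ⟶ B) (g : B ⟶ C) (h : A ⟶ C) (e : f ≫ g = h)
    (G : EtCoh.Ab C) (x : EtCoh.H B ((EtCoh.pull g).obj G) 0) :
    s₀ ((EtCoh.pull h).obj G) (EtCore.HpullVia f g h e G 0 x) =
      (κ f g e G).hom.hom.app (op (EtCoh.top A))
        ((unit f _).app (EtCoh.top A) (EtCoh.top B) f (top_w f) (s₀ _ x)) := by
  rw [EtaleSite.HpullFunctor.HpullVia_apply, ← Sheaf.H.map_apply]
  refine (Sheaf.H.equiv₀_naturality (EtCore.topIsTerminal A) _ _).symm.trans ?_
  exact congrArg _ (s₀_Hpull f _ x)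

variable {I : Type u} [SmallCategory I] [IsCofiltered I] {D : I ⥤ Scheme.{u}} {c : Cone D}
  (hc : IsLimit c) [∀ (i j : I) (a : i ⟶ j), IsAffineHom (D.map a)]
  [∀ i, CompactSpace (D.obj i)] [∀ i, QuasiSeparatedSpace (D.obj i)]
  {X : Scheme.{u}} (p : ∀ i, D.obj i ⟶ X) [∀ i, Etale (p i)]
  (hp : ∀ (i j : I) (a : i ⟶ j), D.map a ≫ p j = p i)
  (g : c.pt ⟶ X) (hg : ∀ i, c.π.app i ≫ p i = g)

/-- A stage as an object of the étale site of the base. -/
abbrev stageObj (i : I) : X.Etale := over (p i) (EtCoh.top (D.obj i))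

omit [IsCofiltered I] [∀ (i j : I) (a : i ⟶ j), IsAffineHom (D.map a)]
  [∀ i, CompactSpace (D.obj i)] [∀ i, QuasiSeparatedSpace (D.obj i)] in
include hp in
theorem stageObj_w {i j : I} (a : i ⟶ j) :
    D.map a ≫ (stageObj p j).hom = (stageObj p i).hom := by
  refine (congrArg (D.map a ≫ ·) (Category.id_comp _)).trans ?_
  exact (hp i j a).trans (Category.id_comp _).symm

/-- The transition maps in the étale site of the base. -/
def stageObjMap {i j : I} (a : i ⟶ j) : stageObj p i ⟶ stageObj p j :=
  MorphismProperty.Over.homMk (D.map a) (stageObj_w p hp a) trivial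

omit [IsCofiltered I] [∀ (i j : I) (a : i ⟶ j), IsAffineHom (D.map a)]
  [∀ i, CompactSpace (D.obj i)] [∀ i, QuasiSeparatedSpace (D.obj i)] in
include hg in
theorem π_w (i : I) : c.π.app i ≫ (stageObj p i).hom = (EtCoh.top c.pt).hom ≫ g :=
  ((congrArg (c.π.app i ≫ ·) (Category.id_comp _)).trans (hg i)).trans (Category.id_comp g).symm

variable (F : EtCoh.Ab X)

/-- Restriction of sections from a stage to the limit. -/
def toLim (i : I) : F.obj.obj (op (stageObj p i)) ⟶
    ((EtCoh.pull g).obj F).obj.obj (op (EtCoh.top c.pt)) :=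
  (unit g F).app (EtCoh.top c.pt) (stageObj p i) (c.π.app i) (π_w p g hg i)

omit [IsCofiltered I] [∀ (i j : I) (a : i ⟶ j), IsAffineHom (D.map a)]
  [∀ i, CompactSpace (D.obj i)] [∀ i, QuasiSeparatedSpace (D.obj i)] in
include hp in
theorem toLim_map {i j : I} (a : i ⟶ j) (z : F.obj.obj (op (stageObj p j))) :
    toLim p g hg F i (F.obj.map (stageObjMap p hp a).op z) = toLim p g hg F j z :=
  (unit g F).map_app_apply (stageObjMap p hp a) _ _ _ _ (c.w a) z

omit [IsCofiltered I] [∀ (i j : I) (a : i ⟶ j), IsAffineHom (D.map a)]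
  [∀ i, CompactSpace (D.obj i)] [∀ i, QuasiSeparatedSpace (D.obj i)] in
theorem toLim_eq (i : I) (z : F.obj.obj (op (stageObj p i))) :
    toLim p g hg F i z = (κ (c.π.app i) (p i) (hg i) F).hom.hom.app (op (EtCoh.top c.pt))
      ((unit (c.π.app i) _).app (EtCoh.top c.pt) (EtCoh.top (D.obj i)) (c.π.app i) (top_w _)
        ((unit (p i) F).app (EtCoh.top (D.obj i)) (stageObj p i) (𝟙 _) (over_w _ _) z)) := by
  exact (κ_unit_apply (c.π.app i) (p i) (hg i) F (W := EtCoh.top c.pt) (V := EtCoh.top (D.obj i))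
    (U := stageObj p i) (c.π.app i) (top_w _) (𝟙 _) (over_w (p i) _)
    (c.π.app i) (π_w p g hg i) (Category.comp_id (c.π.app i)) z).symm

include hc hp in
set_option maxHeartbeats 800000 in
/-- Every global section on the limit comes from a stage. -/
theorem toLim_surjective (y : EtCoh.sect ((EtCoh.pull g).obj F) (EtCoh.top c.pt)) :
    ∃ (i : I) (z : F.obj.obj (op (stageObj p i))), toLim p g hg F i z = y := by
  obtain ⟨i₀⟩ := IsCofiltered.nonempty (C := I)
  let e := κ (c.π.app i₀) (p i₀) (hg i₀) F
  obtain ⟨k, a, η, hη⟩ := (limit_cohomology hc 0).1 i₀ ((EtCoh.pull (p i₀)).obj F)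
    ((s₀ _).symm (e.inv.hom.app (op (EtCoh.top c.pt)) y))
  let e' := κ (D.map a) (p i₀) (hp k i₀ a) F
  obtain ⟨z, hz⟩ := (bijective_unit_etale (p k) F (EtCoh.top (D.obj k))).2
    (e'.hom.hom.app (op (EtCoh.top (D.obj k))) (s₀ _ η))
  refine ⟨k, z, ?_⟩
  have h1 : e.inv.hom.app (op (EtCoh.top c.pt)) y =
      (κ (c.π.app k) (D.map a) (c.w a) ((EtCoh.pull (p i₀)).obj F)).hom.hom.app
        (op (EtCoh.top c.pt)) ((unit (c.π.app k) _).app (EtCoh.top c.pt) (EtCoh.top (D.obj k))
          (c.π.app k) (top_w _) (s₀ _ η)) :=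
    ((s₀ _).apply_symm_apply _).symm.trans ((congrArg (s₀ _) hη.symm).trans (s₀_HpullVia _ _ _ _ _ _))
  rw [toLim_eq, hz, ← pull_map_unit_apply, ← comp_hom_app_apply,
    κ_assoc (c.π.app k) (D.map a) (p i₀) (c.w a) (hp k i₀ a) (hg k) (hg i₀) F, comp_hom_app_apply,
    ← h1]
  exact iso_inv_hom_apply e _ y

include hc in
set_option maxHeartbeats 800000 in
/-- A section on a stage vanishing on the limit vanishes on a further stage. -/
theorem toLim_eq_zero {j : I} (z : F.obj.obj (op (stageObj p j))) (h : toLim p g hg F j z = 0) :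
    ∃ (k : I) (a : k ⟶ j), F.obj.map (stageObjMap p hp a).op z = 0 := by
  let z₁ := (unit (p j) F).app (EtCoh.top (D.obj j)) (stageObj p j) (𝟙 _) (over_w _ _) z
  have h0 : EtCore.Hpull (c.π.app j) ((EtCoh.pull (p j)).obj F) 0 ((s₀ _).symm z₁) = 0 := by
    refine (s₀ _).injective (Eq.trans ?_ (map_zero _).symm)
    refine (s₀_Hpull (c.π.app j) _ _).trans ?_
    refine (congrArg _ ((s₀ _).apply_symm_apply z₁)).trans ?_
    exact iso_app_eq_zero (κ (c.π.app j) (p j) (hg j) F) _ _ ((toLim_eq p g hg F j z).symm.trans h)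
  obtain ⟨k, a, ha⟩ := (limit_cohomology hc 0).2 j _ _ h0
  refine ⟨k, a, (bijective_unit_etale (p k) F (EtCoh.top (D.obj k))).1 (Eq.trans ?_ (map_zero _).symm)⟩
  have h1 : (unit (D.map a) _).app (EtCoh.top (D.obj k)) (EtCoh.top (D.obj j)) (D.map a) (top_w _)
      z₁ = 0 :=
    ((congrArg _ ((s₀ _).apply_symm_apply z₁)).symm.trans ((s₀_Hpull (D.map a) _ _).symm.trans
      ((congrArg (s₀ _) ha).trans (map_zero _))))
  refine ((unit (p k) F).map_app_apply (stageObjMap p hp a) _ _ (D.map a)
    ((stageObj_w p hp a).trans rfl) (Category.id_comp _) z).trans ?_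
  refine (κ_unit_apply (D.map a) (p j) (hp k j a) F (W := EtCoh.top (D.obj k))
    (V := EtCoh.top (D.obj j)) (U := stageObj p j) (D.map a) (top_w _) (𝟙 _) (over_w (p j) _)
    (D.map a) ((stageObj_w p hp a).trans rfl) (Category.comp_id (D.map a)) z).symm.trans ?_
  exact (congrArg _ h1).trans (map_zero _)

include hc hp hg in
/-- Inverse images of injectives are acyclic. -/
theorem subsingleton_H_of_injective (J : EtCoh.Ab X) [Injective J] (q : ℕ) :
    Subsingleton (EtCoh.H c.pt ((EtCoh.pull g).obj J) (q + 1)) := by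
  obtain ⟨i₀⟩ := IsCofiltered.nonempty (C := I)
  refine subsingleton_of_forall_eq 0 fun y => ?_
  let e := κ (c.π.app i₀) (p i₀) (hg i₀) J
  obtain ⟨k, a, η, hη⟩ := (limit_cohomology hc (q + 1)).1 i₀ ((EtCoh.pull (p i₀)).obj J)
    (Sheaf.H.map e.inv (q + 1) y)
  haveI : Injective ((EtCoh.pull (p k)).obj J) := EtSupp.ExtZero.injective_pull (p k) J
  haveI : Injective ((EtCoh.pull (D.map a)).obj ((EtCoh.pull (p i₀)).obj J)) :=
    Injective.of_iso (κ (D.map a) (p i₀) (hp k i₀ a) J).symm inferInstance
  have h0 : η = 0 := Ext.eq_zero_of_injective η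
  subst h0
  rw [map_zero] at hη
  have := congrArg (Sheaf.H.map e.hom (q + 1)) hη
  rw [map_zero, ← Sheaf.H.map_comp_apply, e.inv_hom_id, Sheaf.H.map_id_apply] at this
  exact this.symm

end Groth.Agent.EtLimit
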