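import Groth.Agent.EtLimit.Systems
import Groth.Agent.EtColim.CohColim
import Groth.Agent.EtaleSite.CechTransport
import Mathlib.CategoryTheory.Sites.EpiMono

/-!
# The limit of a system of injective sheaves is compactly acyclic
-/

set_option autoImplicit false
set_option backward.isDefEq.respectTransparency false

universe w v u

open CategoryTheory CategoryTheory.Limits AlgebraicGeometry Opposite

noncomputable section

namespace Groth.Agent.EtLimit

section Transport

open Groth.Agent.EtaleSite.CechPre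

variable {C : Type u} [Category.{v} C] {U U' : C} [HasFiniteProducts (Over U)]
  [HasFiniteProducts (Over U')] {ι : Type w} {Uf : ι → Over U} {Uf' : ι → Over U'} (e : U' ⟶ U)
  (w' : ∀ i, (Uf' i).left ⟶ (Uf i).left) (hw : ∀ i, w' i ≫ (Uf i).hom = (Uf' i).hom ≫ e)

/-- The map of iterated fibre products induced by a map of families. -/
def famMap {n : ℕ} (a : Fin (n + 1) → ι) : obj Uf' a ⟶ obj Uf a :=
  (Pi.lift fun k => (Over.homMk (π Uf' a k ≫ w' (a k)) (by
    rw [Category.assoc, hw, ← Category.assoc, π_hom]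
    rfl) : Over.mk ((∏ᶜ (Uf' ∘ a)).hom ≫ e) ⟶ Uf (a k)) :
      Over.mk ((∏ᶜ (Uf' ∘ a)).hom ≫ e) ⟶ ∏ᶜ (Uf ∘ a)).left

lemma famMap_π {n : ℕ} (a : Fin (n + 1) → ι) (k : Fin (n + 1)) :
    famMap e w' hw a ≫ π Uf a k = π Uf' a k ≫ w' (a k) := by
  show CommaMorphism.left _ ≫ (Pi.π (Uf ∘ a) k).left = _
  rw [← Over.comp_left, Pi.lift_π]
  rfl

lemma famMap_face {n : ℕ} (a : Fin (n + 2) → ι) (k : Fin (n + 2)) :
    face Uf' a k ≫ famMap e w' hw (a ∘ k.succAbove) = famMap e w' hw a ≫ face Uf a k :=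
  hom_ext Uf fun j => by
    rw [Category.assoc, Category.assoc, famMap_π, face_π, ← Category.assoc, face_π,
      famMap_π]
    rfl

variable (P : Cᵒᵖ ⥤ AddCommGrpCat.{w})

omit [HasFiniteProducts (Over U)] [HasFiniteProducts (Over U')] in
lemma map2 {A B B' : C} (g : A ⟶ B) (h : B ⟶ B') (x : P.obj (op B')) :
    P.map g.op (P.map h.op x) = P.map (g ≫ h).op x := by
  rw [op_comp, Functor.map_comp, ConcreteCategory.comp_apply]

/-- Cochains pulled back along a map of families. -/
def famPull {n : ℕ} (x : (EtCech.cechComplex Uf P).X n) : (EtCech.cechComplex Uf' P).X n :=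
  mk Uf' P fun a => P.map (famMap e w' hw a).op (comp Uf P a x)

lemma famPull_d {n : ℕ} (x : (EtCech.cechComplex Uf P).X n) :
    (EtCech.cechComplex Uf' P).d n (n + 1) (famPull e w' hw P x) =
      famPull e w' hw P ((EtCech.cechComplex Uf P).d n (n + 1) x) :=
  comp_ext Uf' P fun a => by
    rw [comp_d_apply, famPull, famPull, comp_mk, comp_d_apply, map_sum]
    refine Finset.sum_congr rfl fun k _ => ?_
    rw [comp_mk, map_zsmul, map2, map2, famMap_face]

omit e w' hw in
/-- Exactness of Čech complexes does not depend on the presentation of the family. -/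
theorem exact_of_iso (e : U' ≅ U) (w' : ∀ i, (Uf' i).left ≅ (Uf i).left)
    (hw : ∀ i, (w' i).hom ≫ (Uf i).hom = (Uf' i).hom ≫ e.hom) (p : ℕ)
    (h : ∀ x : (EtCech.cechComplex Uf' P).X (p + 1),
      (EtCech.cechComplex Uf' P).d (p + 1) (p + 1 + 1) x = 0 →
        ∃ y, (EtCech.cechComplex Uf' P).d p (p + 1) y = x)
    (x : (EtCech.cechComplex Uf P).X (p + 1))
    (hx : (EtCech.cechComplex Uf P).d (p + 1) (p + 1 + 1) x = 0) :
    ∃ y, (EtCech.cechComplex Uf P).d p (p + 1) y = x := by
  have hw₂ : ∀ i, (w' i).inv ≫ (Uf' i).hom = (Uf i).hom ≫ e.inv := fun i => by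
    rw [Iso.inv_comp_eq, ← Category.assoc, hw, Category.assoc, e.hom_inv_id, Category.comp_id]
  obtain ⟨y, hy⟩ := h (famPull e.hom (fun i => (w' i).hom) hw P x) (by
    rw [famPull_d, hx]
    exact comp_ext Uf' P fun a => by rw [famPull, comp_mk, map_zero, map_zero, map_zero])
  refine ⟨famPull e.inv (fun i => (w' i).inv) hw₂ P y, ?_⟩
  rw [famPull_d, hy]
  refine comp_ext Uf P fun a => ?_
  rw [famPull, famPull, comp_mk, comp_mk, map2]
  have : famMap e.inv (fun i => (w' i).inv) hw₂ a ≫ famMap e.hom (fun i => (w' i).hom) hw a = 𝟙 _ :=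
    hom_ext Uf fun k => by
      rw [Category.assoc, famMap_π, ← Category.assoc, famMap_π, Category.assoc,
        Iso.inv_hom_id, Category.comp_id, Category.id_comp]
  rw [this, op_id, CategoryTheory.Functor.map_id]
  rfl

end Transport

open FHom

universe u'

variable {X : Scheme.{u'}}

/-- A cocone of sheaves is colimiting as soon as it is so on sections over affine objects. -/
theorem nonempty_isColimit_of_sections {J : Type u'} [SmallCategory J] [IsFiltered J]
    {D : J ⥤ EtCoh.Ab X} (c : Cocone D)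
    (hrep : ∀ (U : X.Etale) [CompactSpace U.left] [QuasiSeparatedSpace U.left]
      (y : c.pt.obj.obj (op U)), ∃ (j : J) (z : (D.obj j).obj.obj (op U)),
        (c.ι.app j).hom.app (op U) z = y)
    (hzero : ∀ (U : X.Etale) [CompactSpace U.left] [QuasiSeparatedSpace U.left] (j : J)
      (z : (D.obj j).obj.obj (op U)), (c.ι.app j).hom.app (op U) z = 0 →
        ∃ (k : J) (φ : j ⟶ k), (D.map φ).hom.app (op U) z = 0) :
    Nonempty (IsColimit c) := by
  let f := colimit.desc D c
  have hf : ∀ j, colimit.ι D j ≫ f = c.ι.app j := fun j => colimit.ι_desc c j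
  have haff : ∀ (W : X.Etale) [IsAffine W.left], Function.Bijective (f.hom.app (op W)) := fun W _ => by
    refine ⟨(injective_iff_map_eq_zero (f.hom.app (op W)).hom).2 fun x hx => ?_, fun y => ?_⟩
    · obtain ⟨j, z, rfl⟩ := EtColim.Sections.exists_rep D _ (colimit.isColimit D) W x
      obtain ⟨k, φ, hk⟩ := hzero W j z (by rw [← hf]; exact hx)
      show (colimit.ι D j).hom.app (op W) z = 0
      rw [← colimit.w D φ]
      exact (congrArg ((colimit.ι D k).hom.app (op W)) hk).trans (map_zero _)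
    · obtain ⟨j, z, rfl⟩ := hrep W y
      exact ⟨(colimit.ι D j).hom.app (op W) z, by rw [← hf]; rfl⟩
  have hcover : ∀ W : X.Etale, ∃ (κ : Type u') (V : κ → X.Etale) (g : ∀ k, V k ⟶ W),
      (∀ k, IsAffine (V k).left) ∧ ∀ x : W.left, ∃ (k : κ) (v : (V k).left), (g k).left v = x := fun W => by
    haveI : Etale W.hom := W.prop
    let C := W.left.affineCover
    exact ⟨C.I₀, fun k => Scheme.Etale.mk (C.f k ≫ W.hom),
      fun k => MorphismProperty.Over.homMk (C.f k) rfl trivial,
      fun k => inferInstanceAs (IsAffine (Spec _)), fun x => by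
        obtain ⟨k, v, hv⟩ := C.exists_eq x
        exact ⟨k, v, hv⟩⟩
  have hinj : ∀ W : X.Etale, Function.Injective (f.hom.app (op W)) := fun W x x' hxx => by
    obtain ⟨κ, V, g, ha, hg⟩ := hcover W
    refine EtColim.Sections.ext_of_cover _ g hg x x' fun k => ?_
    have := ha k
    refine (haff (V k)).1 ?_
    rw [NatTrans.naturality_apply, NatTrans.naturality_apply, hxx]
  have hbij : ∀ W : X.Etale, Function.Bijective (f.hom.app (op W)) := fun W => by
    refine ⟨hinj W, fun y => ?_⟩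
    obtain ⟨κ, V, g, ha, hg⟩ := hcover W
    choose x hx using fun k => (have := ha k; (haff (V k)).2 (c.pt.obj.map (g k).op y))
    obtain ⟨T, hT, -⟩ := EtColim.Sections.exists_unique_glue _ g hg x fun k l => hinj _ (by
      rw [NatTrans.naturality_apply, NatTrans.naturality_apply, hx, hx,
        ← ConcreteCategory.comp_apply, ← Functor.map_comp, ← ConcreteCategory.comp_apply,
        ← Functor.map_comp, ← op_comp, ← op_comp, EtColim.Sections.overlap_w])
    refine ⟨T, EtColim.Sections.ext_of_cover c.pt g hg _ _ fun k => ?_⟩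
    rw [← NatTrans.naturality_apply, hT, hx]
  haveI : ∀ W, IsIso (f.hom.app W) := fun W =>
    (ConcreteCategory.isIso_iff_bijective _).2 (hbij W.unop)
  haveI : IsIso ((sheafToPresheaf X.smallEtaleTopology AddCommGrpCat.{u' + 1}).map f) :=
    @NatIso.isIso_of_isIso_app _ _ _ _ _ _ f.hom this
  haveI : IsIso f := isIso_of_fully_faithful (sheafToPresheaf X.smallEtaleTopology AddCommGrpCat.{u' + 1}) f
  exact ⟨(colimit.isColimit D).ofIsoColimit (Cocone.ext (asIso f) fun j => hf j)⟩

namespace Sys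

variable {I : Type u'} [SmallCategory I] {D : I ⥤ Scheme.{u'}} (S : Sys D) {c : Cone D}

/-- The transition map between two pushed forward stages. -/
def pushTrans {l : I} {m m' : Over l} (a : m' ⟶ m) :
    FHom (D.map m'.hom) ((EtCoh.push (D.map m.hom)).obj (S.E m.left)) (S.E m'.left) :=
  (ev (D.map m.hom) (S.E m.left)).comp (S.σ a.left)
    (show D.map a.left ≫ D.map m.hom = D.map m'.hom by rw [← D.map_comp, Over.w a])

theorem pushTrans_app {l : I} {m m' : Over l} (a : m' ⟶ m) (U : (D.obj l).Etale) :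
    (S.pushTrans a).app _ U (bcFst (D.map m'.hom) U) (bcFst_w _ U) =
      (S.σ a.left).app ((EtCoh.bc (D.map m'.hom)).obj U) ((EtCoh.bc (D.map m.hom)).obj U)
        (pullback.lift (bcFst (D.map m'.hom) U) (((EtCoh.bc (D.map m'.hom)).obj U).hom ≫ D.map a.left)
          ((bcFst_w _ _).trans (by rw [Category.assoc, ← D.map_comp, Over.w a])))
        (pullback.lift_snd _ _ _) := by
  show (ev (D.map m.hom) (S.E m.left)).app _ U (bcFst (D.map m.hom) U) (bcFst_w _ U) ≫ _ = _
  rw [ev_app]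
  exact Category.id_comp _

theorem pushTrans_comp {l : I} {m m' m'' : Over l} (a : m' ⟶ m) (b : m'' ⟶ m') :
    (S.pushTrans b).pre (S.pushTrans a).toPush = S.pushTrans (b ≫ a) := by
  rw [pushTrans, pushTrans, ← pre_comp, ev_pre, ofPush_toPush]
  ext W U w hw : 5
  refine (congrArg (fun σ => FHom.app σ W U w hw)
    (comp_assoc (ev (D.map m.hom) (S.E m.left)) (S.σ a.left) (S.σ b.left)
      (show D.map a.left ≫ D.map m.hom = D.map m'.hom by rw [← D.map_comp, Over.w a])
      (D.map_comp b.left a.left).symm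
      (show D.map b.left ≫ D.map m'.hom = D.map m''.hom by rw [← D.map_comp, Over.w b])
      (show D.map (b.left ≫ a.left) ≫ D.map m.hom = D.map m''.hom by
        rw [← D.map_comp, Category.assoc, Over.w a, Over.w b]))).trans ?_
  rw [S.σ_comp]
  rfl

/-- The pushed forward stages. -/
def pushDiag (l : I) : (Over l)ᵒᵖ ⥤ EtCoh.Ab (D.obj l) where
  obj m := (EtCoh.push (D.map m.unop.hom)).obj (S.E m.unop.left)
  map {m m'} a := (S.pushTrans a.unop).toPush
  map_id m := by
    refine Sheaf.hom_ext (NatTrans.ext (funext fun U => ?_))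
    refine (S.pushTrans_app (𝟙 m.unop) U.unop).trans ?_
    show (S.σ (𝟙 m.unop.left)).app _ _ _ _ = _
    rw [S.σ_id]
    refine (congrArg (fun q : (EtCoh.bc (D.map m.unop.hom)).obj U.unop ⟶ _ =>
      (S.E m.unop.left).obj.map q.op) (bc_hom_ext (a := MorphismProperty.Over.homMk _ _ trivial)
        (b := 𝟙 _) ((pullback.lift_fst _ _ _).trans (Category.id_comp _).symm))).trans ?_
    rw [op_id, CategoryTheory.Functor.map_id]
    rfl
  map_comp {m m' m''} a b := by
    rw [unop_comp, ← S.pushTrans_comp a.unop b.unop]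
    rfl

variable (c' : Cocone (S.pullDiag c))

/-- The pushed forward limit. -/
def pushCocone (l : I) : Cocone (S.pushDiag l) where
  pt := (EtCoh.push (c.π.app l)).obj c'.pt
  ι :=
    { app := fun m => ((ev (D.map m.unop.hom) (S.E m.unop.left)).comp (S.ρ c' m.unop.left)
        (c.w m.unop.hom)).toPush
      naturality := fun m m' a => by
        refine Eq.trans ?_ (Category.comp_id _).symm
        show ((S.pushTrans a.unop).toPush ≫ _) = _
        refine congrArg FHom.toPush (?_ : ((ev _ _).comp (S.ρ c' m'.unop.left)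
          (c.w m'.unop.hom)).pre (S.pushTrans a.unop).toPush = _)
        rw [← pre_comp, ev_pre, ofPush_toPush, pushTrans,
          comp_assoc (ev (D.map m.unop.hom) _) (S.σ a.unop.left) (S.ρ c' m'.unop.left)
            (show D.map a.unop.left ≫ D.map m.unop.hom = D.map m'.unop.hom by
              rw [← D.map_comp, Over.w a.unop])
            (c.w a.unop.left) (c.w m'.unop.hom) (c.w m.unop.hom), σ_comp_ρ] }

theorem pushCocone_app {l : I} (m : (Over l)ᵒᵖ) (U : (D.obj l).Etale) :
    ((S.pushCocone c' l).ι.app m).hom.app (op U) =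
      (S.ρ c' m.unop.left).app ((EtCoh.bc (c.π.app l)).obj U)
        ((EtCoh.bc (D.map m.unop.hom)).obj U) (stageMap c m.unop.hom U)
        (stageMap_w c m.unop.hom U) := by
  show (ev (D.map m.unop.hom) (S.E m.unop.left)).app _ U (bcFst (D.map m.unop.hom) U) (bcFst_w _ U) ≫ _ = _
  rw [ev_app]
  exact Category.id_comp _

variable [IsCofiltered I] (hc : IsLimit c) [∀ (i j : I) (a : i ⟶ j), IsAffineHom (D.map a)]
  [∀ i, CompactSpace (D.obj i)] [∀ i, QuasiSeparatedSpace (D.obj i)] (hc' : IsColimit c')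

include hc hc' in
/-- The pushforward of the limit to a stage is the colimit of the pushforwards. -/
theorem nonempty_isColimit_pushCocone (l : I) : Nonempty (IsColimit (S.pushCocone c' l)) := by
  refine nonempty_isColimit_of_sections _ (fun U _ _ y => ?_) (fun U _ _ m z hz => ?_)
  · obtain ⟨j, φ, z, hz⟩ := exists_stage_section c' hc hc' U y
    exact ⟨op (Over.mk φ), z,
      (ConcreteCategory.congr_hom (S.pushCocone_app c' (op (Over.mk φ)) U) z).trans hz⟩
  · obtain ⟨_, _⟩ := compact_qs_bc (D.map m.unop.hom) U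
    let U' := (EtCoh.bc (D.map m.unop.hom)).obj U
    replace hz := (ConcreteCategory.congr_hom (S.pushCocone_app c' m U) z).symm.trans hz
    have h1 : (S.ρ c' m.unop.left).app _ U' (bcFst (c.π.app m.unop.left) U') (bcFst_w _ _) z = 0 := by
      refine (app_map_apply _ (stageIso c m.unop.hom U).hom (stageMap c m.unop.hom U)
        (stageMap_w c m.unop.hom U) _ _ (stageIso_hom_stageMap c m.unop.hom U) z).symm.trans ?_
      exact (congrArg _ hz).trans (map_zero _)
    obtain ⟨k, φ, hk⟩ := exists_stage_eq_zero c' hc hc' U' z h1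
    let a : Over.mk (φ ≫ m.unop.hom) ⟶ m.unop := Over.homMk φ
    refine ⟨op (Over.mk (φ ≫ m.unop.hom)), a.op, ?_⟩
    refine (ConcreteCategory.congr_hom (S.pushTrans_app a U) z).trans ?_
    refine (app_map_apply (S.σ φ) (toBc (W := (EtCoh.bc (D.map (φ ≫ m.unop.hom))).obj U) (U := U')
      (f := D.map φ) _ (pullback.lift_snd _ _ _)) (bcFst (D.map φ) U') (bcFst_w _ _) _
      (pullback.lift_snd _ _ _) (toBc_fst _ _) z).symm.trans ?_
    exact (congrArg _ hk).trans (map_zero _)

theorem bc_map_stageIso (c : Cone D) {i j : I} (φ : j ⟶ i) {U V : (D.obj i).Etale} (g : V ⟶ U) :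
    (EtCoh.bc (c.π.app j)).map ((EtCoh.bc (D.map φ)).map g) ≫ (stageIso c φ U).hom =
      (stageIso c φ V).hom ≫ (EtCoh.bc (c.π.app i)).map g := by
  refine bc_hom_ext ?_
  refine (Category.assoc _ _ _).trans ((congrArg (_ ≫ ·) (stageIso_hom_fst c φ U)).trans ?_)
  refine Eq.trans ?_ (Category.assoc _ _ _).symm
  refine Eq.trans ?_ (congrArg (_ ≫ ·) (bc_map_fst g)).symm
  rw [← Category.assoc, bc_map_fst, Category.assoc, bc_map_fst, ← Category.assoc, ← Category.assoc]
  exact congrArg (· ≫ g.left) (stageIso_hom_fst c φ V).symm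

omit [IsCofiltered I] [∀ (i j : I) (a : i ⟶ j), IsAffineHom (D.map a)]
  [∀ i, CompactSpace (D.obj i)] [∀ i, QuasiSeparatedSpace (D.obj i)] in
theorem stage_square (c : Cone D) {m n₀ n : I} {φ₀ : n₀ ⟶ m} {φ : n ⟶ m} {s : n ⟶ n₀}
    (hs : s ≫ φ₀ = φ) (M : (D.obj m).Etale)
    (w : bcFst (D.map φ) M ≫ M.hom =
      (((EtCoh.bc (D.map φ)).obj M).hom ≫ D.map s) ≫ D.map φ₀ :=
        ((bcFst_w _ _).trans (by rw [Category.assoc, ← D.map_comp, hs]))) :
    bcFst (c.π.app n) ((EtCoh.bc (D.map φ)).obj M) ≫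
        (pullback.lift (bcFst (D.map φ) M) (((EtCoh.bc (D.map φ)).obj M).hom ≫ D.map s) w :
          ((EtCoh.bc (D.map φ)).obj M).left ⟶ ((EtCoh.bc (D.map φ₀)).obj M).left) =
      (stageIso c φ M).hom.left ≫ stageMap c φ₀ M := by
  refine pullback.hom_ext ?_ ?_
  · rw [Category.assoc, pullback.lift_fst, Category.assoc]
    exact ((congrArg ((stageIso c φ M).hom.left ≫ ·) (stageMap_fst _ _ _)).trans
      (stageIso_hom_fst _ _ _)).symm
  · rw [Category.assoc, pullback.lift_snd, Category.assoc]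
    refine Eq.trans ?_ (congrArg ((stageIso c φ M).hom.left ≫ ·) (stageMap_w c φ₀ M)).symm
    rw [← Category.assoc, bcFst_w, Category.assoc, c.w, ← Category.assoc,
      MorphismProperty.Over.w]

include hc in
set_option maxHeartbeats 1000000 in
/-- Finite coverings of quasi-compact quasi-separated objects descend. -/
theorem exists_stage_family (U : c.pt.Etale) [CompactSpace U.left] [QuasiSeparatedSpace U.left]
    {ι : Type (u' + 1)} [Finite ι] (Uf : ι → Over U) (hcι : ∀ k, CompactSpace (Uf k).left.left)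
    (hqι : ∀ k, QuasiSeparatedSpace (Uf k).left.left)
    (hU : ∀ x : U.left, ∃ (k : ι) (y : (Uf k).left.left), (Uf k).hom.left y = x) :
    ∃ (q : I) (U' : (D.obj q).Etale) (Uf' : ι → Over U') (e : (EtCoh.bc (c.π.app q)).obj U' ≅ U)
      (w' : ∀ k, (EtCoh.bc (c.π.app q)).obj (Uf' k).left ≅ (Uf k).left),
      CompactSpace U'.left ∧ QuasiSeparatedSpace U'.left ∧ (∀ k, CompactSpace (Uf' k).left.left) ∧
      (∀ k, QuasiSeparatedSpace (Uf' k).left.left) ∧
      (∀ x : U'.left, ∃ (k : ι) (y : (Uf' k).left.left), (Uf' k).hom.left y = x) ∧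
      ∀ k, (w' k).hom ≫ (Uf k).hom = (EtCoh.bc (c.π.app q)).map (Uf' k).hom ≫ e.hom := by
  classical
  obtain ⟨l₀, U₀, h₁, h₂, ⟨e₀⟩⟩ := exists_stage_obj hc U
  have hN : ∀ k, ∃ (l : I) (N : (D.obj l).Etale), CompactSpace N.left ∧
      QuasiSeparatedSpace N.left ∧ Nonempty ((EtCoh.bc (c.π.app l)).obj N ≅ (Uf k).left) := fun k => by
    have := hcι k; have := hqι k
    exact exists_stage_obj hc (Uf k).left
  choose il N hN₁ hN₂ eN using hN
  letI := Fintype.ofFinite ι
  obtain ⟨m, hm⟩ := IsCofiltered.inf_objs_exists (insert l₀ (Finset.univ.image il))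
  let α : m ⟶ l₀ := (hm (Finset.mem_insert_self _ _)).some
  let γ : ∀ k, m ⟶ il k := fun k => (hm (Finset.mem_insert_of_mem
    (Finset.mem_image_of_mem _ (Finset.mem_univ k)))).some
  let Um := (EtCoh.bc (D.map α)).obj U₀
  obtain ⟨hUm₁, hUm₂⟩ := compact_qs_bc (D.map α) U₀
  let em : (EtCoh.bc (c.π.app m)).obj Um ≅ U := stageIso c α U₀ ≪≫ e₀
  let M : ι → (D.obj m).Etale := fun k => (EtCoh.bc (D.map (γ k))).obj (N k)
  have hM : ∀ k, CompactSpace (M k).left ∧ QuasiSeparatedSpace (M k).left := fun k => by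
    have := hN₁ k; have := hN₂ k
    exact compact_qs_bc _ _
  let θ : ∀ k, (EtCoh.bc (c.π.app m)).obj (M k) ≅ (Uf k).left := fun k =>
    stageIso c (γ k) (N k) ≪≫ (eN k).some
  have hg : ∀ k, ∃ (n : I) (φ : n ⟶ m) (G : ((EtCoh.bc (D.map φ)).obj (M k)).left ⟶ Um.left),
      G ≫ Um.hom = ((EtCoh.bc (D.map φ)).obj (M k)).hom ≫ D.map (φ ≫ 𝟙 m) ∧
      stageMap c φ (M k) ≫ G =
        ((θ k).hom ≫ (Uf k).hom ≫ em.inv).left ≫ bcFst (c.π.app m) Um := fun k => by
    obtain ⟨_, _⟩ := hM k
    exact exists_stage_hom hc (𝟙 m) (M k) Um _ (by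
      rw [Category.assoc, bcFst_w, ← Category.assoc, MorphismProperty.Over.w])
  choose n₀ φ₀ G₀ hG₀ hG₁ using hg
  obtain ⟨n, φ, s, hs⟩ := IsCofiltered.wideCospan φ₀
  let Un := (EtCoh.bc (D.map φ)).obj Um
  let V : ι → (D.obj n).Etale := fun k => (EtCoh.bc (D.map φ)).obj (M k)
  let t : ∀ k, (V k).left ⟶ ((EtCoh.bc (D.map (φ₀ k))).obj (M k)).left := fun k =>
    pullback.lift (bcFst _ _) ((V k).hom ≫ D.map (s k))
      ((bcFst_w _ _).trans (by rw [Category.assoc, ← D.map_comp, hs]))
  have hG : ∀ k, (t k ≫ G₀ k) ≫ Um.hom = (V k).hom ≫ D.map φ := fun k => by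
    rw [Category.assoc, hG₀, ← Category.assoc,
      show t k ≫ ((EtCoh.bc (D.map (φ₀ k))).obj (M k)).hom = _ from pullback.lift_snd _ _ _,
      Category.assoc, ← D.map_comp, Category.comp_id, hs]
  let Γ : ∀ k, V k ⟶ Un := fun k => toBc (t k ≫ G₀ k) (hG k)
  have hΓ : ∀ k, (stageIso c φ (M k) ≪≫ θ k).hom ≫ (Uf k).hom =
      (EtCoh.bc (c.π.app n)).map (Γ k) ≫ (stageIso c φ Um ≪≫ em).hom := fun k => by
    simp only [Iso.trans_hom, Category.assoc]
    rw [← cancel_mono em.inv]
    simp only [Category.assoc, Iso.hom_inv_id, Category.comp_id]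
    refine bc_hom_ext ?_
    refine (Category.assoc _ _ _).trans ?_
    rw [← hG₁]
    refine Eq.symm ((Category.assoc _ _ _).trans ((congrArg (_ ≫ ·) (stageIso_hom_fst c φ Um)).trans ?_))
    rw [← Category.assoc, bc_map_fst, Category.assoc]
    refine (congrArg (bcFst (c.π.app n) (V k) ≫ ·) (toBc_fst _ _)).trans ?_
    rw [← Category.assoc, ← Category.assoc]
    exact congrArg (· ≫ G₀ k) (stage_square c (hs k) (M k))
  obtain ⟨hUn₁, hUn₂⟩ := compact_qs_bc (D.map φ) Um
  have hcov : ∀ y, ∃ (k : ι) (z : ((EtCoh.bc (c.π.app n)).obj (V k)).left),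
      ((EtCoh.bc (c.π.app n)).map (Γ k)).left z = y := fun y => by
    let en := stageIso c φ Um ≪≫ em
    obtain ⟨k, v, hv⟩ := hU (en.hom.left y)
    refine ⟨k, (stageIso c φ (M k) ≪≫ θ k).inv.left v, ?_⟩
    have h3 : (stageIso c φ (M k) ≪≫ θ k).inv ≫ (EtCoh.bc (c.π.app n)).map (Γ k) =
        (Uf k).hom ≫ en.inv := by
      rw [Iso.inv_comp_eq, ← Category.assoc, hΓ, Category.assoc, en.hom_inv_id, Category.comp_id]
    have h4 := congrArg (fun q => q.left v) h3
    refine (h4 : _).trans ?_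
    show en.inv.left ((Uf k).hom.left v) = y
    rw [hv]
    exact congrArg (fun q => q.left y) en.hom_inv_id
  obtain ⟨q, χ, hq⟩ := exists_stage_cover hc Γ hcov
  obtain ⟨hq₁, hq₂⟩ := compact_qs_bc (D.map χ) Un
  have hV : ∀ k, CompactSpace ((EtCoh.bc (D.map χ)).obj (V k)).left ∧
      QuasiSeparatedSpace ((EtCoh.bc (D.map χ)).obj (V k)).left := fun k => by
    obtain ⟨_, _⟩ := hM k
    obtain ⟨_, _⟩ := compact_qs_bc (D.map φ) (M k)
    exact compact_qs_bc _ _
  refine ⟨q, (EtCoh.bc (D.map χ)).obj Un, fun k => Over.mk ((EtCoh.bc (D.map χ)).map (Γ k)),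
    stageIso c χ Un ≪≫ stageIso c φ Um ≪≫ em,
    fun k => stageIso c χ (V k) ≪≫ stageIso c φ (M k) ≪≫ θ k,
    hq₁, hq₂, fun k => (hV k).1, fun k => (hV k).2, hq, fun k => ?_⟩
  show _ ≫ (Uf k).hom = (EtCoh.bc (c.π.app q)).map ((EtCoh.bc (D.map χ)).map (Γ k)) ≫ _
  simp only [Iso.trans_hom, Category.assoc]
  rw [← Category.assoc _ (stageIso c χ Un).hom, bc_map_stageIso, Category.assoc]
  refine congrArg ((stageIso c χ (V k)).hom ≫ ·) ?_
  simpa using hΓ k

include hc hc' in
/-- The limit of a system of injective sheaves is compactly acyclic. -/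
theorem isCompactAcyclic_of_injective (hI : ∀ i, Injective (S.E i)) :
    EtColim.CohColim.IsCompactAcyclic c'.pt := by
  intro U _ _ ι _ Uf hcι hqι hU p x hx
  obtain ⟨q, U', Uf', e, w', h₁, h₂, h₃, h₄, hcov, hw⟩ :=
    exists_stage_family hc U Uf hcι hqι hU
  let π := c.π.app q
  refine exact_of_iso c'.pt.obj (Uf' := EtaleSite.CechPre.postFam (EtCoh.bc π) Uf') e w'
    (fun k => hw k) p (fun x' hx' => ?_) x hx
  obtain ⟨E⟩ := EtaleSite.CechPre.nonempty_cechComplex_iso (EtCoh.bc π) Uf' c'.pt.obj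
  obtain ⟨hcol⟩ := S.nonempty_isColimit_pushCocone c' hc hc' q
  have hac := EtColim.CohColim.isCompactAcyclic_colimit hcol fun m =>
    haveI : Injective (S.E m.unop.left) := hI _
    haveI : Injective ((S.pushDiag q).obj m) :=
      Injective.injective_of_adjoint (EtCoh.pullPushAdj (D.map m.unop.hom)) (S.E m.unop.left)
    EtColim.CohColim.isCompactAcyclic_of_injective _
  obtain ⟨y, hy⟩ := hac U' ι Uf' h₃ h₄ hcov p ((E.hom.f (p + 1)) x') (by
    refine (ConcreteCategory.congr_hom (E.hom.comm (p + 1) (p + 1 + 1)) x').trans ?_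
    exact (congrArg (E.hom.f (p + 1 + 1)) hx').trans (map_zero _))
  refine ⟨E.inv.f p y, ?_⟩
  refine (ConcreteCategory.congr_hom (E.inv.comm p (p + 1)) y).trans ?_
  refine (congrArg (E.inv.f (p + 1)) hy).trans ?_
  exact ConcreteCategory.congr_hom
    ((HomologicalComplex.eval _ _ (p + 1)).mapIso E).hom_inv_id x'

end Sys

end Groth.Agent.EtLimit
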