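import Groth.Agent.EtLimit.BaseChange
import Groth.Agent.EtaleSite.SH
import Groth.Agent.HyperLib.DerivedHom
import Groth.Agent.ModShf.AcyclicRes
import Groth.Agent.ModShf.Flasque
import Groth.Prelude.Def_RDer

/-!
# Stalks of higher direct images
-/

set_option autoImplicit false
set_option backward.isDefEq.respectTransparency false

universe u

open CategoryTheory CategoryTheory.Limits AlgebraicGeometry Opposite CategoryTheory.Abelian

noncomputable section

namespace Groth.Agent.EtLimit

/-- The constant sheaf `ℤ` as the object corepresenting global sections. -/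
abbrev constInt (X : Scheme.{u}) : EtCoh.Ab X :=
  (constantSheaf X.smallEtaleTopology AddCommGrpCat.{u + 1}).obj (AddCommGrpCat.of (ULift.{u + 1} ℤ))

/-- Cohomology as `Ext` out of the constant sheaf. -/
def HFIso (X : Scheme.{u}) (n : ℕ) : EtCoh.HF X n ≅ extFunctorObj (constInt X) n :=
  NatIso.ofComponents (fun _ => Iso.refl _) (fun {F G} a => by
    ext x
    exact Sheaf.H.map_apply a x)

instance additive_gsec (X : Scheme.{u}) : (EtCore.gsec X).Additive where

theorem nonempty_gsec_rightDerived_iso (X : Scheme.{u}) (n : ℕ) :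
    Nonempty ((EtCore.gsec X).rightDerived n ≅ EtCoh.HF X n) := by
  haveI : PreservesFiniteLimits (EtCore.gsec X) :=
    haveI := (EtCore.constAdj X).rightAdjoint_preservesLimits
    inferInstance
  let e₀ : EtCore.gsec X ≅ EtCoh.HF X 0 :=
    NatIso.ofComponents (fun F => (s₀ F).symm.toAddCommGrpIso) (fun {F G} a => by
      ext x
      refine (s₀ G).injective (((s₀ G).apply_symm_apply _).trans ?_)
      refine Eq.trans ?_ (Sheaf.H.equiv₀_naturality (EtCore.topIsTerminal X) _ _)
      exact congrArg _ ((s₀ F).apply_symm_apply x).symm)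
  obtain ⟨e⟩ := Groth.Agent.HyperLib.DerivedHom.nonempty_rightDerived_iso (EtCore.gsec X)
    (Groth.Agent.HyperLib.DerivedHom.extDelta (constInt X))
    (fun m F => ⟨Injective.under F, Injective.ι F, inferInstance, by
      ext x
      exact Ext.eq_zero_of_injective _⟩)
    (e₀ ≪≫ HFIso X 0) n
  exact ⟨e ≪≫ (HFIso X n).symm⟩

/-- Sheaves without higher cohomology. -/
def gsecAcyclic (X : Scheme.{u}) : ObjectProperty (EtCoh.Ab X) :=
  fun F => ∀ q, Subsingleton (EtCoh.H X F (q + 1))

theorem gsecAcyclic_goodClass (X : Scheme.{u}) :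
    Groth.Agent.ModShf.AcyclicRes.GoodClass (EtCore.gsec X) (gsecAcyclic X) where
  of_injective F hF q := by
    haveI := hF
    exact subsingleton_of_forall_eq 0 fun (x : EtCoh.H X F (q + 1)) => Ext.eq_zero_of_injective x
  coker S hS h₁ h₂ q := by
    refine subsingleton_of_forall_eq 0 fun (x : EtCoh.H X S.X₃ (q + 1)) => ?_
    obtain ⟨y, rfl⟩ := Ext.covariant_sequence_exact₃ _ hS x (rfl : q + 1 + 1 = q + 1 + 1)
      (@Subsingleton.elim (EtCoh.H X S.X₁ (q + 1 + 1)) (h₁ (q + 1)) _ _)
    rw [@Subsingleton.elim (EtCoh.H X S.X₂ (q + 1)) (h₂ q) y 0]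
    simp
  epi S hS h₁ := by
    refine (AddCommGrpCat.epi_iff_surjective _).2 fun x => ?_
    obtain ⟨y, hy⟩ := Ext.covariant_sequence_exact₃ _ hS ((s₀ S.X₃).symm x) (rfl : 0 + 1 = 0 + 1)
      (@Subsingleton.elim (EtCoh.H X S.X₁ (0 + 1)) (h₁ 0) _ _)
    refine ⟨s₀ S.X₂ y, ?_⟩
    refine (Sheaf.H.equiv₀_naturality (EtCore.topIsTerminal X) S.g y).trans ?_
    refine (congrArg (s₀ S.X₃) ((Sheaf.H.map_apply S.g y).trans hy)).trans ?_
    exact (s₀ S.X₃).apply_symm_apply x

theorem nonempty_Rpush_stalk_iso {X S : Scheme.{u}} (f : X ⟶ S) [QuasiCompact f] [QuasiSeparated f]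
    (s : S) (R : Type u) [CommRing R] [IsLocalRing R] [Algebra (S.presheaf.stalk s) R]
    [IsLocalHom (algebraMap (S.presheaf.stalk s) R)]
    [Hensel.IsStrictHenselization (S.presheaf.stalk s) R]
    [IsSepClosed (IsLocalRing.ResidueField R)] (n : ℕ) :
    Nonempty (EtCoh.Rpush f n ⋙ EtCoh.stalk (Hens2.geomPt S s R) ≅
      EtCoh.pull (pullback.fst f (Hens2.specOf S s R)) ⋙
        EtCoh.HF (pullback f (Hens2.specOf S s R)) n) := by
  haveI : HenselianLocalRing R :=
    Hensel.IsStrictHenselization.henselian (R := S.presheaf.stalk s) (S := R)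
  let σ := Hens2.specOf S s R
  let g := pullback.fst f σ
  obtain ⟨P⟩ := nonempty_etPres S s R
  haveI : ∀ F, IsIso ((bcSec f σ).app F) := fun F =>
    (ConcreteCategory.isIso_iff_bijective _).2 (bijective_bcSec f P F)
  haveI : IsIso (bcSec f σ) := NatIso.isIso_of_isIso_app _
  let Φ : EtCoh.push f ⋙ EtCoh.stalk (Hens2.geomPt S s R) ≅
      EtCoh.pull g ⋙ EtCore.gsec (pullback f σ) :=
    Functor.isoWhiskerLeft (EtCoh.push f)
      ((EtaleSite.stalkPullIso σ (EtaleSite.closedPt R)).symm ≪≫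
        Functor.isoWhiskerLeft (EtCoh.pull σ) (EtaleSite.gsecIsoStalk R).symm) ≪≫
      asIso (bcSec f σ)
  haveI : PreservesFiniteLimits (EtCore.gsec (pullback f σ)) :=
    haveI := (EtCore.constAdj (pullback f σ)).rightAdjoint_preservesLimits
    inferInstance
  obtain ⟨e⟩ := nonempty_gsec_rightDerived_iso (pullback f σ) n
  exact ⟨(Groth.Agent.ModShf.rightDerivedCompIso (EtCoh.push f)
      (EtCoh.stalk (Hens2.geomPt S s R)) n).symm ≪≫ RDer.rightDerivedIso Φ n ≪≫
    Groth.Agent.ModShf.AcyclicRes.compareIso (EtCoh.pull g) (EtCore.gsec (pullback f σ))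
      (gsecAcyclic_goodClass _)
      (fun J hJ q => haveI := hJ; subsingleton_H_pullback_of_injective f P J q) n ≪≫
    Functor.isoWhiskerLeft (EtCoh.pull g) e⟩

end Groth.Agent.EtLimit
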