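import Groth.Agent.EtLimit.MainBase

/-!
# Étale cohomology of a limit of schemes: auxiliary steps
-/

set_option autoImplicit false
set_option backward.isDefEq.respectTransparency false

universe u

open CategoryTheory CategoryTheory.Limits AlgebraicGeometry Opposite CategoryTheory.Abelian

noncomputable section

namespace Groth.Agent.EtLimit

open FHom

variable {I : Type u} [SmallCategory I] [IsCofiltered I] {D : I ⥤ Scheme.{u}} {c : Cone D}
  (hc : IsLimit c) [∀ (i j : I) (a : i ⟶ j), IsAffineHom (D.map a)]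
  [∀ i, CompactSpace (D.obj i)] [∀ i, QuasiSeparatedSpace (D.obj i)]

include hc in
set_option maxHeartbeats 1000000 in
theorem injective_succ (q : ℕ)
    (ihs : ∀ (k : I) (F : EtCoh.Ab (D.obj k)) (z : EtCoh.H c.pt ((EtCoh.pull (c.π.app k)).obj F) q),
      ∃ (l : I) (a : l ⟶ k) (zl : EtCoh.H (D.obj l) ((EtCoh.pull (D.map a)).obj F) q),
        EtCore.HpullVia (c.π.app l) (D.map a) (c.π.app k) (c.w a) F q zl = z)
    (ihi : ∀ (k : I) (F : EtCoh.Ab (D.obj k)) (w : EtCoh.H (D.obj k) F q),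
      EtCore.Hpull (c.π.app k) F q w = 0 → ∃ (l : I) (b : l ⟶ k), EtCore.Hpull (D.map b) F q w = 0)
    (j : I) (G : EtCoh.Ab (D.obj j)) (y : EtCoh.H (D.obj j) G (q + 1))
    (hy : EtCore.Hpull (c.π.app j) G (q + 1) y = 0) :
    ∃ (k : I) (a : k ⟶ j), EtCore.Hpull (D.map a) G (q + 1) y = 0 := by
  let S := SiteCoh.DimShift.inj G
  have hS : S.ShortExact := SiteCoh.DimShift.inj_shortExact G
  obtain ⟨z, rfl⟩ := Ext.covariant_sequence_exact₁ _ hS y (Ext.eq_zero_of_injective _)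
    (rfl : q + 1 = q + 1)
  let π := c.π.app j
  replace hy := (EtaleSite.HpullSeq.Hpull_extClass π hS q z).symm.trans hy
  obtain ⟨r, hr⟩ := Ext.covariant_sequence_exact₃ _ (hS.map_of_exact (EtCoh.pull π))
    (EtCore.Hpull π S.X₃ q z) (rfl : q + 1 = q + 1) hy
  obtain ⟨k, a, rk, rfl⟩ := ihs j S.X₂ r
  let ga := (EtCoh.pull (D.map a)).map S.g
  let w := rk.comp (Ext.mk₀ ga) (add_zero q) - EtCore.Hpull (D.map a) S.X₃ q z
  let ν := (EtCore.pullComp (c.π.app k) (D.map a)).symm ≪≫ EtCore.pullCongr (c.w a)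
  have hvia : ∀ v, EtCore.HpullVia (c.π.app k) (D.map a) π (c.w a) S.X₃ q v =
      (EtCore.Hpull (c.π.app k) _ q v).comp (Ext.mk₀ (ν.hom.app S.X₃)) (add_zero q) :=
    fun v => rfl
  have h1 : EtCore.HpullVia (c.π.app k) (D.map a) π (c.w a) S.X₃ q w = 0 := by
    rw [map_sub, sub_eq_zero]
    have h2 : EtCore.HpullVia (c.π.app k) (D.map a) π (c.w a) S.X₃ q
        (EtCore.Hpull (D.map a) S.X₃ q z) = EtCore.Hpull π S.X₃ q z := by
      rw [hvia]
      have h3 := EtaleSite.HpullFunctor.Hpull_comp_comp (c.π.app k) (D.map a) q z (𝟙 _)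
        (ν.hom.app S.X₃) ((EtCore.pullCongr (c.w a)).hom.app S.X₃)
        (by simp [ν])
      simp only [Ext.comp_mk₀_id] at h3
      rw [h3]
      exact congr_transport (c.w a) S.X₃ q z
    rw [h2, ← hr, hvia, EtaleSite.HpullSeq.Hpull_postcomp, Ext.comp_assoc_of_second_deg_zero,
      Ext.mk₀_comp_mk₀, EtaleSite.HpullFunctor.HpullVia_apply,
      Ext.comp_assoc_of_second_deg_zero, Ext.mk₀_comp_mk₀]
    exact congrArg (fun g => Ext.comp _ (Ext.mk₀ g) (add_zero q)) (ν.hom.naturality S.g)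
  have h4 : EtCore.Hpull (c.π.app k) _ q w = 0 :=
    (EtaleSite.HpullComp.HF_map_bijective ((ν.app S.X₃).hom)).1
      (h1.trans (by simp))
  obtain ⟨l, b, hb⟩ := ihi k _ w h4
  rw [map_sub, sub_eq_zero] at hb
  refine ⟨l, b ≫ a, ?_⟩
  have h5 : EtCore.Hpull (D.map b) _ (q + 1)
      (EtCore.Hpull (D.map a) S.X₁ (q + 1) (z.comp hS.extClass rfl)) = 0 :=
    (congrArg (EtCore.Hpull (D.map b) _ (q + 1))
      (EtaleSite.HpullSeq.Hpull_extClass (D.map a) hS q z)).trans
      (Hpull_δ_eq_zero (D.map b) (hS.map_of_exact (EtCoh.pull (D.map a)))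
        (EtCore.Hpull (D.map a) S.X₃ q z) rk hb)
  have hcomp := (EtaleSite.HpullComp.Hpull_comp (D.map b) (D.map a) (q + 1) S.X₁
    (z.comp hS.extClass rfl)).trans h5
  exact Hpull_eq_zero (D.map_comp b a).symm S.X₁ (q + 1) _ hcomp

end Groth.Agent.EtLimit
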