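import Groth.Agent.EtLimit.MainSurj
import Groth.Agent.EtLimit.MainInj

/-!
# Étale cohomology of a limit of schemes

For a cofiltered limit of quasi-compact quasi-separated schemes with affine transition maps, the
cohomology of a sheaf pulled back from a stage is the colimit of the cohomology of the stages.
-/

set_option autoImplicit false
set_option backward.isDefEq.respectTransparency false

universe u

open CategoryTheory CategoryTheory.Limits AlgebraicGeometry Opposite CategoryTheory.Abelian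

noncomputable section

namespace Groth.Agent.EtLimit

open FHom

variable {I : Type u} [SmallCategory I] [IsCofiltered I] {D : I ⥤ Scheme.{u}} {c : Cone D}
  (hc : IsLimit c) [∀ (i j : I) (a : i ⟶ j), IsAffineHom (D.map a)]
  [∀ i, CompactSpace (D.obj i)] [∀ i, QuasiSeparatedSpace (D.obj i)]

attribute [local instance] CategoryTheory.isConnected_of_hasTerminal

omit [IsCofiltered I] in
theorem limit_cohomology_aux (p : ℕ) : ∀ {I : Type u} [SmallCategory I] [IsCofiltered I]
    {D : I ⥤ Scheme.{u}} {c : Cone D}, IsLimit c →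
    ∀ [∀ (i j : I) (a : i ⟶ j), IsAffineHom (D.map a)]
      [∀ i, CompactSpace (D.obj i)] [∀ i, QuasiSeparatedSpace (D.obj i)],
    (∀ (j : I) (G : EtCoh.Ab (D.obj j)) (ξ : EtCoh.H c.pt ((EtCoh.pull (c.π.app j)).obj G) p),
      ∃ (k : I) (a : k ⟶ j) (y : EtCoh.H (D.obj k) ((EtCoh.pull (D.map a)).obj G) p),
        EtCore.HpullVia (c.π.app k) (D.map a) (c.π.app j) (c.w a) G p y = ξ) ∧
    (∀ (j : I) (G : EtCoh.Ab (D.obj j)) (y : EtCoh.H (D.obj j) G p),
      EtCore.Hpull (c.π.app j) G p y = 0 → ∃ (k : I) (a : k ⟶ j), EtCore.Hpull (D.map a) G p y = 0) := by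
  induction p with
  | zero =>
    intro I _ _ D c hc _ _ _
    refine ⟨fun j G ξ => ?_, injective_zero hc⟩
    haveI : ∀ (k l : Over j) (a : k ⟶ l), IsAffineHom ((Over.forget j ⋙ D).map a) :=
      fun k l a => inferInstanceAs (IsAffineHom (D.map a.left))
    haveI : ∀ k, CompactSpace ((Over.forget j ⋙ D).obj k) :=
      fun k => inferInstanceAs (CompactSpace (D.obj k.left))
    haveI : ∀ k, QuasiSeparatedSpace ((Over.forget j ⋙ D).obj k) :=
      fun k => inferInstanceAs (QuasiSeparatedSpace (D.obj k.left))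
    obtain ⟨k, y, hy⟩ := surjective_zero_of_isTerminal
      ((Functor.Initial.isLimitWhiskerEquiv (Over.forget j) c).symm hc)
      (Over.mkIdTerminal (X := j)) G ξ
    exact ⟨k.left, ((Over.mkIdTerminal (X := j)).from k).left, y, hy⟩
  | succ q ih =>
    intro I _ _ D c hc _ _ _
    refine ⟨fun j G ξ => ?_, injective_succ hc q (ih hc).1 (ih hc).2⟩
    haveI : ∀ (k l : Over j) (a : k ⟶ l), IsAffineHom ((Over.forget j ⋙ D).map a) :=
      fun k l a => inferInstanceAs (IsAffineHom (D.map a.left))
    haveI : ∀ k, CompactSpace ((Over.forget j ⋙ D).obj k) :=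
      fun k => inferInstanceAs (CompactSpace (D.obj k.left))
    haveI : ∀ k, QuasiSeparatedSpace ((Over.forget j ⋙ D).obj k) :=
      fun k => inferInstanceAs (QuasiSeparatedSpace (D.obj k.left))
    have hc' := (Functor.Initial.isLimitWhiskerEquiv (Over.forget j) c).symm hc
    obtain ⟨k, y, hy⟩ := surjective_succ_of_isTerminal hc'
      (Over.mkIdTerminal (X := j)) G q (ih hc').1 ξ
    exact ⟨k.left, ((Over.mkIdTerminal (X := j)).from k).left, y, hy⟩

include hc in
/-- The limit theorem. -/
theorem limit_cohomology (p : ℕ) :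
    (∀ (j : I) (G : EtCoh.Ab (D.obj j)) (ξ : EtCoh.H c.pt ((EtCoh.pull (c.π.app j)).obj G) p),
      ∃ (k : I) (a : k ⟶ j) (y : EtCoh.H (D.obj k) ((EtCoh.pull (D.map a)).obj G) p),
        EtCore.HpullVia (c.π.app k) (D.map a) (c.π.app j) (c.w a) G p y = ξ) ∧
    (∀ (j : I) (G : EtCoh.Ab (D.obj j)) (y : EtCoh.H (D.obj j) G p),
      EtCore.Hpull (c.π.app j) G p y = 0 → ∃ (k : I) (a : k ⟶ j), EtCore.Hpull (D.map a) G p y = 0) :=
  limit_cohomology_aux p hc

end Groth.Agent.EtLimit
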