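import Groth.Agent.EtLimit.Main
import Groth.Agent.EtColim.CohColim

/-!
# Cohomology of the limit of a system of sheaves

For compatible sheaves `E i` on the stages, with the colimit `K` on the limit of their inverse
images, the cohomology of `K` is the colimit of the cohomology of the stages.
-/

set_option autoImplicit false
set_option backward.isDefEq.respectTransparency false

universe u

open CategoryTheory CategoryTheory.Limits AlgebraicGeometry Opposite

noncomputable section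

namespace Groth.Agent.EtLimit

open FHom

/-- `Sheaf.H.map` of two maps in a row. -/
theorem H_map_map {X : Scheme.{u}} {F G H : EtCoh.Ab X} (a : F ⟶ G) (b : G ⟶ H) (n : ℕ)
    (x : EtCoh.H X F n) : Sheaf.H.map b n (Sheaf.H.map a n x) = Sheaf.H.map (a ≫ b) n x :=
  (Sheaf.H.map_comp_apply a b x).symm

/-- `HpullVia` is pullback followed by the composition isomorphism. -/
theorem HpullVia_eq_map {A B C : Scheme.{u}} (f : A ⟶ B) (g : B ⟶ C) (h : A ⟶ C) (e : f ≫ g = h)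
    (G : EtCoh.Ab C) (n : ℕ) (x : EtCoh.H B ((EtCoh.pull g).obj G) n) :
    EtCore.HpullVia f g h e G n x =
      Sheaf.H.map (κ f g e G).hom n (EtCore.Hpull f ((EtCoh.pull g).obj G) n x) :=
  (EtaleSite.HpullFunctor.HpullVia_apply f g h e G n x).trans (Sheaf.H.map_apply _ _).symm

/-- Pulling back twice. -/
theorem map_κ_Hpull_Hpull {A B C : Scheme.{u}} (f : A ⟶ B) (g : B ⟶ C) {h : A ⟶ C} (e : f ≫ g = h)
    (G : EtCoh.Ab C) (n : ℕ) (x : EtCoh.H C G n) :
    Sheaf.H.map (κ f g e G).hom n (EtCore.Hpull f _ n (EtCore.Hpull g G n x)) =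
      EtCore.Hpull h G n x := by
  subst e
  rw [← EtaleSite.HpullComp.Hpull_comp f g n G x, ← Sheaf.H.map_apply]
  refine (H_map_map _ _ n _).trans ?_
  have e₁ : (EtCore.pullComp f g).hom.app G ≫ (κ f g rfl G).hom = 𝟙 _ := by
    simp [κ, EtCore.pullCongr]
  rw [e₁]
  exact Sheaf.H.map_id_apply _

/-- A class killed by an isomorphism is zero. -/
theorem H_map_eq_zero {X : Scheme.{u}} {F G : EtCoh.Ab X} (e : F ≅ G) (n : ℕ) (x : EtCoh.H X F n)
    (h : Sheaf.H.map e.hom n x = 0) : x = 0 := by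
  refine (Sheaf.H.map_id_apply x).symm.trans ?_
  rw [← e.hom_inv_id]
  exact (H_map_map e.hom e.inv n x).symm.trans ((congrArg _ h).trans (map_zero _))

/-- Pullback is natural in the sheaf. -/
theorem Hpull_H_map {A B : Scheme.{u}} (f : A ⟶ B) {F G : EtCoh.Ab B} (a : F ⟶ G) (n : ℕ)
    (x : EtCoh.H B F n) :
    EtCore.Hpull f G n (Sheaf.H.map a n x) =
      Sheaf.H.map ((EtCoh.pull f).map a) n (EtCore.Hpull f F n x) := by
  rw [Sheaf.H.map_apply, Sheaf.H.map_apply, EtaleSite.HpullSeq.Hpull_postcomp]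

variable {I : Type u} [SmallCategory I] [IsCofiltered I] {D : I ⥤ Scheme.{u}} {c : Cone D}
  (hc : IsLimit c) [∀ (i j : I) (a : i ⟶ j), IsAffineHom (D.map a)]
  [∀ i, CompactSpace (D.obj i)] [∀ i, QuasiSeparatedSpace (D.obj i)]
  {E : ∀ i, EtCoh.Ab (D.obj i)}
  (s : ∀ {j i : I} (_a : j ⟶ i) , (EtCoh.pull (D.map _a)).obj (E i) ⟶ E j)
  {P : Iᵒᵖ ⥤ EtCoh.Ab c.pt} {K : Cocone P} (hK : IsColimit K)
  (ψ : ∀ i, (EtCoh.pull (c.π.app i)).obj (E i) ≅ P.obj (op i))
  (hψ : ∀ (j i : I) (a : j ⟶ i), (EtCoh.pull (c.π.app j)).map (s a) ≫ (ψ j).hom =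
    (κ (c.π.app j) (D.map a) (c.w a) (E i)).hom ≫ (ψ i).hom ≫ P.map a.op)

include hψ in
omit [IsCofiltered I] [∀ (i j : I) (a : i ⟶ j), IsAffineHom (D.map a)]
  [∀ i, CompactSpace (D.obj i)] [∀ i, QuasiSeparatedSpace (D.obj i)] in
/-- The compatibility on cohomology. -/
theorem map_ψ_Hpull {j i : I} (a : j ⟶ i) (n : ℕ)
    (x : EtCoh.H (D.obj j) ((EtCoh.pull (D.map a)).obj (E i)) n) :
    Sheaf.H.map (ψ j).hom n (EtCore.Hpull (c.π.app j) (E j) n (Sheaf.H.map (s a) n x)) =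
      Sheaf.H.map ((ψ i).hom ≫ P.map a.op) n
        (EtCore.HpullVia (c.π.app j) (D.map a) (c.π.app i) (c.w a) (E i) n x) := by
  rw [Hpull_H_map, H_map_map, hψ, ← H_map_map, HpullVia_eq_map]
  rfl

include hc hK hψ in
/-- Every class of the colimit sheaf comes from a stage. -/
theorem sys_surjective (n : ℕ) (ξ : EtCoh.H c.pt K.pt n) :
    ∃ (j : I) (η : EtCoh.H (D.obj j) (E j) n),
      Sheaf.H.map ((ψ j).hom ≫ K.ι.app (op j)) n (EtCore.Hpull (c.π.app j) (E j) n η) = ξ := by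
  obtain ⟨i₀⟩ := IsCofiltered.nonempty (C := I)
  haveI : IsAffineHom (c.π.app i₀) := isAffineHom_π_app _ _ hc (i := i₀)
  haveI : CompactSpace c.pt := QuasiCompact.compactSpace_of_compactSpace (c.π.app i₀)
  haveI : QuasiSeparatedSpace c.pt := quasiSeparatedSpace_of_quasiSeparated (c.π.app i₀)
  obtain ⟨iop, y, rfl⟩ := (EtColim.CohColim.coh_colimit n hK).1 ξ
  obtain ⟨k, a, x, hx⟩ := (limit_cohomology hc n).1 iop.unop (E iop.unop)
    (Sheaf.H.map (ψ iop.unop).inv n y)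
  refine ⟨k, Sheaf.H.map (s a) n x, ?_⟩
  rw [← H_map_map, map_ψ_Hpull s ψ hψ a, hx]
  refine (congrArg (Sheaf.H.map (K.ι.app (op k)) n) (H_map_map _ _ n y)).trans ?_
  refine (H_map_map _ _ n y).trans (congrArg (fun q => Sheaf.H.map q n y) ?_)
  rw [Iso.inv_hom_id_assoc]
  exact K.w a.op

include hc hK hψ in
/-- A class killed in the colimit sheaf is killed at a further stage. -/
theorem sys_injective
    (hs : ∀ (k j i : I) (b : k ⟶ j) (a : j ⟶ i),
      (κ (D.map b) (D.map a) (D.map_comp b a).symm (E i)).hom ≫ s (b ≫ a) =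
        (EtCoh.pull (D.map b)).map (s a) ≫ s b)
    (n : ℕ) (j : I) (η : EtCoh.H (D.obj j) (E j) n)
    (h : Sheaf.H.map ((ψ j).hom ≫ K.ι.app (op j)) n (EtCore.Hpull (c.π.app j) (E j) n η) = 0) :
    ∃ (k : I) (a : k ⟶ j), Sheaf.H.map (s a) n (EtCore.Hpull (D.map a) (E j) n η) = 0 := by
  obtain ⟨i₀⟩ := IsCofiltered.nonempty (C := I)
  haveI : IsAffineHom (c.π.app i₀) := isAffineHom_π_app _ _ hc (i := i₀)
  haveI : CompactSpace c.pt := QuasiCompact.compactSpace_of_compactSpace (c.π.app i₀)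
  haveI : QuasiSeparatedSpace c.pt := quasiSeparatedSpace_of_quasiSeparated (c.π.app i₀)
  rw [← H_map_map] at h
  obtain ⟨iop, φ, hφ⟩ := (EtColim.CohColim.coh_colimit n hK).2 (op j) _ h
  let η₁ := Sheaf.H.map (s φ.unop) n (EtCore.Hpull (D.map φ.unop) (E j) n η)
  have h1 : EtCore.Hpull (c.π.app iop.unop) (E iop.unop) n η₁ = 0 := by
    refine H_map_eq_zero (ψ iop.unop) n _ ?_
    show Sheaf.H.map (ψ iop.unop).hom n (EtCore.Hpull (c.π.app iop.unop) (E iop.unop) n η₁) = 0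
    refine (map_ψ_Hpull s ψ hψ φ.unop n _).trans ?_
    refine (congrArg _ ((HpullVia_eq_map _ _ _ _ _ n _).trans
      (map_κ_Hpull_Hpull _ _ (c.w φ.unop) _ n η))).trans ?_
    exact (H_map_map _ _ n _).symm.trans hφ
  obtain ⟨k, b, hb⟩ := (limit_cohomology hc n).2 iop.unop (E iop.unop) η₁ h1
  refine ⟨k, b ≫ φ.unop, ?_⟩
  refine (congrArg _ (map_κ_Hpull_Hpull (D.map b) (D.map φ.unop)
    (D.map_comp b φ.unop).symm (E j) n η).symm).trans ?_
  refine (H_map_map _ _ n _).trans ?_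
  refine (congrArg (fun q => Sheaf.H.map q n _) (hs k iop.unop j b φ.unop)).trans ?_
  refine (H_map_map _ _ n _).symm.trans ?_
  exact (congrArg _ ((Hpull_H_map _ _ n _).symm.trans hb)).trans (map_zero _)

end Groth.Agent.EtLimit
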