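import Groth.Agent.EtLimit.Systems

/-!
# The transition maps of a system as morphisms of sheaves
-/

set_option autoImplicit false
set_option backward.isDefEq.respectTransparency false

universe u

open CategoryTheory CategoryTheory.Limits AlgebraicGeometry Opposite

noncomputable section

namespace Groth.Agent.EtLimit

open FHom

namespace Sys

variable {I : Type u} [SmallCategory I] {D : I ⥤ Scheme.{u}} (S : Sys D)

/-- The transition maps as morphisms of sheaves compose. -/
theorem desc_σ_comp (k j i : I) (b : k ⟶ j) (a : j ⟶ i) :
    (κ (D.map b) (D.map a) (D.map_comp b a).symm (S.E i)).hom ≫ (S.σ (b ≫ a)).desc =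
      (EtCoh.pull (D.map b)).map (S.σ a).desc ≫ (S.σ b).desc := by
  refine unit_post_inj (unit_comp_inj (D.map_comp b a).symm ?_)
  rw [← post_post, ← post_post, unit_post_map, ← comp_post, ← comp_post, unit_comp_unit_post_κ,
    unit_post_desc, pre_post, unit_post_desc, ← post_comp, unit_post_desc, S.σ_comp]

variable (c : Cone D)

/-- The inverse images of the transition maps are the maps of the diagram on the limit. -/
theorem pull_desc_σ (j i : I) (a : j ⟶ i) :
    (EtCoh.pull (c.π.app j)).map (S.σ a).desc =
      (κ (c.π.app j) (D.map a) (c.w a) (S.E i)).hom ≫ (S.pullDiag c).map a.op := by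
  refine unit_post_inj (unit_comp_inj (c.w a) ?_)
  rw [← post_post, unit_post_map, ← comp_post, ← comp_post, unit_comp_unit_post_κ, ← post_comp,
    unit_post_desc]
  show _ = (unit (c.π.app i) (S.E i)).post
    ((S.σ a).comp (unit (c.π.app j) (S.E j)) (c.w a)).desc
  rw [unit_post_desc]

end Sys

end Groth.Agent.EtLimit
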