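import Groth.Agent.EtLimit.Sections
import Groth.Agent.EtColim.CohColim
import Mathlib.CategoryTheory.Limits.Preserves.Shapes.Products
import Mathlib.CategoryTheory.Preadditive.Injective.Basic

/-!
# The system of inverse images of a sheaf and an injective system containing it
-/

set_option autoImplicit false
set_option backward.isDefEq.respectTransparency false

universe u

open CategoryTheory CategoryTheory.Limits AlgebraicGeometry Opposite

noncomputable section

namespace Groth.Agent.EtLimit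

namespace FHom

variable {A B C : Scheme.{u}}

/-- The counit as a morphism over `f`. -/
def ev (f : A ⟶ B) (H : EtCoh.Ab A) : FHom f ((EtCoh.push f).obj H) H :=
  ofPush (𝟙 _)

theorem ev_pre {f : A ⟶ B} {G : EtCoh.Ab B} {H : EtCoh.Ab A} (a : G ⟶ (EtCoh.push f).obj H) :
    (ev f H).pre a = ofPush a := by
  ext W U w hw : 5
  show a.hom.app (op U) ≫ 𝟙 _ ≫ H.obj.map (toBc w hw).op = a.hom.app (op U) ≫ H.obj.map (toBc w hw).op
  rw [Category.id_comp]

theorem ev_app (f : A ⟶ B) (H : EtCoh.Ab A) (U : B.Etale) :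
    (ev f H).app ((EtCoh.bc f).obj U) U (bcFst f U) (bcFst_w f U) = 𝟙 _ :=
  ofPush_app _ U

theorem unit_comp_inj {f : A ⟶ B} {g : B ⟶ C} {h : A ⟶ C} (e : f ≫ g = h) {G : EtCoh.Ab C}
    {H : EtCoh.Ab A} {σ τ : FHom f ((EtCoh.pull g).obj G) H}
    (hστ : (unit g G).comp σ e = (unit g G).comp τ e) : σ = τ := by
  subst e
  have h1 := congrArg toPush hστ
  rw [toPush_comp, toPush_comp, ← Category.assoc, ← Category.assoc, cancel_mono,
    unit, toPush_ofPush, ← Adjunction.homEquiv_unit, ← Adjunction.homEquiv_unit] at h1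
  rw [← ofPush_toPush σ, ← ofPush_toPush τ, ((EtCoh.pullPushAdj g).homEquiv _ _).injective h1]

/-- A morphism over a composite as a morphism into a direct image. -/
def curry {f : A ⟶ B} {g : B ⟶ C} {h : A ⟶ C} (e : f ≫ g = h) {G : EtCoh.Ab C} {H : EtCoh.Ab A}
    (σ : FHom h G H) : FHom g G ((EtCoh.push f).obj H) where
  app W U w hw := σ.app ((EtCoh.bc f).obj W) U (bcFst f W ≫ w)
    (by rw [Category.assoc, hw, ← Category.assoc, bcFst_w, Category.assoc, e])
  naturality {W' W U U'} k l w hw w' hw' ee := σ.naturality ((EtCoh.bc f).map k) l _ _ _ _ (by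
    rw [← ee, Category.assoc, ← Category.assoc, bc_map_fst, Category.assoc])

theorem curry_comp_ev {f : A ⟶ B} {g : B ⟶ C} {h : A ⟶ C} (e : f ≫ g = h) {G : EtCoh.Ab C}
    {H : EtCoh.Ab A} (σ : FHom h G H) : (curry e σ).comp (ev f H) e = σ := by
  ext W U w hw : 5
  let V := (EtCoh.bc g).obj U
  let l : W.left ⟶ V.left :=
    pullback.lift w (W.hom ≫ f) (by rw [hw, Category.assoc, e])
  show σ.app ((EtCoh.bc f).obj V) U (bcFst f V ≫ bcFst g U) _ ≫
    (𝟙 _ : _ ⟶ H.obj.obj (op ((EtCoh.bc f).obj V))) ≫ H.obj.map (toBc l _).op = _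
  rw [Category.id_comp]
  refine σ.app_map _ _ _ _ hw ?_
  exact (Category.assoc _ _ _).symm.trans
    ((congrArg (· ≫ bcFst g U) (toBc_fst _ _)).trans (pullback.lift_fst _ _ _))

theorem comp_ev_inj {f : A ⟶ B} {g : B ⟶ C} {h : A ⟶ C} (e : f ≫ g = h) {G : EtCoh.Ab C}
    {H : EtCoh.Ab A} {σ τ : FHom g G ((EtCoh.push f).obj H)}
    (hστ : σ.comp (ev f H) e = τ.comp (ev f H) e) : σ = τ := by
  ext W U w hw : 5
  have key : ∀ υ : FHom g G ((EtCoh.push f).obj H),
      υ.app W U w hw = (υ.comp (ev f H) e).app ((EtCoh.bc f).obj W) U (bcFst f W ≫ w)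
        (by rw [Category.assoc, hw, ← Category.assoc, bcFst_w, Category.assoc, e]) := fun υ => by
    rw [← υ.comp_app (ev f H) e (bcFst f W) (bcFst_w f W) w hw _ _ rfl, ev_app]
    exact (Category.comp_id _).symm
  rw [key σ, key τ, hστ]

theorem cast_post {f f' : A ⟶ B} (e : f = f') {G : EtCoh.Ab B} {H H' : EtCoh.Ab A}
    (σ : FHom f G H) (a : H ⟶ H') : (σ.cast e).post a = (σ.post a).cast e := rfl

section Pi

variable {κ : Type u} {Z : κ → Scheme.{u}} (g : ∀ k, Z k ⟶ A) (H : ∀ k, EtCoh.Ab (Z k))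

/-- A product of direct images. -/
def pushPi : EtCoh.Ab A := ∏ᶜ fun k => (EtCoh.push (g k)).obj (H k)

/-- The projection of a product of direct images. -/
def pushPiπ (k : κ) : FHom (g k) (pushPi g H) (H k) :=
  ofPush (Pi.π (fun k => (EtCoh.push (g k)).obj (H k)) k)

variable {g H} {f : A ⟶ B} {G : EtCoh.Ab B}

theorem pushPi_hom_ext {σ τ : FHom f G (pushPi g H)}
    (h : ∀ k, σ.comp (pushPiπ g H k) rfl = τ.comp (pushPiπ g H k) rfl) : σ = τ := by
  rw [← ofPush_toPush σ, ← ofPush_toPush τ]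
  refine congrArg ofPush ?_
  refine (isLimitOfPreserves (EtCoh.push f)
    (productIsProduct fun k => (EtCoh.push (g k)).obj (H k))).hom_ext fun ⟨k⟩ => ?_
  have e : ∀ υ : FHom f G (pushPi g H), υ.toPush ≫ (EtCoh.push f).map
      (Pi.π (fun k => (EtCoh.push (g k)).obj (H k)) k) =
        (υ.post (Pi.π (fun k => (EtCoh.push (g k)).obj (H k)) k)).toPush := fun υ => rfl
  refine (e σ).trans (Eq.trans (congrArg toPush ?_) (e τ).symm)
  refine comp_ev_inj (rfl : g k ≫ f = _) ?_
  rw [post_comp, post_comp, ev_pre]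
  exact h k

/-- A morphism into a product of direct images. -/
def pushPiLift (σ : ∀ k, FHom (g k ≫ f) G (H k)) : FHom f G (pushPi g H) :=
  ofPush (Pi.lift (fun k => (curry rfl (σ k)).toPush) ≫
    (PreservesProduct.iso (EtCoh.push f) fun k => (EtCoh.push (g k)).obj (H k)).inv)

theorem pushPiLift_π (σ : ∀ k, FHom (g k ≫ f) G (H k)) (k : κ) :
    (pushPiLift σ).comp (pushPiπ g H k) rfl = σ k := by
  have h1 : (pushPiLift σ).post (Pi.π (fun k => (EtCoh.push (g k)).obj (H k)) k) =
      curry rfl (σ k) := by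
    rw [← ofPush_toPush ((pushPiLift σ).post _), toPush_post, pushPiLift, toPush_ofPush,
      ← ofPush_toPush (curry rfl (σ k))]
    refine congrArg ofPush ?_
    have e : (PreservesProduct.iso (EtCoh.push f) fun k => (EtCoh.push (g k)).obj (H k)).inv ≫
        (EtCoh.push f).map (Pi.π (fun k => (EtCoh.push (g k)).obj (H k)) k) = Pi.π _ k := by
      rw [Iso.inv_comp_eq, PreservesProduct.iso_hom, piComparison_comp_π]
    rw [Category.assoc, e, Pi.lift_π]
  conv_rhs => rw [← curry_comp_ev rfl (σ k), ← h1, post_comp, ev_pre]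
  rfl

theorem injective_pushPi [∀ k, Injective (H k)] : Injective (pushPi g H) := by
  haveI : ∀ k, Injective ((EtCoh.push (g k)).obj (H k)) := fun k =>
    Injective.injective_of_adjoint (EtCoh.pullPushAdj (g k)) (H k)
  show Injective (∏ᶜ fun k => (EtCoh.push (g k)).obj (H k))
  infer_instance

end Pi

end FHom

open FHom

namespace Sys

variable {I : Type u} [SmallCategory I] (D : I ⥤ Scheme.{u}) {i : I} (T : IsTerminal i)
  (F : EtCoh.Ab (D.obj i))

theorem map_from {k j : I} (φ : k ⟶ j) : D.map φ ≫ D.map (T.from j) = D.map (T.from k) := by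
  rw [← D.map_comp]; exact congrArg D.map (T.hom_ext _ _)

/-- The transition maps of the inverse images. -/
def pullσ {k j : I} (φ : k ⟶ j) :
    FHom (D.map φ) ((EtCoh.pull (D.map (T.from j))).obj F) ((EtCoh.pull (D.map (T.from k))).obj F) :=
  (unit (D.map φ) _).post (κ (D.map φ) (D.map (T.from j)) (map_from D T φ) F).hom

theorem unit_comp_pullσ {k j : I} (φ : k ⟶ j) :
    (unit (D.map (T.from j)) F).comp (pullσ D T F φ) (map_from D T φ) =
      unit (D.map (T.from k)) F := by
  rw [pullσ, ← comp_post, unit_comp_unit_post_κ]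

theorem pullσ_id (j : I) : pullσ D T F (𝟙 j) = (FHom.id _).cast (D.map_id j).symm := by
  refine unit_comp_inj (map_from D T (𝟙 j)) ?_
  rw [unit_comp_pullσ]
  ext W U w hw : 5
  exact ((unit (D.map (T.from j)) F).app_map
    (MorphismProperty.Over.homMk _ _ trivial : W ⟶ (EtCoh.bc (D.map (T.from j))).obj U) _
    (bcFst_w _ U) w hw (pullback.lift_fst _ _ _)).symm

theorem pullσ_comp {l k j : I} (ψ : l ⟶ k) (φ : k ⟶ j) :
    (pullσ D T F φ).comp (pullσ D T F ψ) (D.map_comp ψ φ).symm = pullσ D T F (ψ ≫ φ) := by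
  refine unit_comp_inj (map_from D T (ψ ≫ φ)) ?_
  rw [unit_comp_pullσ, ← comp_assoc (unit (D.map (T.from j)) F) (pullσ D T F φ) (pullσ D T F ψ)
    (map_from D T φ) (D.map_comp ψ φ).symm (map_from D T ψ) (map_from D T (ψ ≫ φ)),
    unit_comp_pullσ, unit_comp_pullσ]

/-- The system of inverse images of a sheaf on the final stage. -/
def ofSheaf : Sys D where
  E j := (EtCoh.pull (D.map (T.from j))).obj F
  σ φ := pullσ D T F φ
  σ_id := pullσ_id D T F
  σ_comp := pullσ_comp D T F

variable (c : Cone D)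

/-- The inverse image on the limit is a cocone on the inverse images. -/
def ofSheafCocone : Cocone ((ofSheaf D T F).pullDiag c) where
  pt := (EtCoh.pull (c.π.app i)).obj F
  ι :=
    { app := fun j => (κ (c.π.app j.unop) (D.map (T.from j.unop)) (c.w _) F).hom
      naturality := fun j k a => by
        refine (Eq.trans ?_ (Category.comp_id _).symm)
        refine unit_post_inj (unit_comp_inj (c.w (T.from j.unop)) ?_)
        show (unit _ F).comp ((unit (c.π.app j.unop) ((ofSheaf D T F).E j.unop)).post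
          (((pullσ D T F a.unop).comp (unit (c.π.app k.unop) _) (c.w a.unop)).desc ≫
            (κ (c.π.app k.unop) (D.map (T.from k.unop)) (c.w _) F).hom)) _ =
          (unit (D.map (T.from j.unop)) F).comp ((unit (c.π.app j.unop) _).post
            (κ (c.π.app j.unop) (D.map (T.from j.unop)) (c.w _) F).hom) _
        rw [← post_post, unit_post_desc, ← comp_post, ← comp_post,
          ← comp_assoc (unit (D.map (T.from j.unop)) F) (pullσ D T F a.unop)
            (unit (c.π.app k.unop) _) (map_from D T a.unop) (c.w a.unop) (c.w (T.from k.unop))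
            (c.w (T.from j.unop)), unit_comp_pullσ, unit_comp_unit_post_κ, unit_comp_unit_post_κ] }

/-- The inverse image on the limit is the colimit of the inverse images. -/
def isColimitOfSheafCocone : IsColimit (ofSheafCocone D T F c) where
  desc s := (κ (c.π.app i) (D.map (T.from i)) (c.w _) F).inv ≫ s.ι.app (op i)
  fac s j := by
    have h1 := (ofSheafCocone D T F c).w (T.from j.unop).op
    rw [← s.w (T.from j.unop).op]
    rw [show ((ofSheaf D T F).pullDiag c).map (T.from j.unop).op =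
        (κ (c.π.app i) (D.map (T.from i)) (c.w _) F).hom ≫
          (κ (c.π.app j.unop) (D.map (T.from j.unop)) (c.w _) F).inv from (Iso.eq_comp_inv _).2 h1]
    simp [ofSheafCocone]
  uniq s m hm := by
    rw [← hm (op i)]
    exact (Iso.inv_hom_id_assoc _ _).symm

/-- The injective sheaves of the stages. -/
abbrev envelope (l : I) : EtCoh.Ab (D.obj l) :=
  (EtColim.CohColim.emb (D.obj l)).obj ((EtCoh.pull (D.map (T.from l))).obj F)

/-- The injective system containing the inverse images: at `j` the product over all stages above. -/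
abbrev prodE (j : I) : EtCoh.Ab (D.obj j) :=
  pushPi (fun ψ : Over j => D.map ψ.hom) fun ψ => envelope D T F ψ.left

/-- Projection at a stage above. -/
def prodπ {l j : I} (φ : l ⟶ j) : FHom (D.map φ) (prodE D T F j) (envelope D T F l) :=
  pushPiπ (fun ψ : Over j => D.map ψ.hom) (fun ψ => envelope D T F ψ.left) (Over.mk φ)

theorem prodπ_cast {l j : I} {φ φ' : l ⟶ j} (e : φ = φ') :
    (prodπ D T F φ).cast (congrArg D.map e) = prodπ D T F φ' := by
  subst e; rfl

theorem prod_hom_ext {B : Scheme.{u}} {j : I} {f : D.obj j ⟶ B} {G : EtCoh.Ab B}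
    {σ τ : FHom f G (prodE D T F j)}
    (h : ∀ ψ : Over j, σ.comp (prodπ D T F ψ.hom) rfl = τ.comp (prodπ D T F ψ.hom) rfl) : σ = τ :=
  pushPi_hom_ext fun ψ => h ψ

/-- The transition maps of the injective system. -/
def prodσ {k j : I} (φ : k ⟶ j) : FHom (D.map φ) (prodE D T F j) (prodE D T F k) :=
  pushPiLift fun ψ => (prodπ D T F (ψ.hom ≫ φ)).cast (D.map_comp ψ.hom φ)

theorem prodσ_π {l k j : I} (ψ : l ⟶ k) (φ : k ⟶ j) :
    (prodσ D T F φ).comp (prodπ D T F ψ) (D.map_comp ψ φ).symm = prodπ D T F (ψ ≫ φ) := by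
  ext W U w hw : 5
  have h := pushPiLift_π (fun ψ => (prodπ D T F (ψ.hom ≫ φ)).cast (D.map_comp ψ.hom φ)) (Over.mk ψ)
  exact congrArg (fun σ : FHom (D.map ψ ≫ D.map φ) _ _ => σ.app W U w (by rw [← D.map_comp]; exact hw)) h

/-- The injective system. -/
def prod : Sys D where
  E := prodE D T F
  σ φ := prodσ D T F φ
  σ_id j := by
    refine prod_hom_ext D T F fun ψ => ?_
    ext W U w hw : 5
    refine Eq.trans ?_ (((prodπ D T F ψ.hom).map_app _ _ _ w
      (by rw [hw, ← D.map_comp, Category.comp_id]) (pullback.lift_fst _ _ _)).symm)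
    have h := prodσ_π D T F ψ.hom (𝟙 j)
    have h' := congrArg (fun σ : FHom (D.map (ψ.hom ≫ 𝟙 j)) _ _ => σ.app W U w
      (by rw [hw, ← D.map_comp])) h
    refine h'.trans ?_
    exact (congrArg (fun σ : FHom (D.map ψ.hom) (prodE D T F j) _ => σ.app W U w
      (by rw [hw, ← D.map_comp, Category.comp_id])) (prodπ_cast D T F (Category.comp_id ψ.hom)))
  σ_comp {l k j} ψ φ := by
    refine prod_hom_ext D T F fun χ => ?_
    ext W U w hw : 5
    have hw' : w ≫ U.hom = W.hom ≫ D.map (χ.hom ≫ ψ ≫ φ) := by simp [hw]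
    have h1 := congrArg (fun σ => FHom.app σ W U w hw') ((comp_assoc (prodσ D T F φ) (prodσ D T F ψ)
      (prodπ D T F χ.hom) (D.map_comp ψ φ).symm (D.map_comp χ.hom ψ).symm
      (D.map_comp χ.hom (ψ ≫ φ)).symm (by rw [← D.map_comp, Category.assoc])).trans (by
        rw [prodσ_π]))
    have h2 := congrArg (fun σ => FHom.app σ W U w hw') (prodσ_π D T F χ.hom (ψ ≫ φ))
    refine (h1.trans ?_).trans h2.symm
    have hw'' : w ≫ U.hom = W.hom ≫ D.map ((χ.hom ≫ ψ) ≫ φ) := by rw [Category.assoc]; exact hw'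
    refine (congrArg (fun σ => FHom.app σ W U w hw'') (prodσ_π D T F (χ.hom ≫ ψ) φ)).trans ?_
    exact congrArg (fun σ : FHom (D.map (χ.hom ≫ ψ ≫ φ)) _ _ => σ.app W U w hw')
      (prodπ_cast D T F (Category.assoc χ.hom ψ φ))

instance injective_prod (j : I) : Injective ((prod D T F).E j) :=
  injective_pushPi

/-- The inclusion of the inverse image in the injective system. -/
def toProd (j : I) : (EtCoh.pull (D.map (T.from j))).obj F ⟶ prodE D T F j :=
  Pi.lift fun ψ : Over j =>
    ((pullσ D T F ψ.hom).post ((EtColim.CohColim.embι (D.obj ψ.left)).app _)).toPush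

theorem toProd_π {l j : I} (φ : l ⟶ j) :
    (prodπ D T F φ).pre (toProd D T F j) =
      (pullσ D T F φ).post ((EtColim.CohColim.embι (D.obj l)).app _) := by
  rw [← ofPush_toPush ((pullσ D T F φ).post _), prodπ, pushPiπ,
    ← ev_pre (Pi.π (fun ψ : Over j => (EtCoh.push (D.map ψ.hom)).obj (envelope D T F ψ.left)) (Over.mk φ))]
  show (ev _ _).pre (toProd D T F j ≫ Pi.π (fun ψ : Over j =>
    (EtCoh.push (D.map ψ.hom)).obj (envelope D T F ψ.left)) (Over.mk φ)) = _
  rw [toProd, Pi.lift_π, ev_pre]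
  rfl

theorem toProd_natural {k j : I} (φ : k ⟶ j) :
    (pullσ D T F φ).post (toProd D T F k) = (prodσ D T F φ).pre (toProd D T F j) := by
  refine prod_hom_ext D T F fun ψ => ?_
  rw [post_comp, toProd_π, pre_comp, ← comp_post]
  ext W U w hw : 5
  have hw' : w ≫ U.hom = W.hom ≫ D.map (ψ.hom ≫ φ) := by rw [hw, D.map_comp]
  refine (congrArg (fun σ => FHom.app (σ.post ((EtColim.CohColim.embι (D.obj ψ.left)).app _)) W U w hw')
    (pullσ_comp D T F ψ.hom φ)).trans ?_
  refine Eq.trans ?_ (congrArg (fun σ => FHom.app (σ.pre (toProd D T F j)) W U w hw')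
    (prodσ_π D T F ψ.hom φ)).symm
  exact congrArg (fun σ => FHom.app σ W U w hw') (toProd_π D T F (ψ.hom ≫ φ)).symm

instance mono_toProd (j : I) : Mono (toProd D T F j) := by
  refine (sheafToPresheaf (D.obj j).smallEtaleTopology AddCommGrpCat.{u + 1}).mono_of_mono_map
    (@NatTrans.mono_of_mono_app _ _ _ _ _ _ _ fun U => (AddCommGrpCat.mono_iff_injective _).2 ?_)
  refine (injective_iff_map_eq_zero ((toProd D T F j).hom.app U).hom).2 fun x hx => ?_
  let H := (EtCoh.pull (D.map (T.from j))).obj F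
  have hW : U.unop.left ⟶ U.unop.left := 𝟙 _
  have hw : 𝟙 U.unop.left ≫ U.unop.hom = U.unop.hom ≫ D.map (𝟙 j) := by simp
  have h0 : ((pullσ D T F (𝟙 j)).post ((EtColim.CohColim.embι (D.obj j)).app _)).app U.unop U.unop
      (𝟙 _) hw x = 0 := by
    rw [← toProd_π]
    exact (congrArg ((prodπ D T F (𝟙 j)).app U.unop U.unop (𝟙 _) hw) hx).trans (map_zero _)
  rw [pullσ_id] at h0
  haveI : Mono ((EtColim.CohColim.embι (D.obj j)).app H).hom :=
    (sheafToPresheaf (D.obj j).smallEtaleTopology AddCommGrpCat.{u + 1}).map_mono _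
  have h1 : H.obj.map (MorphismProperty.Over.homMk (𝟙 U.unop.left) (Category.id_comp _) trivial :
      U.unop ⟶ U.unop).op x = 0 :=
    (AddCommGrpCat.mono_iff_injective _).1
      (((evaluation _ AddCommGrpCat.{u + 1}).obj U).map_mono ((EtColim.CohColim.embι (D.obj j)).app H).hom)
      (h0.trans (map_zero _).symm)
  rw [← h1, show (MorphismProperty.Over.homMk (𝟙 U.unop.left) (Category.id_comp _) trivial :
    U.unop ⟶ U.unop) = 𝟙 _ from MorphismProperty.Over.Hom.ext rfl, op_id, CategoryTheory.Functor.map_id]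
  rfl

/-- The morphism of diagrams on the limit. -/
def toProdDiag : (ofSheaf D T F).pullDiag c ⟶ (prod D T F).pullDiag c where
  app j := (EtCoh.pull (c.π.app j.unop)).map (toProd D T F j.unop)
  naturality j k a := by
    refine unit_post_inj ?_
    show (unit (c.π.app j.unop) _).post (((pullσ D T F a.unop).comp (unit (c.π.app k.unop) _)
        (c.w a.unop)).desc ≫ (EtCoh.pull (c.π.app k.unop)).map (toProd D T F k.unop)) =
      (unit (c.π.app j.unop) _).post ((EtCoh.pull (c.π.app j.unop)).map (toProd D T F j.unop) ≫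
        ((prodσ D T F a.unop).comp (unit (c.π.app k.unop) _) (c.w a.unop)).desc)
    rw [← post_post, ← post_post, unit_post_desc, comp_post, unit_post_map]
    erw [unit_post_map]
    rw [← post_comp, toProd_natural, pre_comp, pre_post, unit_post_desc]

end Sys

end Groth.Agent.EtLimit
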