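import Groth.Agent.EtLimit.PushSys
import Groth.Agent.EtLimit.SysMap
import Groth.Agent.EtLimit.Systems
import Groth.Prelude.Def_EtLim

/-!
# The transition maps between direct images
-/

set_option autoImplicit false
set_option backward.isDefEq.respectTransparency false

universe u

open CategoryTheory CategoryTheory.Limits AlgebraicGeometry Opposite

noncomputable section

namespace Groth.Agent.EtLimit

open FHom

variable {I : Type u} [SmallCategory I] {D : I ⥤ Scheme.{u}} (c : Cone D) (F : EtCoh.Ab c.pt)

/-- The transition map between direct images in the notation of the limit statement. -/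
theorem toPush_pushσ {j i : I} (a : j ⟶ i) :
    (pushσ c F a).toPush =
      ((EtCoh.pushCongr (c.w a).symm).app F).hom ≫
        (EtCoh.pushComp (D.map a) (c.π.app j)).inv.app F := by
  refine Sheaf.hom_ext (NatTrans.ext (funext fun U => ?_))
  show F.obj.map (toBc (bcFst (c.π.app j) ((EtCoh.bc (D.map a)).obj U.unop) ≫ bcFst (D.map a) U.unop)
    (pushσ_w c a _ (bcFst_w _ _))).op = _
  simp only [EtCoh.pushComp, EtCoh.pushCongr, Functor.sheafPushforwardContinuousComp',
    Functor.sheafPushforwardContinuousComp, Iso.app_hom,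
    ObjectProperty.FullSubcategory.comp_hom, NatTrans.comp_app]
  simp
  rw [← Functor.map_comp, ← op_comp]
  refine congrArg (fun q : _ ⟶ (EtCoh.bc (c.π.app i)).obj U.unop => F.obj.map q.op)
    (bc_hom_ext ?_)
  rw [toBc_fst]
  simp [MorphismProperty.Over.pullbackCongr, MorphismProperty.Over.pullbackComp, bcFst, EtCoh.bc]
  refine Eq.symm ?_
  refine (congrArg (· ≫ pullback.fst _ _) (Category.assoc _ _ _)).trans ?_
  show (((pullbackLeftPullbackSndIso U.unop.hom (D.map a) (c.π.app j)).hom) ≫
    (pullback.congrHom (f₁ := U.unop.hom) (g₁ := c.π.app j ≫ D.map a) rfl rfl).inv ≫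
    (pullback.congrHom (f₁ := U.unop.hom) (g₁ := c.π.app i) rfl (c.w a).symm).inv) ≫
    pullback.fst _ _ = _
  erw [Category.assoc, Category.assoc]
  simp [pullback.congrHom_inv]
  rfl

/-- The canonical map from the direct image is the counit. -/
theorem desc_pushε (i : I) :
    (pushε c F i).desc = (EtCoh.pullPushAdj (c.π.app i)).counit.app F := by
  have e : (pushε c F i).toPush = 𝟙 _ := by
    refine Sheaf.hom_ext (NatTrans.ext (funext fun U => ?_))
    have h : toBc (bcFst (c.π.app i) U.unop) (bcFst_w _ _) = 𝟙 _ :=
      bc_hom_ext ((toBc_fst _ _).trans (Category.id_comp _).symm)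
    show F.obj.map (toBc (bcFst (c.π.app i) U.unop) (bcFst_w _ _)).op = _
    rw [h, op_id, CategoryTheory.Functor.map_id]
    rfl
  rw [desc, e, Adjunction.homEquiv_counit, CategoryTheory.Functor.map_id, Category.id_comp]

/-- The transition map as transposed. -/
theorem desc_pushσ {j i : I} (a : j ⟶ i) :
    (pushσ c F a).desc = (EtCoh.pull (D.map a)).map
      (((EtCoh.pushCongr (c.w a).symm).app F).hom ≫
        (EtCoh.pushComp (D.map a) (c.π.app j)).inv.app F) ≫
      (EtCoh.pullPushAdj (D.map a)).counit.app _ := by
  rw [desc, toPush_pushσ, Adjunction.homEquiv_counit]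

end Groth.Agent.EtLimit
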