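import Groth.Agent.EtLimit.BigSys
import Groth.Agent.EtLimit.SysCoh
import Groth.Prelude.Def_EtLim
import Mathlib.AlgebraicGeometry.AffineTransitionLimit

/-!
# The additive and the multiplicative group on a limit of schemes

Global functions and their units turn limits of quasi-compact quasi-separated schemes with affine
transition maps into colimits; the pullback maps of `G_a` and `G_m` on cohomology are the maps of the
systems of restrictions.
-/

set_option autoImplicit false
set_option backward.isDefEq.respectTransparency false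

universe u

open CategoryTheory CategoryTheory.Limits AlgebraicGeometry Opposite

noncomputable section

namespace Groth.Agent.EtLimit

open FHom

section Limit

variable {J : Type u} [SmallCategory J] [IsCofiltered J] {E : J ⥤ Scheme.{u}} {t : Cone E}
  (ht : IsLimit t) [∀ (j k : J) (a : j ⟶ k), IsAffineHom (E.map a)]
  [∀ j, CompactSpace (E.obj j)] [∀ j, QuasiSeparatedSpace (E.obj j)]

omit [∀ j, QuasiSeparatedSpace (E.obj j)] in
include ht in
/-- A global function killed on the limit is killed at a stage. -/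
theorem exists_appTop_eq_zero (j : J) (s : Γ(E.obj j, ⊤)) (hs : (t.π.app j).appTop s = 0) :
    ∃ (k : J) (a : k ⟶ j), (E.map a).appTop s = 0 :=
  exists_app_map_eq_zero_of_isLimit E t ht CompactSpace.isCompact_univ s hs

include ht in
/-- A unit of the limit comes from a stage. -/
theorem exists_unit_stage (u : Γ(t.pt, ⊤)ˣ) :
    ∃ (j : J) (v : Γ(E.obj j, ⊤)ˣ), (t.π.app j).appTop v = (u : Γ(t.pt, ⊤)) := by
  obtain ⟨i, a, ha⟩ := exists_appTop_π_eq_of_isLimit E t ht (u : Γ(t.pt, ⊤))
  obtain ⟨i', b, hb⟩ := exists_appTop_π_eq_of_isLimit E t ht (↑u⁻¹ : Γ(t.pt, ⊤))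
  obtain ⟨k, f, g, -⟩ := IsCofilteredOrEmpty.cone_objs i i'
  have e : ∀ {l m : J} (h : l ⟶ m) (x : Γ(E.obj m, ⊤)),
      (t.π.app l).appTop ((E.map h).appTop x) = (t.π.app m).appTop x := fun {l m} h x => by
    rw [← ConcreteCategory.comp_apply, ← Scheme.Hom.comp_appTop, t.w]
    rfl
  obtain ⟨l, h, hl⟩ := exists_appTop_eq_zero ht k ((E.map f).appTop a * (E.map g).appTop b - 1) (by
    rw [map_sub, map_mul, map_one, e, e, ← ha, ← hb, Units.mul_inv, sub_self])
  rw [map_sub, map_mul, map_one, sub_eq_zero] at hl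
  refine ⟨l, Units.mk ((E.map h).appTop ((E.map f).appTop a))
    ((E.map h).appTop ((E.map g).appTop b)) hl ((mul_comm _ _).trans hl), ?_⟩
  exact (e h _).trans ((e f a).trans ha.symm)

end Limit

/-- Global functions turn limits into colimits. -/
theorem limitContinuous_ΓAdd : LimitContinuous EtCoh.ΓAdd.{u} := by
  intro J _ _ E t ht _ _ _
  refine ⟨fun s => ?_, fun j z hz => ?_⟩
  · obtain ⟨j, a, ha⟩ := exists_appTop_π_eq_of_isLimit E t ht s.down
    exact ⟨j, ULift.up a, ULift.ext _ _ ha.symm⟩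
  · obtain ⟨k, a, hk⟩ := exists_appTop_eq_zero ht j z.down (congrArg ULift.down hz)
    exact ⟨k, a, ULift.ext _ _ hk⟩

/-- Units of global functions turn limits into colimits. -/
theorem limitContinuous_ΓUnits : LimitContinuous EtCoh.ΓUnits.{u} := by
  intro J _ _ E t ht _ _ _
  refine ⟨fun s => ?_, fun j z hz => ?_⟩
  · obtain ⟨j, v, hv⟩ := exists_unit_stage ht (Additive.toMul s.down)
    exact ⟨j, ULift.up (Additive.ofMul v), ULift.ext _ _ (congrArg Additive.ofMul (Units.ext hv))⟩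
  · have h1 : (t.π.app j).appTop ((Additive.toMul z.down : Γ(E.obj j, ⊤)ˣ) : Γ(E.obj j, ⊤)) = 1 :=
      congrArg (fun q => ((Additive.toMul (ULift.down q) : Γ(t.pt, ⊤)ˣ) : Γ(t.pt, ⊤))) hz
    obtain ⟨k, a, hk⟩ := exists_appTop_eq_zero ht j
      (((Additive.toMul z.down : Γ(E.obj j, ⊤)ˣ) : Γ(E.obj j, ⊤)) - 1)
      (by rw [map_sub, h1, map_one, sub_self])
    rw [map_sub, map_one, sub_eq_zero] at hk
    exact ⟨k, a, ULift.ext _ _ (congrArg Additive.ofMul (Units.ext hk))⟩

variable {X Y : Scheme.{u}} (f : X ⟶ Y)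

/-- The pullback map of `G_m` as transposed. -/
theorem desc_bigMap_Gm :
    (bigMap EtCoh.ΓUnits EtCoh.isSheaf_ΓUnits f).desc =
      (EtCoh.pull f).map (EtLim.GmPush f) ≫ (EtCoh.pullPushAdj f).counit.app (EtCoh.Gm X) :=
  (EtCoh.pullPushAdj f).homEquiv_counit _ _ _

/-- The pullback map of `G_a` as transposed. -/
theorem desc_bigMap_Ga :
    (bigMap EtCoh.ΓAdd EtCoh.isSheaf_ΓAdd f).desc =
      (EtCoh.pull f).map (EtLim.GaPush f) ≫ (EtCoh.pullPushAdj f).counit.app (EtCoh.Ga X) :=
  (EtCoh.pullPushAdj f).homEquiv_counit _ _ _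

variable [PreservesFiniteLimits (EtCoh.pull f)]

/-- The pullback map of `G_m` on cohomology. -/
theorem HGmPull_apply (n : ℕ) (x : EtCoh.H Y (EtCoh.Gm Y) n) :
    EtLim.HGmPull f n x =
      Sheaf.H.map (bigMap EtCoh.ΓUnits EtCoh.isSheaf_ΓUnits f).desc n
        (EtCore.Hpull f (EtCoh.Gm Y) n x) := by
  show Sheaf.H.map ((EtCoh.pullPushAdj f).counit.app (EtCoh.Gm X)) n
    (EtCore.Hpull f _ n (Sheaf.H.map (EtLim.GmPush f) n x)) = _
  refine (congrArg _ (Hpull_H_map _ _ n _)).trans ?_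
  refine (H_map_map _ _ n _).trans ?_
  exact congrArg (fun q => Sheaf.H.map q n _) (desc_bigMap_Gm f).symm

/-- The pullback map of `G_a` on cohomology. -/
theorem HGaPull_apply (n : ℕ) (x : EtCoh.H Y (EtCoh.Ga Y) n) :
    EtLim.HGaPull f n x =
      Sheaf.H.map (bigMap EtCoh.ΓAdd EtCoh.isSheaf_ΓAdd f).desc n
        (EtCore.Hpull f (EtCoh.Ga Y) n x) := by
  show Sheaf.H.map ((EtCoh.pullPushAdj f).counit.app (EtCoh.Ga X)) n
    (EtCore.Hpull f _ n (Sheaf.H.map (EtLim.GaPush f) n x)) = _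
  refine (congrArg _ (Hpull_H_map _ _ n _)).trans ?_
  refine (H_map_map _ _ n _).trans ?_
  exact congrArg (fun q => Sheaf.H.map q n _) (desc_bigMap_Ga f).symm

end Groth.Agent.EtLimit
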