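import Groth.Agent.EtLimit.Sections
import Groth.Agent.LimLib.Basic
import Groth.Prelude.Def_EtGm

/-!
# Restrictions of sheaves on the big étale site form a system

A sheaf `Φ` on the big étale site gives compatible sheaves on the stages of an inverse system. If
`Φ` carries limits of quasi-compact quasi-separated schemes with affine transition maps to colimits,
its restriction to the limit is the colimit of the inverse images of the restrictions to the stages.
-/

set_option autoImplicit false
set_option backward.isDefEq.respectTransparency false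

universe u

open CategoryTheory CategoryTheory.Limits AlgebraicGeometry Opposite

noncomputable section

namespace Groth.Agent.EtLimit

open FHom

variable {I : Type u} [SmallCategory I] {D : I ⥤ Scheme.{u}} {c : Cone D}

namespace Sys

variable (S : Sys D) [IsCofiltered I] [∀ (i j : I) (a : i ⟶ j), IsAffineHom (D.map a)]
  [∀ i, CompactSpace (D.obj i)] [∀ i, QuasiSeparatedSpace (D.obj i)]

/-- A cocone on the inverse images is a colimit as soon as its sections over base changes of
quasi-compact quasi-separated objects are the colimits of the sections at the stages. -/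
theorem nonempty_isColimit_of_sections (hc : IsLimit c) (L : Cocone (S.pullDiag c))
    (hsurj : ∀ (i : I) (U : (D.obj i).Etale) [CompactSpace U.left] [QuasiSeparatedSpace U.left]
      (t : L.pt.obj.obj (op ((EtCoh.bc (c.π.app i)).obj U))),
      ∃ (j : I) (φ : j ⟶ i) (z : (S.E j).obj.obj (op ((EtCoh.bc (D.map φ)).obj U))),
        (S.ρ L j).app _ _ (stageMap c φ U) (stageMap_w c φ U) z = t)
    (hinj : ∀ (i : I) (U : (D.obj i).Etale) [CompactSpace U.left] [QuasiSeparatedSpace U.left]
      (z : (S.E i).obj.obj (op U)),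
      (S.ρ L i).app _ _ (bcFst (c.π.app i) U) (bcFst_w _ U) z = 0 →
      ∃ (k : I) (ψ : k ⟶ i), (S.σ ψ).app _ _ (bcFst (D.map ψ) U) (bcFst_w _ U) z = 0) :
    Nonempty (IsColimit L) := by
  let K := colimit.cocone (S.pullDiag c)
  have hK : IsColimit K := colimit.isColimit _
  let θ := hK.desc L
  have hθ : ∀ (i : I) (W : c.pt.Etale) (U : (D.obj i).Etale) (w : W.left ⟶ U.left)
      (hw : w ≫ U.hom = W.hom ≫ c.π.app i) (z : (S.E i).obj.obj (op U)),
      θ.hom.app (op W) ((S.ρ K i).app W U w hw z) = (S.ρ L i).app W U w hw z := by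
    intro i W U w hw z
    have h : (S.ρ K i).post θ = S.ρ L i := by
      rw [Sys.ρ, post_post, hK.fac]
      rfl
    exact ConcreteCategory.congr_hom
      (congrArg (fun σ : FHom (c.π.app i) _ L.pt => σ.app W U w hw) h) z
  have hb : ∀ (i : I) (U : (D.obj i).Etale) [CompactSpace U.left] [QuasiSeparatedSpace U.left],
      Function.Bijective (θ.hom.app (op ((EtCoh.bc (c.π.app i)).obj U))) := by
    intro i U _ _
    refine ⟨(injective_iff_map_eq_zero _).2 fun m hm => ?_, fun t => ?_⟩
    · obtain ⟨j, φ, z, rfl⟩ := S.exists_stage_section K hc hK U m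
      rw [hθ] at hm
      let V := (EtCoh.bc (D.map φ)).obj U
      haveI := (compact_qs_bc (D.map φ) U).1
      haveI := (compact_qs_bc (D.map φ) U).2
      have h0 : (S.ρ L j).app _ V (bcFst (c.π.app j) V) (bcFst_w _ V) z = 0 := by
        rw [← app_map_apply (S.ρ L j) (stageIso c φ U).hom (stageMap c φ U) (stageMap_w c φ U)
          (bcFst (c.π.app j) V) (bcFst_w _ V) (stageIso_hom_stageMap c φ U) z]
        exact (congrArg (L.pt.obj.map (stageIso c φ U).hom.op) hm).trans
          (map_zero (L.pt.obj.map (stageIso c φ U).hom.op).hom)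
      obtain ⟨k, ψ, hψ⟩ := hinj j V z h0
      let l : ((EtCoh.bc (c.π.app i)).obj U).left ⟶ ((EtCoh.bc (D.map ψ)).obj V).left :=
        pullback.lift (stageMap c φ U) (((EtCoh.bc (c.π.app i)).obj U).hom ≫ c.π.app k)
          ((stageMap_w c φ U).trans (by rw [Category.assoc, c.w]))
      refine (S.σ_app_ρ_app K ψ l (pullback.lift_snd _ _ _) (bcFst (D.map ψ) V) (bcFst_w _ V)
        (stageMap c φ U) (stageMap_w c φ U) (pullback.lift_fst _ _ _) z).symm.trans ?_
      exact (congrArg _ hψ).trans (map_zero _)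
    · obtain ⟨j, φ, z, hz⟩ := hsurj i U t
      exact ⟨(S.ρ K j).app _ _ (stageMap c φ U) (stageMap_w c φ U) z, (hθ _ _ _ _ _ _).trans hz⟩
  have hb' : ∀ (V : c.pt.Etale) [CompactSpace V.left] [QuasiSeparatedSpace V.left],
      Function.Bijective (θ.hom.app (op V)) := by
    intro V _ _
    obtain ⟨i, U, h₁, h₂, ⟨e⟩⟩ := exists_stage_obj hc V
    refine ⟨(injective_iff_map_eq_zero _).2 fun m hm => ?_, fun t => ?_⟩
    · have h : θ.hom.app (op ((EtCoh.bc (c.π.app i)).obj U)) (K.pt.obj.map e.hom.op m) = 0 :=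
        (ConcreteCategory.congr_hom (θ.hom.naturality e.hom.op) m).trans
          ((congrArg (L.pt.obj.map _) hm).trans (map_zero (L.pt.obj.map _).hom))
      have h' := congrArg (K.pt.obj.map e.inv.op) ((hb i U).1 (h.trans (map_zero _).symm))
      rw [map_zero] at h'
      refine Eq.trans ?_ h'
      rw [← ConcreteCategory.comp_apply, ← Functor.map_comp, ← op_comp, Iso.inv_hom_id, op_id,
        CategoryTheory.Functor.map_id]
      rfl
    · obtain ⟨m, hm⟩ := (hb i U).2 (L.pt.obj.map e.hom.op t)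
      refine ⟨K.pt.obj.map e.inv.op m, ?_⟩
      refine (ConcreteCategory.congr_hom (θ.hom.naturality e.inv.op) m).trans ?_
      refine (congrArg (L.pt.obj.map e.inv.op) hm).trans ?_
      rw [← ConcreteCategory.comp_apply, ← Functor.map_comp, ← op_comp, Iso.inv_hom_id, op_id,
        CategoryTheory.Functor.map_id]
      rfl
  have hcov : ∀ (V : c.pt.Etale) (x : V.left), ∃ (V' : c.pt.Etale) (g : V' ⟶ V),
      IsAffine V'.left ∧ ∃ v : V'.left, g.left v = x := by
    intro V x
    obtain ⟨k, v, hv⟩ := V.left.affineCover.exists_eq x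
    haveI : Etale V.hom := V.prop
    exact ⟨Scheme.Etale.mk (V.left.affineCover.f k ≫ V.hom),
      MorphismProperty.Over.homMk (V.left.affineCover.f k) rfl trivial,
      inferInstanceAs (IsAffine (V.left.affineCover.X k)), v, hv⟩
  haveI : Mono θ := by
    haveI : ∀ V : c.pt.Etaleᵒᵖ, Mono (θ.hom.app V) := by
      intro V
      refine (AddCommGrpCat.mono_iff_injective _).2 ((injective_iff_map_eq_zero _).2 fun m hm => ?_)
      choose V' g hV' v hv using hcov V.unop
      refine EtColim.Sections.ext_of_cover K.pt g (fun x => ⟨x, v x, hv x⟩) m 0 fun x => ?_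
      haveI := hV' x
      rw [map_zero]
      refine (hb' (V' x)).1 (Eq.trans ?_ (map_zero _).symm)
      exact (ConcreteCategory.congr_hom (θ.hom.naturality (g x).op) m).trans
        ((congrArg (L.pt.obj.map _) hm).trans (map_zero (L.pt.obj.map _).hom))
    haveI : Mono θ.hom := NatTrans.mono_of_mono_app _
    exact (sheafToPresheaf _ _).mono_of_mono_map this
  haveI : Epi θ := by
    have : Presheaf.IsLocallySurjective c.pt.smallEtaleTopology θ.hom := ⟨fun {V} s => by
      refine EtaleSite.mem_topology_of_forall_exists _ fun x => ?_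
      obtain ⟨V', g, hV', v, hv⟩ := hcov V x
      haveI := hV'
      exact ⟨V', g, v, (hb' V').2 (L.pt.obj.map g.op s), hv⟩⟩
    exact (Sheaf.isLocallySurjective_iff_epi' AddCommGrpCat.{u + 1} θ).1 this
  haveI : IsIso θ := isIso_of_mono_of_epi _
  exact ⟨IsColimit.ofIsoColimit hK (Cocone.ext (asIso θ) fun i => hK.fac L i)⟩

end Sys

/-- A presheaf on schemes turns limits of quasi-compact quasi-separated schemes with affine
transition maps into colimits. -/
def LimitContinuous (Φ : Scheme.{u}ᵒᵖ ⥤ AddCommGrpCat.{u + 1}) : Prop :=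
  ∀ (J : Type u) [SmallCategory J] [IsCofiltered J] (E : J ⥤ Scheme.{u}) (t : Cone E), IsLimit t →
    ∀ [∀ (j k : J) (a : j ⟶ k), IsAffineHom (E.map a)] [∀ j, CompactSpace (E.obj j)]
      [∀ j, QuasiSeparatedSpace (E.obj j)],
    (∀ s : Φ.obj (op t.pt), ∃ (j : J) (z : Φ.obj (op (E.obj j))), Φ.map (t.π.app j).op z = s) ∧
      (∀ (j : J) (z : Φ.obj (op (E.obj j))), Φ.map (t.π.app j).op z = 0 →
        ∃ (k : J) (a : k ⟶ j), Φ.map (E.map a).op z = 0)

variable (Φ : Scheme.{u}ᵒᵖ ⥤ AddCommGrpCat.{u + 1})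
  (hΦ : Presheaf.IsSheaf Scheme.etaleTopology Φ)

/-- The restriction of a sheaf on the big étale site to a small étale site. -/
abbrev bigSheaf (X : Scheme.{u}) : EtCoh.Ab X :=
  ((Scheme.Etale.forget X ⋙ Over.forget X).sheafPushforwardContinuous _ _
    Scheme.etaleTopology).obj ⟨Φ, hΦ⟩

/-- Functoriality of the restrictions. -/
def bigMap {X Y : Scheme.{u}} (f : X ⟶ Y) : FHom f (bigSheaf Φ hΦ Y) (bigSheaf Φ hΦ X) where
  app W U w _ := Φ.map w.op
  naturality {W' W U U'} h g w hw w' hw' e := by
    show Φ.map g.left.op ≫ Φ.map w.op ≫ Φ.map h.left.op = Φ.map w'.op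
    rw [← Φ.map_comp, ← Φ.map_comp, ← op_comp, ← op_comp, ← e, Category.assoc]

theorem bigMap_comp {A B C : Scheme.{u}} (f : A ⟶ B) (g : B ⟶ C) {h : A ⟶ C} (e : f ≫ g = h) :
    (bigMap Φ hΦ g).comp (bigMap Φ hΦ f) e = bigMap Φ hΦ h := by
  ext W U w hw : 5
  show Φ.map _ ≫ Φ.map _ = Φ.map _
  rw [← Φ.map_comp, ← op_comp, pullback.lift_fst]

/-- The system of restrictions. -/
def bigSys (D : I ⥤ Scheme.{u}) : Sys D where
  E i := bigSheaf Φ hΦ (D.obj i)
  σ φ := bigMap Φ hΦ (D.map φ)
  σ_id i := by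
    ext W U w hw : 5
    rfl
  σ_comp ψ φ := bigMap_comp Φ hΦ _ _ _

variable (c)

/-- The restriction to the limit as a cocone. -/
def bigCocone : Cocone ((bigSys Φ hΦ D).pullDiag c) where
  pt := bigSheaf Φ hΦ c.pt
  ι :=
    { app := fun i => (bigMap Φ hΦ (c.π.app i.unop)).desc
      naturality := fun i j a => by
        refine Eq.trans ?_ (Category.comp_id _).symm
        refine unit_post_inj ?_
        rw [← post_post]
        show ((unit _ _).post (((bigMap Φ hΦ (D.map a.unop)).comp (unit (c.π.app j.unop) _)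
          (c.w a.unop)).desc)).post _ = _
        rw [unit_post_desc, comp_post, unit_post_desc, unit_post_desc, bigMap_comp] }

theorem ρ_bigCocone (i : I) :
    (bigSys Φ hΦ D).ρ (bigCocone c Φ hΦ) i = bigMap Φ hΦ (c.π.app i) :=
  unit_post_desc _

variable [IsCofiltered I] [∀ (i j : I) (a : i ⟶ j), IsAffineHom (D.map a)]
  [∀ i, CompactSpace (D.obj i)] [∀ i, QuasiSeparatedSpace (D.obj i)]

/-- For a limit continuous sheaf the restriction to the limit is the colimit. -/
theorem nonempty_isColimit_bigCocone (hc : IsLimit c) (h : LimitContinuous Φ) :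
    Nonempty (IsColimit (bigCocone c Φ hΦ)) := by
  refine (bigSys Φ hΦ D).nonempty_isColimit_of_sections hc _ (fun i U _ _ t => ?_)
    (fun i U _ _ z hz => ?_)
  · have hY : IsPullback (bcFst (c.π.app i) U) ((EtCoh.bc (c.π.app i)).obj U).hom U.hom
        (c.π.app i) := IsPullback.of_hasPullback U.hom (c.π.app i)
    haveI : ∀ k, CompactSpace ((LimLib.bcDiag D i U.hom).obj k) :=
      fun k => @LimLib.compactSpace_bcDiag I _ D _ i U.left U.hom ‹CompactSpace U.left› k
    haveI : ∀ k, QuasiSeparatedSpace ((LimLib.bcDiag D i U.hom).obj k) :=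
      fun k => @LimLib.quasiSeparatedSpace_bcDiag I _ D _ i U.left U.hom ‹QuasiSeparatedSpace U.left› k
    obtain ⟨k, z, hz⟩ := (h (Over i) _ _ (LimLib.isLimitBcCone hc hY)).1 t
    refine ⟨k.left, k.hom, z, ?_⟩
    rw [ρ_bigCocone]
    exact hz
  · have hY : IsPullback (bcFst (c.π.app i) U) ((EtCoh.bc (c.π.app i)).obj U).hom U.hom
        (c.π.app i) := IsPullback.of_hasPullback U.hom (c.π.app i)
    haveI : ∀ k, CompactSpace ((LimLib.bcDiag D i U.hom).obj k) :=
      fun k => @LimLib.compactSpace_bcDiag I _ D _ i U.left U.hom ‹CompactSpace U.left› k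
    haveI : ∀ k, QuasiSeparatedSpace ((LimLib.bcDiag D i U.hom).obj k) :=
      fun k => @LimLib.quasiSeparatedSpace_bcDiag I _ D _ i U.left U.hom ‹QuasiSeparatedSpace U.left› k
    rw [ρ_bigCocone] at hz
    let p : (LimLib.bcDiag D i U.hom).obj (Over.mk (𝟙 i)) ⟶ U.left :=
      pullback.fst U.hom (D.map (𝟙 i))
    have h1 : (LimLib.bcCone hY).π.app (Over.mk (𝟙 i)) ≫ p = bcFst (c.π.app i) U :=
      pullback.lift_fst _ _ _
    obtain ⟨k, a, hk⟩ := (h (Over i) _ _ (LimLib.isLimitBcCone hc hY)).2 (Over.mk (𝟙 i))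
      (Φ.map p.op z) (by
        refine (ConcreteCategory.comp_apply _ _ _).symm.trans ?_
        rw [← Φ.map_comp, ← op_comp]
        exact (congrArg (fun q => Φ.map (Quiver.Hom.op q) z) h1).trans hz)
    have h2 : (LimLib.bcDiag D i U.hom).map a ≫ p = bcFst (D.map k.hom) U :=
      pullback.lift_fst _ _ _
    refine ⟨k.left, k.hom, ?_⟩
    refine (congrArg (fun q => Φ.map (Quiver.Hom.op q) z) h2).symm.trans ?_
    show Φ.map ((LimLib.bcDiag D i U.hom).map a ≫ p).op z = 0
    rw [op_comp, Φ.map_comp, ConcreteCategory.comp_apply]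
    exact hk

end Groth.Agent.EtLimit
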