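import Groth.Agent.EtLimit.FHom
import Groth.Agent.EtColim.Sections
import Groth.Agent.LimLib.Model
import Groth.Agent.LimLib.Smooth
import Groth.Agent.LimTop.Descend

/-!
# Étale schemes over a cofiltered limit come from the stages

Objects, morphisms, coverings of the small étale site of a limit of quasi-compact quasi-separated
schemes with affine transition maps descend, and a section which vanishes on the limit vanishes
at a stage.
-/

set_option autoImplicit false
set_option backward.isDefEq.respectTransparency false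

universe u

open CategoryTheory CategoryTheory.Limits AlgebraicGeometry Opposite

noncomputable section

namespace Groth.Agent.EtLimit

open FHom

theorem compact_qs_bc {A B : Scheme.{u}} (f : A ⟶ B) [IsAffineHom f] (U : B.Etale)
    [CompactSpace U.left] [QuasiSeparatedSpace U.left] :
    CompactSpace ((EtCoh.bc f).obj U).left ∧ QuasiSeparatedSpace ((EtCoh.bc f).obj U).left :=
  have h1 : IsAffineHom (pullback.fst U.hom f) :=
    MorphismProperty.pullback_fst (P := @IsAffineHom) U.hom f ‹IsAffineHom f›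
  ⟨@QuasiCompact.compactSpace_of_compactSpace _ U.left (pullback.fst U.hom f) inferInstance
      ‹CompactSpace U.left›,
    @quasiSeparatedSpace_of_quasiSeparated _ U.left (pullback.fst U.hom f)
      ‹QuasiSeparatedSpace U.left› inferInstance⟩

/-- Every point of a base change over a point in the image of `g` is in the image of `bc g`. -/
theorem exists_bc_point {A B : Scheme.{u}} (f : A ⟶ B) {U V : B.Etale} (g : V ⟶ U)
    (y : ((EtCoh.bc f).obj U).left) (v : V.left) (h : g.left v = bcFst f U y) :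
    ∃ z : ((EtCoh.bc f).obj V).left, ((EtCoh.bc f).map g).left z = y := by
  obtain ⟨z, hz, -⟩ := Scheme.Pullback.exists_preimage_pullback
    (f := bcFst f U) (g := g.left) y v h.symm
  refine ⟨(EtCoh.isPullback_bc_map f g).isoPullback.inv z, ?_⟩
  rw [← hz, ← Scheme.Hom.comp_apply, IsPullback.isoPullback_inv_fst]

variable {I : Type u} [SmallCategory I] [IsCofiltered I] {D : I ⥤ Scheme.{u}} {c : Cone D}

section Stage

omit [IsCofiltered I]

/-- The projection to a stage of a base change. -/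
def stageMap (c : Cone D) {i j : I} (φ : j ⟶ i) (U : (D.obj i).Etale) :
    ((EtCoh.bc (c.π.app i)).obj U).left ⟶ ((EtCoh.bc (D.map φ)).obj U).left :=
  pullback.lift (bcFst (c.π.app i) U) (((EtCoh.bc (c.π.app i)).obj U).hom ≫ c.π.app j)
    ((bcFst_w _ _).trans (by rw [Category.assoc, c.w]))

theorem stageMap_fst (c : Cone D) {i j : I} (φ : j ⟶ i) (U : (D.obj i).Etale) :
    stageMap c φ U ≫ bcFst (D.map φ) U = bcFst (c.π.app i) U :=
  pullback.lift_fst _ _ _

theorem stageMap_w (c : Cone D) {i j : I} (φ : j ⟶ i) (U : (D.obj i).Etale) :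
    stageMap c φ U ≫ ((EtCoh.bc (D.map φ)).obj U).hom =
      ((EtCoh.bc (c.π.app i)).obj U).hom ≫ c.π.app j :=
  pullback.lift_snd _ _ _

/-- Base change in two steps. -/
def stageIso (c : Cone D) {i j : I} (φ : j ⟶ i) (U : (D.obj i).Etale) :
    (EtCoh.bc (c.π.app j)).obj ((EtCoh.bc (D.map φ)).obj U) ≅ (EtCoh.bc (c.π.app i)).obj U where
  hom := toBc (bcFst (c.π.app j) _ ≫ bcFst (D.map φ) U) (by
    rw [Category.assoc, bcFst_w (D.map φ) U, ← Category.assoc, bcFst_w (c.π.app j) _,
      Category.assoc, c.w])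
  inv := toBc (stageMap c φ U) (stageMap_w c φ U)
  hom_inv_id := bc_hom_ext (by
    refine (Category.assoc _ _ _).trans ((congrArg (_ ≫ ·) (toBc_fst _ _)).trans ?_)
    refine Eq.trans ?_ (Category.id_comp _).symm
    refine pullback.hom_ext ?_ ?_
    · rw [Category.assoc, stageMap_fst]
      exact toBc_fst _ _
    · rw [Category.assoc]
      refine ((congrArg (_ ≫ ·) (stageMap_w c φ U)).trans (Category.assoc _ _ _).symm).trans ?_
      exact (congrArg (· ≫ c.π.app j) (MorphismProperty.Over.w _)).trans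
        (bcFst_w (c.π.app j) _).symm)
  inv_hom_id := bc_hom_ext (by
    refine (Category.assoc _ _ _).trans ((congrArg (_ ≫ ·) (toBc_fst _ _)).trans ?_)
    refine Eq.trans ?_ (Category.id_comp _).symm
    exact (Category.assoc _ _ _).symm.trans
      ((congrArg (· ≫ bcFst (D.map φ) U) (toBc_fst _ _)).trans (stageMap_fst c φ U)))

theorem stageIso_hom_fst (c : Cone D) {i j : I} (φ : j ⟶ i) (U : (D.obj i).Etale) :
    (stageIso c φ U).hom.left ≫ bcFst (c.π.app i) U = bcFst (c.π.app j) _ ≫ bcFst (D.map φ) U :=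
  toBc_fst _ _

theorem stageIso_inv_fst (c : Cone D) {i j : I} (φ : j ⟶ i) (U : (D.obj i).Etale) :
    (stageIso c φ U).inv.left ≫ bcFst (c.π.app j) ((EtCoh.bc (D.map φ)).obj U) = stageMap c φ U :=
  toBc_fst _ _

theorem stageIso_hom_stageMap (c : Cone D) {i j : I} (φ : j ⟶ i) (U : (D.obj i).Etale) :
    (stageIso c φ U).hom.left ≫ stageMap c φ U = bcFst (c.π.app j) ((EtCoh.bc (D.map φ)).obj U) := by
  rw [← stageIso_inv_fst, ← Category.assoc]
  exact (congrArg (fun k => k.left ≫ bcFst (c.π.app j) ((EtCoh.bc (D.map φ)).obj U))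
    (stageIso c φ U).hom_inv_id).trans (Category.id_comp _)

end Stage

variable (hc : IsLimit c) [∀ (i j : I) (a : i ⟶ j), IsAffineHom (D.map a)]
  [∀ i, CompactSpace (D.obj i)] [∀ i, QuasiSeparatedSpace (D.obj i)]

include hc in
/-- A morphism to an étale scheme over a stage is defined at a stage. -/
theorem exists_stage_hom {m i : I} (α : m ⟶ i) (U : (D.obj m).Etale) (V : (D.obj i).Etale)
    [CompactSpace U.left] [QuasiSeparatedSpace U.left]
    (g : ((EtCoh.bc (c.π.app m)).obj U).left ⟶ V.left)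
    (hg : g ≫ V.hom = ((EtCoh.bc (c.π.app m)).obj U).hom ≫ c.π.app i) :
    ∃ (j : I) (φ : j ⟶ m) (g' : ((EtCoh.bc (D.map φ)).obj U).left ⟶ V.left),
      g' ≫ V.hom = ((EtCoh.bc (D.map φ)).obj U).hom ≫ D.map (φ ≫ α) ∧ stageMap c φ U ≫ g' = g := by
  let t' : LimLib.bcDiag D m U.hom ⟶ (Functor.const (Over m)).obj (D.obj i) :=
    { app := fun k => pullback.snd U.hom (D.map k.hom) ≫ D.map (k.hom ≫ α)
      naturality := fun j k a => by simp [← Functor.map_comp, ← Functor.map_comp_assoc] }
  have hY : IsPullback (bcFst (c.π.app m) U) ((EtCoh.bc (c.π.app m)).obj U).hom U.hom (c.π.app m) :=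
    IsPullback.of_hasPullback U.hom (c.π.app m)
  haveI : Etale V.hom := V.prop
  haveI : ∀ k, CompactSpace ((LimLib.bcDiag D m U.hom).obj k) :=
    fun k => @LimLib.compactSpace_bcDiag I _ D _ m U.left U.hom ‹CompactSpace U.left› k
  haveI : ∀ k, QuasiSeparatedSpace ((LimLib.bcDiag D m U.hom).obj k) :=
    fun k => @LimLib.quasiSeparatedSpace_bcDiag I _ D _ m U.left U.hom ‹QuasiSeparatedSpace U.left› k
  obtain ⟨k, s, hs₁, hs₂⟩ := Scheme.exists_π_app_comp_eq_of_locallyOfFinitePresentation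
    (LimLib.bcDiag D m U.hom) t' V.hom _ (LimLib.isLimitBcCone hc hY) g (by
      ext k; simp [t', hg, c.w])
  exact ⟨k.left, k.hom, s, hs₂, hs₁⟩

include hc in
/-- Quasi-compact quasi-separated étale schemes over the limit come from a stage. -/
theorem exists_stage_obj (U : c.pt.Etale) [CompactSpace U.left] [QuasiSeparatedSpace U.left] :
    ∃ (i : I) (U' : (D.obj i).Etale), CompactSpace U'.left ∧ QuasiSeparatedSpace U'.left ∧
      Nonempty ((EtCoh.bc (c.π.app i)).obj U' ≅ U) := by
  haveI : Etale U.hom := U.prop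
  obtain ⟨i, X₀, f₀, q, h₁, h₂, h₃, h⟩ :=
    @LimLib.hasModel I _ _ D c hc _ _ _ U.left U.hom inferInstance ‹CompactSpace U.left›
      ‹QuasiSeparatedSpace U.left›
  obtain ⟨j, φ, hj⟩ := LimLib.descends_etale D c hc inferInstance inferInstance inferInstance
    i X₀ f₀ h₂ h₃ h₁ U.left q U.hom h inferInstance
  obtain ⟨-, hc', hq', h'⟩ := LimLib.HasModel.at_finer h₁ h₂ h₃ h φ
  haveI := hj
  let U' : (D.obj j).Etale := Scheme.Etale.mk (pullback.snd f₀ (D.map φ))
  refine ⟨j, U', hc', hq', ⟨(MorphismProperty.Over.isoMk h'.isoPullback ?_).symm⟩⟩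
  exact h'.isoPullback_hom_snd

include hc in
/-- An open subset containing the image of the limit contains the image of a stage. -/
theorem exists_stage_subset {i : I} (U : (D.obj i).Etale) [CompactSpace U.left] (Z : Set U.left)
    (hZ : IsOpen Z) (H : ∀ y, bcFst (c.π.app i) U y ∈ Z) :
    ∃ (j : I) (φ : j ⟶ i), ∀ y, bcFst (D.map φ) U y ∈ Z := by
  have hY : IsPullback (bcFst (c.π.app i) U) ((EtCoh.bc (c.π.app i)).obj U).hom U.hom (c.π.app i) :=
    IsPullback.of_hasPullback U.hom (c.π.app i)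
  haveI : CompactSpace ((LimLib.bcDiag D i U.hom).obj (Over.mk (𝟙 i))) :=
    @LimLib.compactSpace_bcDiag I _ D _ i U.left U.hom ‹CompactSpace U.left› _
  let E : ∀ k : Over i, (k ⟶ Over.mk (𝟙 i)) → Set ((LimLib.bcDiag D i U.hom).obj k) :=
    fun k _ => pullback.fst U.hom (D.map k.hom) ⁻¹' Zᶜ
  obtain ⟨k, a, hk⟩ := LimTop.exists_subset (LimLib.isLimitBcCone hc hY) E (fun _ _ => ∅)
    (fun k _ => LimTop.isProConstructible_of_isClosed
      (hZ.isClosed_compl.preimage (pullback.fst U.hom (D.map k.hom)).continuous))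
    (fun _ _ => LimTop.isIndConstructible_of_isOpen isOpen_empty)
    (fun j k ψ φ x hx => by
      show pullback.fst U.hom (D.map j.hom) ((LimLib.bcDiag D i U.hom).map ψ x) ∈ Zᶜ
      erw [← Scheme.Hom.comp_apply,
        show (LimLib.bcDiag D i U.hom).map ψ ≫ pullback.fst U.hom (D.map j.hom) =
          pullback.fst U.hom (D.map k.hom) from pullback.lift_fst _ _ _]
      exact hx)
    (fun _ _ _ _ => Set.preimage_empty.le)
    (fun s hs => by
      refine absurd (H s) ?_
      have h1 := hs (Over.mk (𝟙 i)) (𝟙 _)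
      exact fun h2 => h1 ((congrArg (fun q => q s) (show (LimLib.bcCone hY).π.app (Over.mk (𝟙 i)) ≫
          pullback.fst U.hom (D.map (Over.mk (𝟙 i)).hom) = bcFst (c.π.app i) U from
        pullback.lift_fst _ _ _)) ▸ h2))
  refine ⟨k.left, k.hom, fun y => ?_⟩
  by_contra hy
  exact hk (show y ∈ E k a from hy)

include hc in
/-- A family covering on the limit covers at a stage. -/
theorem exists_stage_cover {i : I} {κ : Type*} {U : (D.obj i).Etale} [CompactSpace U.left]
    {V : κ → (D.obj i).Etale} (g : ∀ a, V a ⟶ U)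
    (H : ∀ y, ∃ (a : κ) (z : ((EtCoh.bc (c.π.app i)).obj (V a)).left),
      ((EtCoh.bc (c.π.app i)).map (g a)).left z = y) :
    ∃ (j : I) (φ : j ⟶ i), ∀ y, ∃ (a : κ) (z : ((EtCoh.bc (D.map φ)).obj (V a)).left),
      ((EtCoh.bc (D.map φ)).map (g a)).left z = y := by
  have ho : IsOpen (⋃ a, Set.range (g a).left) := isOpen_iUnion fun a => by
    haveI : Etale U.hom := U.prop
    haveI : Etale ((g a).left ≫ U.hom) := (MorphismProperty.Over.w (g a)).symm ▸ (V a).prop
    haveI : Etale (g a).left := Etale.of_comp _ U.hom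
    exact (g a).left.isOpenMap.isOpen_range
  obtain ⟨j, φ, hφ⟩ := exists_stage_subset hc U _ ho fun y => by
    obtain ⟨a, z, hz⟩ := H y
    refine Set.mem_iUnion.2 ⟨a, bcFst (c.π.app i) (V a) z, ?_⟩
    rw [← hz, ← Scheme.Hom.comp_apply, ← Scheme.Hom.comp_apply, ← bc_map_fst]
  refine ⟨j, φ, fun y => ?_⟩
  obtain ⟨a, v, hv⟩ := Set.mem_iUnion.1 (hφ y)
  exact ⟨a, exists_bc_point (D.map φ) (g a) y v hv⟩

include hc in
/-- A section vanishing on the limit vanishes at a stage. -/
theorem exists_stage_zero {i : I} (G : EtCoh.Ab (D.obj i)) (U : (D.obj i).Etale)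
    [CompactSpace U.left] (x : G.obj.obj (op U))
    (hx : (FHom.unit (c.π.app i) G).app _ U (bcFst (c.π.app i) U) (bcFst_w _ U) x = 0) :
    ∃ (j : I) (φ : j ⟶ i),
      (FHom.unit (D.map φ) G).app _ U (bcFst (D.map φ) U) (bcFst_w _ U) x = 0 := by
  let Z : Set U.left := {v | ∃ (V : (D.obj i).Etale) (g : V ⟶ U),
    G.obj.map g.op x = 0 ∧ v ∈ Set.range g.left}
  have ho : IsOpen Z := by
    refine isOpen_iff_forall_mem_open.2 fun v ⟨V, g, hg, hv⟩ => ?_
    haveI : Etale U.hom := U.prop
    haveI : Etale (g.left ≫ U.hom) := (MorphismProperty.Over.w g).symm ▸ V.prop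
    haveI : Etale g.left := Etale.of_comp _ U.hom
    exact ⟨_, fun w hw => ⟨V, g, hg, hw⟩, g.left.isOpenMap.isOpen_range, hv⟩
  obtain ⟨j, φ, hφ⟩ := exists_stage_subset hc U Z ho fun y => by
    let W := (EtCoh.bc (c.π.app i)).obj U
    let ζ := EtaleSite.geomPointAt W.left y
    let ξ := ζ ≫ W.hom
    let χ : (Scheme.pointSmallEtale (ξ ≫ c.π.app i)).fiber.obj U :=
      (Over.homMk (ζ ≫ bcFst (c.π.app i) U) (by
        show (ζ ≫ bcFst (c.π.app i) U) ≫ U.hom = (ζ ≫ W.hom) ≫ c.π.app i
        rw [Category.assoc, Category.assoc, bcFst_w]) :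
        Over.mk (ξ ≫ c.π.app i) ⟶ (Scheme.Etale.forget _).obj U)
    have h0 : EtaleSite.germ (ξ ≫ c.π.app i) G U χ x = EtaleSite.germ (ξ ≫ c.π.app i) G U χ 0 := by
      refine (ConcreteCategory.bijective_of_isIso
        ((EtaleSite.stalkPullIso (c.π.app i) ξ).inv.app G)).1 ?_
      rw [map_zero, map_zero, EtaleSite.germ_stalkPullIso_inv]
      rw [show ((EtCoh.pullPushAdj (c.π.app i)).unit.app G).hom.app (op U) x = 0 from
        (ConcreteCategory.congr_hom (ofPush_app _ U).symm x).trans hx]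
      exact map_zero _
    obtain ⟨V, g, v, hv, hg⟩ := (EtaleSite.germ_eq_iff _ G U χ x 0).1 h0
    rw [map_zero] at hg
    let a : Spec (CommRingCat.of (SeparableClosure (W.left.residueField y))) := default
    refine ⟨V, g, hg, v.left a, ?_⟩
    have e : v.left ≫ g.left = ζ ≫ bcFst (c.π.app i) U := congrArg (fun k => k.left) hv
    show (v.left ≫ g.left) a = _
    erw [e, Scheme.Hom.comp_apply, EtaleSite.geomPointAt_apply]
  refine ⟨j, φ, ?_⟩
  choose V g hg v hv using fun y => hφ y
  let W := (EtCoh.bc (D.map φ)).obj U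
  refine EtColim.Sections.ext_of_cover _ (fun y : W.left => (EtCoh.bc (D.map φ)).map (g y))
    (fun y => ?_) _ _ fun y => ?_
  · exact ⟨y, exists_bc_point (D.map φ) (g y) y (v y) (hv y)⟩
  · rw [map_zero]
    rw [FHom.app_map_apply _ _ _ _ (bcFst (D.map φ) (V y) ≫ (g y).left)
      (by rw [Category.assoc, MorphismProperty.Over.w, bcFst_w]) (bc_map_fst (g y))]
    rw [← FHom.map_app_apply _ (g y) (bcFst (D.map φ) (V y)) (bcFst_w _ _) _ _ rfl, hg y, map_zero]

end Groth.Agent.EtLimit
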