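import Groth.Agent.EtaleSite.HpullFunctor
import Groth.Agent.EtaleSite.PushStalk
import Groth.Prelude.Def_EtCore

/-!
# Morphisms of étale sheaves over a morphism of schemes

For `f : A ⟶ B` an `FHom f G H` is a family of maps `G(U) ⟶ H(W)` indexed by the commutative squares
with `W` étale over `A` and `U` étale over `B`, natural in both.  It amounts to a morphism
`G ⟶ f_* H`, but composes strictly.
-/

set_option autoImplicit false
set_option backward.isDefEq.respectTransparency false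

universe u

open CategoryTheory CategoryTheory.Limits AlgebraicGeometry Opposite

noncomputable section

namespace Groth.Agent.EtLimit

variable {A B C D : Scheme.{u}}

/-- A morphism of sheaves over a morphism of schemes. -/
@[ext]
structure FHom (f : A ⟶ B) (G : EtCoh.Ab B) (H : EtCoh.Ab A) where
  /-- The map of sections attached to a square. -/
  app (W : A.Etale) (U : B.Etale) (w : W.left ⟶ U.left) (hw : w ≫ U.hom = W.hom ≫ f) :
    G.obj.obj (op U) ⟶ H.obj.obj (op W)
  naturality {W' W : A.Etale} {U U' : B.Etale} (h : W' ⟶ W) (g : U ⟶ U')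
    (w : W.left ⟶ U.left) (hw : w ≫ U.hom = W.hom ≫ f)
    (w' : W'.left ⟶ U'.left) (hw' : w' ≫ U'.hom = W'.hom ≫ f)
    (e : h.left ≫ w ≫ g.left = w') :
    G.obj.map g.op ≫ app W U w hw ≫ H.obj.map h.op = app W' U' w' hw'

namespace FHom

variable {f : A ⟶ B} {g : B ⟶ C} {G : EtCoh.Ab B} {H : EtCoh.Ab A}

theorem app_congr (σ : FHom f G H) {W : A.Etale} {U : B.Etale} {w w' : W.left ⟶ U.left}
    (hw : w ≫ U.hom = W.hom ≫ f) (hw' : w' ≫ U.hom = W.hom ≫ f) (e : w = w') :
    σ.app W U w hw = σ.app W U w' hw' := by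
  subst e; rfl

theorem app_map (σ : FHom f G H) {W' W : A.Etale} {U : B.Etale} (h : W' ⟶ W)
    (w : W.left ⟶ U.left) (hw : w ≫ U.hom = W.hom ≫ f)
    (w' : W'.left ⟶ U.left) (hw' : w' ≫ U.hom = W'.hom ≫ f) (e : h.left ≫ w = w') :
    σ.app W U w hw ≫ H.obj.map h.op = σ.app W' U w' hw' := by
  have := σ.naturality h (𝟙 U) w hw w' hw'
    ((congrArg (h.left ≫ ·) (Category.comp_id w)).trans e)
  rwa [op_id, CategoryTheory.Functor.map_id, Category.id_comp] at this

theorem map_app (σ : FHom f G H) {W : A.Etale} {U U' : B.Etale} (g : U ⟶ U')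
    (w : W.left ⟶ U.left) (hw : w ≫ U.hom = W.hom ≫ f)
    (w' : W.left ⟶ U'.left) (hw' : w' ≫ U'.hom = W.hom ≫ f) (e : w ≫ g.left = w') :
    G.obj.map g.op ≫ σ.app W U w hw = σ.app W U' w' hw' := by
  have := σ.naturality (𝟙 W) g w hw w' hw' ((Category.id_comp _).trans e)
  rwa [op_id, CategoryTheory.Functor.map_id, Category.comp_id] at this

theorem app_map_apply (σ : FHom f G H) {W' W : A.Etale} {U : B.Etale} (h : W' ⟶ W)
    (w : W.left ⟶ U.left) (hw : w ≫ U.hom = W.hom ≫ f)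
    (w' : W'.left ⟶ U.left) (hw' : w' ≫ U.hom = W'.hom ≫ f) (e : h.left ≫ w = w')
    (x : G.obj.obj (op U)) : H.obj.map h.op (σ.app W U w hw x) = σ.app W' U w' hw' x :=
  ConcreteCategory.congr_hom (σ.app_map h w hw w' hw' e) x

theorem map_app_apply (σ : FHom f G H) {W : A.Etale} {U U' : B.Etale} (g : U ⟶ U')
    (w : W.left ⟶ U.left) (hw : w ≫ U.hom = W.hom ≫ f)
    (w' : W.left ⟶ U'.left) (hw' : w' ≫ U'.hom = W.hom ≫ f) (e : w ≫ g.left = w')
    (x : G.obj.obj (op U')) : σ.app W U w hw (G.obj.map g.op x) = σ.app W U' w' hw' x :=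
  ConcreteCategory.congr_hom (σ.map_app g w hw w' hw' e) x

/-- Projection from the base change. -/
abbrev bcFst (f : A ⟶ B) (U : B.Etale) : ((EtCoh.bc f).obj U).left ⟶ U.left :=
  pullback.fst U.hom f

theorem bcFst_w (f : A ⟶ B) (U : B.Etale) :
    bcFst f U ≫ U.hom = ((EtCoh.bc f).obj U).hom ≫ f :=
  pullback.condition

/-- The map to the base change given by a square. -/
def toBc {W : A.Etale} {U : B.Etale} (w : W.left ⟶ U.left) (hw : w ≫ U.hom = W.hom ≫ f) :
    W ⟶ (EtCoh.bc f).obj U :=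
  MorphismProperty.Over.homMk (pullback.lift w W.hom hw) (pullback.lift_snd _ _ _) trivial

theorem toBc_fst {W : A.Etale} {U : B.Etale} (w : W.left ⟶ U.left)
    (hw : w ≫ U.hom = W.hom ≫ f) : (toBc w hw).left ≫ bcFst f U = w :=
  pullback.lift_fst _ _ _

theorem bc_hom_ext {W : A.Etale} {U : B.Etale} {a b : W ⟶ (EtCoh.bc f).obj U}
    (h : a.left ≫ bcFst f U = b.left ≫ bcFst f U) : a = b :=
  MorphismProperty.Over.Hom.ext (pullback.hom_ext h
    ((MorphismProperty.Over.w a).trans (MorphismProperty.Over.w b).symm))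

theorem bc_map_fst {U U' : B.Etale} (g : U ⟶ U') :
    ((EtCoh.bc f).map g).left ≫ bcFst f U' = bcFst f U ≫ g.left :=
  (EtCoh.isPullback_bc_map f g).w

/-- From a morphism into the direct image. -/
def ofPush (σ : G ⟶ (EtCoh.push f).obj H) : FHom f G H where
  app W U w hw := σ.hom.app (op U) ≫ H.obj.map (toBc w hw).op
  naturality {W' W U U'} h g w hw w' hw' e := by
    have h1 : h ≫ toBc w hw ≫ (EtCoh.bc f).map g = toBc w' hw' := bc_hom_ext (by
      refine Eq.trans ?_ (toBc_fst w' hw').symm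
      refine (Category.assoc h.left _ _).trans (Eq.trans ?_ e)
      refine congrArg (h.left ≫ ·) ?_
      exact (Category.assoc _ _ _).trans ((congrArg ((toBc w hw).left ≫ ·) (bc_map_fst g)).trans
        ((Category.assoc _ _ _).symm.trans (congrArg (· ≫ g.left) (toBc_fst w hw)))))
    have h2 : G.obj.map g.op ≫ σ.hom.app (op U) =
        σ.hom.app (op U') ≫ H.obj.map ((EtCoh.bc f).map g).op := σ.hom.naturality g.op
    simp only [Category.assoc]
    rw [reassoc_of% h2]
    refine congrArg (σ.hom.app (op U') ≫ ·) ?_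
    refine ((congrArg (H.obj.map _ ≫ ·) (H.obj.map_comp _ _).symm).trans (H.obj.map_comp _ _).symm).trans ?_
    exact congrArg (fun q => H.obj.map q.op) ((Category.assoc _ _ _).trans h1)

/-- The morphism into the direct image. -/
def toPush (σ : FHom f G H) : G ⟶ (EtCoh.push f).obj H :=
  ObjectProperty.homMk
    { app := fun U => σ.app ((EtCoh.bc f).obj U.unop) U.unop (bcFst f U.unop) (bcFst_w f U.unop)
      naturality := fun U U' g => by
        refine (σ.map_app g.unop _ (bcFst_w f U'.unop) _ ?_ rfl).trans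
          (σ.app_map ((EtCoh.bc f).map g.unop) _ (bcFst_w f U.unop) _ ?_ (bc_map_fst g.unop)).symm
        all_goals
          rw [Category.assoc]
          exact (congrArg (bcFst f U'.unop ≫ ·) (MorphismProperty.Over.w g.unop)).trans
            (bcFst_w f U'.unop) }

theorem ofPush_app (σ : G ⟶ (EtCoh.push f).obj H) (U : B.Etale) :
    (ofPush σ).app ((EtCoh.bc f).obj U) U (bcFst f U) (bcFst_w f U) = σ.hom.app (op U) := by
  have h : toBc (bcFst f U) (bcFst_w f U) = 𝟙 _ := bc_hom_ext (by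
    rw [toBc_fst]; exact (Category.id_comp _).symm)
  show σ.hom.app (op U) ≫ H.obj.map (toBc (bcFst f U) (bcFst_w f U)).op = _
  exact (congrArg (σ.hom.app (op U) ≫ ·) ((congrArg (fun q => H.obj.map q.op) h).trans
    (H.obj.map_id _))).trans (Category.comp_id _)

theorem toPush_ofPush (σ : G ⟶ (EtCoh.push f).obj H) : (ofPush σ).toPush = σ :=
  Sheaf.hom_ext (NatTrans.ext (funext fun U => ofPush_app σ U.unop))

theorem ofPush_toPush (σ : FHom f G H) : ofPush σ.toPush = σ := by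
  ext W U w hw : 5
  exact σ.app_map (toBc w hw) _ (bcFst_w f U) _ hw (toBc_fst w hw)

/-- Composition. -/
def comp {G : EtCoh.Ab C} {H : EtCoh.Ab B} {K : EtCoh.Ab A} (σ : FHom g G H) (τ : FHom f H K)
    {h : A ⟶ C} (e : f ≫ g = h) : FHom h G K where
  app W U w hw :=
    σ.app ((EtCoh.bc g).obj U) U (bcFst g U) (bcFst_w g U) ≫
      τ.app W ((EtCoh.bc g).obj U)
        (pullback.lift w (W.hom ≫ f) (by rw [hw, Category.assoc, e]))
        (pullback.lift_snd _ _ _)
  naturality {W' W U U'} hh gg w hw w' hw' ee := by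
    subst e
    simp only [Category.assoc]
    have h1 : G.obj.map gg.op ≫ σ.app ((EtCoh.bc g).obj U) U (bcFst g U) (bcFst_w g U) =
        σ.app ((EtCoh.bc g).obj U') U' (bcFst g U') (bcFst_w g U') ≫
          H.obj.map ((EtCoh.bc g).map gg).op :=
      σ.toPush.hom.naturality gg.op
    rw [reassoc_of% h1]
    refine congrArg (σ.app _ U' (bcFst g U') (bcFst_w g U') ≫ ·) ?_
    refine τ.naturality hh ((EtCoh.bc g).map gg) _ _ _ _ (pullback.hom_ext ?_ ?_)
    · rw [pullback.lift_fst]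
      refine Eq.trans ?_ ee
      refine (Category.assoc _ _ _).trans (congrArg (hh.left ≫ ·) ?_)
      refine (Category.assoc _ _ _).trans ((congrArg (_ ≫ ·) (bc_map_fst gg)).trans ?_)
      exact (Category.assoc _ _ _).symm.trans (congrArg (· ≫ gg.left) (pullback.lift_fst _ _ _))
    · rw [pullback.lift_snd]
      refine (Category.assoc _ _ _).trans ?_
      refine (congrArg (hh.left ≫ ·) ((Category.assoc _ _ _).trans
        ((congrArg (_ ≫ ·) (MorphismProperty.Over.w ((EtCoh.bc g).map gg))).trans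
          (pullback.lift_snd _ _ _)))).trans ?_
      rw [← Category.assoc, MorphismProperty.Over.w hh]

/-- Composition may be computed through any intermediate object. -/
theorem comp_app {G : EtCoh.Ab C} {H : EtCoh.Ab B} {K : EtCoh.Ab A} (σ : FHom g G H)
    (τ : FHom f H K) {h : A ⟶ C} (e : f ≫ g = h) {W : A.Etale} {V : B.Etale} {U : C.Etale}
    (w₁ : W.left ⟶ V.left) (h₁ : w₁ ≫ V.hom = W.hom ≫ f) (w₂ : V.left ⟶ U.left)
    (h₂ : w₂ ≫ U.hom = V.hom ≫ g) (w : W.left ⟶ U.left) (hw : w ≫ U.hom = W.hom ≫ h)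
    (he : w₁ ≫ w₂ = w) :
    σ.app V U w₂ h₂ ≫ τ.app W V w₁ h₁ = (σ.comp τ e).app W U w hw := by
  rw [← σ.app_map (toBc w₂ h₂) _ (bcFst_w g U) _ h₂ (toBc_fst w₂ h₂), Category.assoc]
  refine congrArg (σ.app _ U (bcFst g U) (bcFst_w g U) ≫ ·) (τ.map_app _ _ h₁ _ _ ?_)
  refine pullback.hom_ext ?_ ?_
  · rw [pullback.lift_fst, Category.assoc]
    exact (congrArg (w₁ ≫ ·) (toBc_fst w₂ h₂)).trans he
  · rw [pullback.lift_snd, Category.assoc]
    exact (congrArg (w₁ ≫ ·) (MorphismProperty.Over.w (toBc w₂ h₂))).trans h₁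

theorem comp_app_apply {G : EtCoh.Ab C} {H : EtCoh.Ab B} {K : EtCoh.Ab A} (σ : FHom g G H)
    (τ : FHom f H K) {h : A ⟶ C} (e : f ≫ g = h) {W : A.Etale} {V : B.Etale} {U : C.Etale}
    (w₁ : W.left ⟶ V.left) (h₁ : w₁ ≫ V.hom = W.hom ≫ f) (w₂ : V.left ⟶ U.left)
    (h₂ : w₂ ≫ U.hom = V.hom ≫ g) (w : W.left ⟶ U.left) (hw : w ≫ U.hom = W.hom ≫ h)
    (he : w₁ ≫ w₂ = w) (x : G.obj.obj (op U)) :
    τ.app W V w₁ h₁ (σ.app V U w₂ h₂ x) = (σ.comp τ e).app W U w hw x :=
  ConcreteCategory.congr_hom (σ.comp_app τ e w₁ h₁ w₂ h₂ w hw he) x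

theorem comp_assoc {a : A ⟶ B} {b : B ⟶ C} {c : C ⟶ D} {G : EtCoh.Ab D} {H : EtCoh.Ab C}
    {K : EtCoh.Ab B} {L : EtCoh.Ab A} (σ : FHom c G H) (τ : FHom b H K) (υ : FHom a K L)
    {bc : B ⟶ D} (e₁ : b ≫ c = bc) {ab : A ⟶ C} (e₂ : a ≫ b = ab) {abc : A ⟶ D}
    (e₃ : a ≫ bc = abc) (e₄ : ab ≫ c = abc) :
    (σ.comp τ e₁).comp υ e₃ = σ.comp (τ.comp υ e₂) e₄ := by
  ext W U w hw : 5
  subst e₁ e₂ e₄
  let V₂ := (EtCoh.bc (b ≫ c)).obj U
  let V₁ := (EtCoh.bc c).obj U
  let p : V₂.left ⟶ V₁.left :=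
    pullback.lift (bcFst (b ≫ c) U) (V₂.hom ≫ b) ((bcFst_w (b ≫ c) U).trans (Category.assoc _ _ _).symm)
  let l : W.left ⟶ V₂.left :=
    pullback.lift w (W.hom ≫ a) (by rw [hw, e₃.symm]; simp)
  have hl : l ≫ V₂.hom = W.hom ≫ a := pullback.lift_snd _ _ _
  have hp : p ≫ V₁.hom = V₂.hom ≫ b := pullback.lift_snd _ _ _
  show (σ.comp τ rfl).app V₂ U (bcFst _ U) (bcFst_w _ U) ≫ υ.app W V₂ l hl = _
  rw [← σ.comp_app τ rfl p hp (bcFst c U) (bcFst_w c U) _ (bcFst_w (b ≫ c) U)
    (pullback.lift_fst _ _ _), Category.assoc,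
    τ.comp_app υ rfl l hl p hp (l ≫ p) (by rw [Category.assoc, hp, reassoc_of% hl])
      rfl]
  exact σ.comp_app _ rfl _ _ _ _ _ hw (by
    rw [Category.assoc, show p ≫ bcFst c U = _ from pullback.lift_fst _ _ _]
    exact pullback.lift_fst _ _ _)

/-- The identity. -/
def id (G : EtCoh.Ab A) : FHom (𝟙 A) G G where
  app W U w hw := G.obj.map
    (MorphismProperty.Over.homMk w (hw.trans (Category.comp_id _)) trivial : W ⟶ U).op
  naturality {W' W U U'} h g w hw w' hw' e := by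
    rw [← Functor.map_comp, ← Functor.map_comp, ← op_comp, ← op_comp]
    refine congrArg (fun k : W' ⟶ U' => G.obj.map k.op) (MorphismProperty.Over.Hom.ext ?_)
    exact (Category.assoc _ _ _).trans e

theorem comp_id {G : EtCoh.Ab B} {H : EtCoh.Ab A} (σ : FHom f G H) (e : 𝟙 A ≫ f = f) :
    σ.comp (id H) e = σ := by
  ext W U w hw : 5
  exact σ.app_map _ _ (bcFst_w f U) _ hw (pullback.lift_fst _ _ _)

theorem id_comp {G : EtCoh.Ab B} {H : EtCoh.Ab A} (σ : FHom f G H) (e : f ≫ 𝟙 B = f) :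
    (id G).comp σ e = σ := by
  ext W U w hw : 5
  exact σ.map_app _ _ _ _ hw (pullback.lift_fst _ _ _)

/-- Composition with a morphism of sheaves at the target. -/
def post (σ : FHom f G H) {H' : EtCoh.Ab A} (a : H ⟶ H') : FHom f G H' where
  app W U w hw := σ.app W U w hw ≫ a.hom.app (op W)
  naturality {W' W U U'} h g w hw w' hw' e := by
    rw [← σ.naturality h g w hw w' hw' e, Category.assoc, Category.assoc, Category.assoc,
      a.hom.naturality]

/-- Composition with a morphism of sheaves at the source. -/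
def pre {G' : EtCoh.Ab B} (a : G' ⟶ G) (σ : FHom f G H) : FHom f G' H where
  app W U w hw := a.hom.app (op U) ≫ σ.app W U w hw
  naturality {W' W U U'} h g w hw w' hw' e := by
    rw [← σ.naturality h g w hw w' hw' e, Category.assoc, ← a.hom.naturality_assoc]

@[simp] theorem post_id (σ : FHom f G H) : σ.post (𝟙 H) = σ := by
  ext W U w hw : 5
  exact Category.comp_id _

theorem post_post (σ : FHom f G H) {H' H'' : EtCoh.Ab A} (a : H ⟶ H') (b : H' ⟶ H'') :
    (σ.post a).post b = σ.post (a ≫ b) := by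
  ext W U w hw : 5
  exact Category.assoc _ _ _

theorem pre_post {G' : EtCoh.Ab B} (a : G' ⟶ G) (σ : FHom f G H) {H' : EtCoh.Ab A} (b : H ⟶ H') :
    (σ.pre a).post b = (σ.post b).pre a := by
  ext W U w hw : 5
  exact Category.assoc _ _ _

theorem comp_post {G : EtCoh.Ab C} {H : EtCoh.Ab B} {K K' : EtCoh.Ab A} (σ : FHom g G H)
    (τ : FHom f H K) (a : K ⟶ K') {h : A ⟶ C} (e : f ≫ g = h) :
    (σ.comp τ e).post a = σ.comp (τ.post a) e := by
  ext W U w hw : 5
  exact Category.assoc _ _ _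

theorem post_comp {G : EtCoh.Ab C} {H H' : EtCoh.Ab B} {K : EtCoh.Ab A} (σ : FHom g G H)
    (a : H ⟶ H') (τ : FHom f H' K) {h : A ⟶ C} (e : f ≫ g = h) :
    (σ.post a).comp τ e = σ.comp (τ.pre a) e := by
  ext W U w hw : 5
  exact Category.assoc _ _ _

theorem pre_comp {G G' : EtCoh.Ab C} {H : EtCoh.Ab B} {K : EtCoh.Ab A} (b : G' ⟶ G)
    (σ : FHom g G H) (τ : FHom f H K) {h : A ⟶ C} (e : f ≫ g = h) :
    (σ.pre b).comp τ e = (σ.comp τ e).pre b := by
  ext W U w hw : 5
  exact Category.assoc _ _ _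

theorem toPush_post (σ : FHom f G H) {H' : EtCoh.Ab A} (a : H ⟶ H') :
    (σ.post a).toPush = σ.toPush ≫ (EtCoh.push f).map a :=
  rfl

/-- The unit of inverse and direct image. -/
def unit (f : A ⟶ B) (G : EtCoh.Ab B) : FHom f G ((EtCoh.pull f).obj G) :=
  ofPush ((EtCoh.pullPushAdj f).unit.app G)

/-- The morphism out of the inverse image. -/
def desc (σ : FHom f G H) : (EtCoh.pull f).obj G ⟶ H :=
  ((EtCoh.pullPushAdj f).homEquiv G H).symm σ.toPush

@[simp] theorem unit_post_desc (σ : FHom f G H) : (unit f G).post σ.desc = σ := by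
  conv_rhs => rw [← ofPush_toPush σ]
  rw [← ofPush_toPush ((unit f G).post σ.desc), toPush_post, unit, toPush_ofPush,
    ← Adjunction.homEquiv_unit, desc, Equiv.apply_symm_apply]

theorem desc_unit_post (a : (EtCoh.pull f).obj G ⟶ H) : ((unit f G).post a).desc = a := by
  rw [desc, toPush_post, unit, toPush_ofPush, ← Adjunction.homEquiv_unit, Equiv.symm_apply_apply]

theorem unit_post_inj {a b : (EtCoh.pull f).obj G ⟶ H}
    (h : (unit f G).post a = (unit f G).post b) : a = b := by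
  rw [← desc_unit_post a, h, desc_unit_post]

theorem unit_post_map {G G' : EtCoh.Ab B} (a : G ⟶ G') :
    (unit f G).post ((EtCoh.pull f).map a) = (unit f G').pre a := by
  rw [← ofPush_toPush ((unit f G).post _), ← ofPush_toPush ((unit f G').pre a), toPush_post]
  have : ((unit f G').pre a).toPush = a ≫ (unit f G').toPush := rfl
  rw [this, unit, unit, toPush_ofPush, toPush_ofPush]
  exact congrArg ofPush ((EtCoh.pullPushAdj f).unit.naturality a).symm

/-- The composition isomorphism of inverse images. -/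
def κ (f : A ⟶ B) (g : B ⟶ C) {h : A ⟶ C} (e : f ≫ g = h) (G : EtCoh.Ab C) :
    (EtCoh.pull f).obj ((EtCoh.pull g).obj G) ≅ (EtCoh.pull h).obj G :=
  ((EtCore.pullComp f g).symm ≪≫ EtCore.pullCongr e).app G

theorem toPush_comp {G : EtCoh.Ab C} {H : EtCoh.Ab B} {K : EtCoh.Ab A} (σ : FHom g G H)
    (τ : FHom f H K) :
    (σ.comp τ rfl).toPush =
      σ.toPush ≫ (EtCoh.push g).map τ.toPush ≫ (EtCoh.pushComp g f).hom.app K := by
  refine Sheaf.hom_ext (NatTrans.ext (funext fun U => ?_))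
  show (σ.comp τ rfl).app _ U.unop (bcFst (f ≫ g) U.unop) (bcFst_w _ _) =
    σ.toPush.hom.app U ≫ τ.toPush.hom.app (op ((EtCoh.bc g).obj U.unop)) ≫
      ((EtCoh.pushComp g f).hom.app K).hom.app U
  have h1 : ((EtCoh.pushComp g f).hom.app K).hom.app U =
      K.obj.map (EtaleSite.HpullFunctor.bcComp f g U.unop).op := by
    simp [EtCoh.pushComp, Functor.sheafPushforwardContinuousComp',
      Functor.sheafPushforwardContinuousComp]
  rw [h1]
  refine congrArg (σ.app _ U.unop (bcFst g U.unop) (bcFst_w _ _) ≫ ·) ?_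
  refine (τ.app_map (EtaleSite.HpullFunctor.bcComp f g U.unop) _
    (bcFst_w f ((EtCoh.bc g).obj U.unop)) _ _ (pullback.hom_ext ?_ ?_)).symm
  · rw [pullback.lift_fst, Category.assoc]
    exact EtaleSite.HpullFunctor.bcComp_fst f g U.unop
  · rw [pullback.lift_snd, Category.assoc]
    exact EtaleSite.HpullFunctor.bcComp_fst_snd f g U.unop

theorem unit_comp_unit_post_κ (f : A ⟶ B) (g : B ⟶ C) {h : A ⟶ C} (e : f ≫ g = h)
    (G : EtCoh.Ab C) :
    ((unit g G).comp (unit f ((EtCoh.pull g).obj G)) e).post (κ f g e G).hom = unit h G := by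
  subst e
  have h1 : (unit g G).comp (unit f ((EtCoh.pull g).obj G)) rfl =
      (unit (f ≫ g) G).post ((EtCore.pullComp f g).hom.app G) := by
    rw [← ofPush_toPush ((unit g G).comp _ rfl), ← ofPush_toPush ((unit (f ≫ g) G).post _),
      toPush_comp, toPush_post, unit, unit, unit, toPush_ofPush, toPush_ofPush, toPush_ofPush]
    refine congrArg ofPush ?_
    refine Eq.symm ((Adjunction.unit_leftAdjointUniq_hom_app _ _ G).trans ?_)
    simp [Adjunction.ofNatIsoRight, Adjunction.homEquiv_unit]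
  rw [h1, post_post]
  have : (EtCore.pullComp f g).hom.app G ≫ (κ f g rfl G).hom = 𝟙 _ := by
    simp [κ, EtCore.pullCongr]
  rw [this, post_id]

end FHom

/-- Degree zero cohomology as sections over the final object. -/
abbrev s₀ {X : Scheme.{u}} (G : EtCoh.Ab X) : EtCoh.H X G 0 ≃+ EtCoh.sect G (EtCoh.top X) :=
  Sheaf.H.equiv₀ G (EtCore.topIsTerminal X)

theorem s₀_mk₀ {X : Scheme.{u}} {F : EtCoh.Ab X} (ψ : EtCoh.const X ℤ ⟶ F) :
    s₀ F (Abelian.Ext.mk₀ ψ) =
      ((EtCore.constAdj X).homEquiv _ _ ψ).hom (ULift.up 1) := by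
  unfold s₀ Sheaf.H.equiv₀
  rw [AddEquiv.trans_apply, AddEquiv.trans_apply,
    show Abelian.Ext.addEquiv₀ (Abelian.Ext.mk₀ ψ) = ψ from
      Abelian.Ext.addEquiv₀.apply_symm_apply ψ]
  rfl

/-- Pulling back global sections. -/
theorem s₀_Hpull (f : A ⟶ B) [PreservesFiniteLimits (EtCoh.pull f)] (G : EtCoh.Ab B)
    (x : EtCoh.H B G 0) :
    s₀ ((EtCoh.pull f).obj G) (EtCore.Hpull f G 0 x) =
      (FHom.unit f G).app (EtCoh.top A) (EtCoh.top B) f
        ((Category.comp_id f).trans (Category.id_comp f).symm) (s₀ G x) := by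
  obtain ⟨φ, rfl⟩ := (Abelian.Ext.mk₀_bijective (EtCoh.const B ℤ) G).2 x
  rw [EtaleSite.HpullComp.Hpull_mk₀]
  rw [s₀_mk₀, s₀_mk₀]
  have h := EtaleSite.HpullComp.pullConst_homEquiv f (AddCommGrpCat.of (ULift.{u + 1} ℤ))
    ((EtCoh.pull f).map φ)
  rw [show ((EtCoh.pullPushAdj f).homEquiv _ _) ((EtCoh.pull f).map φ) =
      φ ≫ (EtCoh.pullPushAdj f).unit.app G from by
        rw [Adjunction.homEquiv_unit]; exact ((EtCoh.pullPushAdj f).unit.naturality φ).symm,
    (EtCore.constAdj B).homEquiv_naturality_right φ] at h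
  erw [h]
  generalize ((EtCore.constAdj B).homEquiv (AddCommGrpCat.of (ULift.{u + 1} ℤ)) G) φ = ψ
  simp only [AddCommGrpCat.hom_comp, AddMonoidHom.comp_apply]
  generalize ψ.hom (ULift.up 1) = y
  have e : (EtCore.bcTopIso f).inv = FHom.toBc (U := EtCoh.top B) (W := EtCoh.top A) f
      ((Category.comp_id f).trans (Category.id_comp f).symm) :=
    (EtCore.bcTopIsTerminal f).hom_ext _ _
  show ((EtCoh.pull f).obj G).obj.map (EtCore.bcTopIso f).inv.op
      (((EtCoh.pullPushAdj f).unit.app G).hom.app (op (EtCoh.top B)) y) =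
    ((EtCoh.pull f).obj G).obj.map (FHom.toBc (U := EtCoh.top B) (W := EtCoh.top A) f
      ((Category.comp_id f).trans (Category.id_comp f).symm)).op
      (((EtCoh.pullPushAdj f).unit.app G).hom.app (op (EtCoh.top B)) y)
  rw [e]

end Groth.Agent.EtLimit
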