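import Groth.Agent.EtLimit.Systems
import Groth.Agent.EtLimit.Acyclic
import Groth.Agent.EtaleSite.HpullFunctor
import Groth.Agent.EtaleSite.HpullSeq

/-!
# Étale cohomology of a limit of schemes: auxiliary steps
-/

set_option autoImplicit false
set_option backward.isDefEq.respectTransparency false

universe u

open CategoryTheory CategoryTheory.Limits AlgebraicGeometry Opposite CategoryTheory.Abelian

noncomputable section

namespace Groth.Agent.EtLimit

open FHom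

theorem κ_assoc {W X Y Z : Scheme.{u}} (f : W ⟶ X) (g : X ⟶ Y) (h : Y ⟶ Z) {fg : W ⟶ Y}
    {gh : X ⟶ Z} {fgh : W ⟶ Z} (e₁ : f ≫ g = fg) (e₂ : g ≫ h = gh) (e₃ : f ≫ gh = fgh)
    (e₄ : fg ≫ h = fgh) (G : EtCoh.Ab Z) :
    (EtCoh.pull f).map (κ g h e₂ G).hom ≫ (κ f gh e₃ G).hom =
      (κ f g e₁ ((EtCoh.pull h).obj G)).hom ≫ (κ fg h e₄ G).hom := by
  refine unit_post_inj (unit_comp_inj e₁ (unit_comp_inj e₄ ?_))
  rw [← post_post, ← post_post, unit_post_map]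
  simp only [← comp_post]
  rw [← post_comp, ← comp_assoc (unit h G) ((unit g _).post (κ g h e₂ G).hom) (unit f _) e₂ e₁ e₃ e₄,
    ← comp_post (unit h G) (unit g _), unit_comp_unit_post_κ, unit_comp_unit_post_κ,
    comp_post (unit h G) ((unit g _).comp (unit f _) e₁), unit_comp_unit_post_κ, unit_comp_unit_post_κ]

/-- Both projections to a base change of the base itself agree. -/
theorem bcTop_hom_ext {A B T : Scheme.{u}} (f : A ⟶ B)
    (a b : T ⟶ ((EtCoh.bc f).obj (EtCoh.top B)).left)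
    (h : a ≫ ((EtCoh.bc f).obj (EtCoh.top B)).hom = b ≫ ((EtCoh.bc f).obj (EtCoh.top B)).hom) :
    a = b := by
  refine pullback.hom_ext ?_ h
  have e : bcFst f (EtCoh.top B) = ((EtCoh.bc f).obj (EtCoh.top B)).hom ≫ f :=
    (Category.comp_id _).symm.trans (bcFst_w f (EtCoh.top B))
  show a ≫ bcFst f (EtCoh.top B) = b ≫ bcFst f (EtCoh.top B)
  rw [e, ← Category.assoc, h, Category.assoc]

theorem top_w {A B : Scheme.{u}} (f : A ⟶ B) :
    f ≫ (EtCoh.top B).hom = (EtCoh.top A).hom ≫ f :=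
  (Category.comp_id f).trans (Category.id_comp f).symm

theorem bcTopIso_inv_fst {A B : Scheme.{u}} (f : A ⟶ B) :
    (EtCore.bcTopIso f).inv.left ≫ bcFst f (EtCoh.top B) = f := by
  have e : bcFst f (EtCoh.top B) = ((EtCoh.bc f).obj (EtCoh.top B)).hom ≫ f :=
    (Category.comp_id _).symm.trans (bcFst_w f (EtCoh.top B))
  rw [e, ← Category.assoc, MorphismProperty.Over.w]
  exact Category.id_comp f

theorem bcTopIso_hom_left {A B : Scheme.{u}} (f : A ⟶ B) :
    (EtCore.bcTopIso f).hom.left ≫ f = bcFst f (EtCoh.top B) := by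
  have e : bcFst f (EtCoh.top B) = ((EtCoh.bc f).obj (EtCoh.top B)).hom ≫ f :=
    (Category.comp_id _).symm.trans (bcFst_w f (EtCoh.top B))
  rw [e, ← MorphismProperty.Over.w (EtCore.bcTopIso f).hom]
  exact congrArg (· ≫ f) (Category.comp_id _).symm

theorem congr_transport {X Y : Scheme.{u}} {f f' : X ⟶ Y} (e : f = f') (G : EtCoh.Ab Y) (n : ℕ)
    (z : EtCoh.H Y G n) :
    (EtCore.Hpull f G n z).comp (Ext.mk₀ ((EtCore.pullCongr e).hom.app G)) (add_zero n) =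
      EtCore.Hpull f' G n z := by
  subst e
  simp [EtCore.pullCongr]

theorem Hpull_eq_zero {X Y Z : Scheme.{u}} {f : X ⟶ Y} {g : Y ⟶ Z} {h : X ⟶ Z} (e : f ≫ g = h)
    (G : EtCoh.Ab Z) (n : ℕ) (z : EtCoh.H Z G n)
    (h0 : (EtCore.Hpull (f ≫ g) G n z).comp (Ext.mk₀ ((EtCore.pullComp f g).hom.app G)) (add_zero n) = 0) :
    EtCore.Hpull h G n z = 0 := by
  subst e
  exact (EtaleSite.HpullComp.HF_map_bijective ((EtCore.pullComp f g).hom.app G)).1
    (h0.trans (by simp))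

theorem unit_fst_top {A B : Scheme.{u}} (f : A ⟶ B) (G : EtCoh.Ab B) (y : EtCoh.H B G 0) :
    (unit f G).app _ (EtCoh.top B) (bcFst f (EtCoh.top B)) (bcFst_w _ _) (s₀ G y) =
      ((EtCoh.pull f).obj G).obj.map (EtCore.bcTopIso f).hom.op
        (s₀ ((EtCoh.pull f).obj G) (EtCore.Hpull f G 0 y)) := by
  rw [s₀_Hpull]
  exact ((unit f G).app_map_apply (U := EtCoh.top B) (EtCore.bcTopIso f).hom
    (f : (EtCoh.top A).left ⟶ (EtCoh.top B).left) (top_w f) _ (bcFst_w _ _)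
    (bcTopIso_hom_left f) _).symm

theorem s₀_Hpull_fst {A B : Scheme.{u}} (f : A ⟶ B) (G : EtCoh.Ab B) (y : EtCoh.H B G 0) :
    s₀ ((EtCoh.pull f).obj G) (EtCore.Hpull f G 0 y) =
      ((EtCoh.pull f).obj G).obj.map (EtCore.bcTopIso f).inv.op
        ((unit f G).app _ (EtCoh.top B) (bcFst f (EtCoh.top B)) (bcFst_w _ _) (s₀ G y)) := by
  rw [unit_fst_top, ← ConcreteCategory.comp_apply, ← Functor.map_comp, ← op_comp, Iso.inv_hom_id,
    op_id, CategoryTheory.Functor.map_id]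
  rfl

theorem app_top_eq {X A B : Scheme.{u}} {f : X ⟶ A} (ψ : A ⟶ B) (h : X ⟶ B) {H : EtCoh.Ab A}
    {K : EtCoh.Ab X} (ρ : FHom f H K)
    (L : ((EtCoh.bc h).obj (EtCoh.top B)).left ⟶ ((EtCoh.bc ψ).obj (EtCoh.top B)).left)
    (hL : L ≫ ((EtCoh.bc ψ).obj (EtCoh.top B)).hom = ((EtCoh.bc h).obj (EtCoh.top B)).hom ≫ f)
    (z : H.obj.obj (op ((EtCoh.bc ψ).obj (EtCoh.top B)))) :
    ρ.app (EtCoh.top X) (EtCoh.top A) f (top_w f) (H.obj.map (EtCore.bcTopIso ψ).inv.op z) =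
      K.obj.map (EtCore.bcTopIso h).inv.op (ρ.app _ _ L hL z) := by
  have hw : ((EtCore.bcTopIso h).inv.left ≫ L) ≫ ((EtCoh.bc ψ).obj (EtCoh.top B)).hom =
      (EtCoh.top X).hom ≫ f :=
    (Category.assoc _ _ _).trans ((congrArg (_ ≫ ·) hL).trans
      ((Category.assoc _ _ _).symm.trans
        (congrArg (· ≫ f) (MorphismProperty.Over.w (EtCore.bcTopIso h).inv))))
  have hw' : ((f : (EtCoh.top X).left ⟶ (EtCoh.top A).left) ≫ (EtCore.bcTopIso ψ).inv.left) ≫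
      ((EtCoh.bc ψ).obj (EtCoh.top B)).hom = (EtCoh.top X).hom ≫ f :=
    (Category.assoc _ _ _).trans ((congrArg ((f : (EtCoh.top X).left ⟶ (EtCoh.top A).left) ≫ ·)
      (MorphismProperty.Over.w (EtCore.bcTopIso ψ).inv)).trans (top_w f))
  refine (ρ.map_app_apply (W := EtCoh.top X) (EtCore.bcTopIso ψ).inv
    (f : (EtCoh.top X).left ⟶ (EtCoh.top A).left) (top_w f) _ hw' rfl z).trans
    (Eq.trans ?_ (ρ.app_map_apply (EtCore.bcTopIso h).inv L hL _ hw rfl z).symm)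
  exact ConcreteCategory.congr_hom
    (app_congr ρ hw' hw (bcTop_hom_ext _ _ _ (hw'.trans hw.symm))) z

theorem Hpull_δ_eq_zero {X Y : Scheme.{u}} (f : X ⟶ Y) {S : ShortComplex (EtCoh.Ab Y)}
    (hS : S.ShortExact) {q : ℕ} (z : EtCoh.H Y S.X₃ q) (r : EtCoh.H Y S.X₂ q)
    (hb : EtCore.Hpull f S.X₃ q (r.comp (Ext.mk₀ S.g) (add_zero q)) = EtCore.Hpull f S.X₃ q z) :
    EtCore.Hpull f S.X₁ (q + 1) (z.comp hS.extClass rfl) = 0 := by
  rw [EtaleSite.HpullSeq.Hpull_extClass, ← hb, EtaleSite.HpullSeq.Hpull_postcomp,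
    Ext.comp_assoc_of_second_deg_zero]
  exact (congrArg (fun e => (EtCore.Hpull f S.X₂ q r).comp e (rfl : q + 1 = q + 1))
    (hS.map_of_exact (EtCoh.pull f)).comp_extClass).trans (Ext.comp_zero _ _ _ _ _)

variable {I : Type u} [SmallCategory I] [IsCofiltered I] {D : I ⥤ Scheme.{u}} {c : Cone D}
  (hc : IsLimit c) [∀ (i j : I) (a : i ⟶ j), IsAffineHom (D.map a)]
  [∀ i, CompactSpace (D.obj i)] [∀ i, QuasiSeparatedSpace (D.obj i)]

include hc in
theorem injective_zero (j : I) (G : EtCoh.Ab (D.obj j)) (y : EtCoh.H (D.obj j) G 0)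
    (hy : EtCore.Hpull (c.π.app j) G 0 y = 0) :
    ∃ (k : I) (a : k ⟶ j), EtCore.Hpull (D.map a) G 0 y = 0 := by
  haveI : CompactSpace (EtCoh.top (D.obj j)).left := inferInstanceAs (CompactSpace (D.obj j))
  obtain ⟨k, a, hk⟩ := exists_stage_zero hc G (EtCoh.top (D.obj j)) (s₀ G y)
    ((unit_fst_top (c.π.app j) G y).trans
      ((congrArg _ ((congrArg _ hy).trans (map_zero _))).trans (map_zero _)))
  exact ⟨k, a, (s₀ _).injective ((s₀_Hpull_fst (D.map a) G y).trans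
    ((congrArg _ hk).trans ((map_zero _).trans (map_zero _).symm)))⟩

end Groth.Agent.EtLimit
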