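import Groth.Agent.EtLimit.MainBase

/-!
# Étale cohomology of a limit of schemes: auxiliary steps
-/

set_option autoImplicit false
set_option backward.isDefEq.respectTransparency false

universe u

open CategoryTheory CategoryTheory.Limits AlgebraicGeometry Opposite CategoryTheory.Abelian

noncomputable section

namespace Groth.Agent.EtLimit

open FHom

variable {I : Type u} [SmallCategory I] [IsCofiltered I] {D : I ⥤ Scheme.{u}} {c : Cone D}
  (hc : IsLimit c) [∀ (i j : I) (a : i ⟶ j), IsAffineHom (D.map a)]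
  [∀ i, CompactSpace (D.obj i)] [∀ i, QuasiSeparatedSpace (D.obj i)]

attribute [local instance] CategoryTheory.isConnected_of_hasTerminal

section Terminal

variable {i : I} (T : IsTerminal i) (G : EtCoh.Ab (D.obj i))

include hc in
set_option maxHeartbeats 1000000 in
/-- Global sections on the limit come from a stage. -/
theorem surjective_zero_of_isTerminal (ξ : EtCoh.H c.pt ((EtCoh.pull (c.π.app i)).obj G) 0) :
    ∃ (k : I) (y : EtCoh.H (D.obj k) ((EtCoh.pull (D.map (T.from k))).obj G) 0),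
      EtCore.HpullVia (c.π.app k) (D.map (T.from k)) (c.π.app i) (c.w _) G 0 y = ξ := by
  let K := Sys.ofSheafCocone D T G c
  haveI : CompactSpace (EtCoh.top (D.obj i)).left := inferInstanceAs (CompactSpace (D.obj i))
  haveI : QuasiSeparatedSpace (EtCoh.top (D.obj i)).left :=
    inferInstanceAs (QuasiSeparatedSpace (D.obj i))
  let y := s₀ ((EtCoh.pull (c.π.app i)).obj G) ξ
  let y' := K.pt.obj.map (EtCore.bcTopIso (c.π.app i)).hom.op y
  obtain ⟨k, φ, z, hz⟩ := Sys.exists_stage_section K hc (Sys.isColimitOfSheafCocone D T G c)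
    (EtCoh.top (D.obj i)) y'
  let H := (Sys.ofSheaf D T G).E k
  let z' : EtCoh.sect H (EtCoh.top (D.obj k)) := H.obj.map (EtCore.bcTopIso (D.map φ)).inv.op z
  refine ⟨k, (s₀ H).symm z', (s₀ _).injective ?_⟩
  rw [EtaleSite.HpullFunctor.HpullVia_apply, ← Sheaf.H.map_apply]
  refine ((Sheaf.H.equiv₀_naturality (EtCore.topIsTerminal c.pt) _ _).symm.trans ?_)
  refine (congrArg _ ((s₀_Hpull (c.π.app k) _ _).trans
    (congrArg _ ((s₀ H).apply_symm_apply z')))).trans ?_
  show (Sys.ρ K k).app (EtCoh.top c.pt) (EtCoh.top (D.obj k)) (c.π.app k) (top_w _) z' = y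
  have hy : y = K.pt.obj.map (EtCore.bcTopIso (c.π.app i)).inv.op y' := by
    show y = K.pt.obj.map _ (K.pt.obj.map _ y)
    rw [← ConcreteCategory.comp_apply, ← Functor.map_comp, ← op_comp, Iso.inv_hom_id, op_id,
      CategoryTheory.Functor.map_id]
    rfl
  exact (app_top_eq (D.map φ) (c.π.app i) (Sys.ρ K k) (stageMap c φ _) (stageMap_w c φ _) z).trans
    ((congrArg _ hz).trans hy.symm)

include hc in
set_option maxHeartbeats 1000000 in
/-- The induction step. -/
theorem surjective_succ_of_isTerminal (q : ℕ)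
    (ihs : ∀ (k : I) (F : EtCoh.Ab (D.obj k)) (z : EtCoh.H c.pt ((EtCoh.pull (c.π.app k)).obj F) q),
      ∃ (l : I) (a : l ⟶ k) (zl : EtCoh.H (D.obj l) ((EtCoh.pull (D.map a)).obj F) q),
        EtCore.HpullVia (c.π.app l) (D.map a) (c.π.app k) (c.w a) F q zl = z)
    (ξ : EtCoh.H c.pt ((EtCoh.pull (c.π.app i)).obj G) (q + 1)) :
    ∃ (k : I) (y : EtCoh.H (D.obj k) ((EtCoh.pull (D.map (T.from k))).obj G) (q + 1)),
      EtCore.HpullVia (c.π.app k) (D.map (T.from k)) (c.π.app i) (c.w _) G (q + 1) y = ξ := by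
  haveI haff : IsAffineHom (c.π.app i) := isAffineHom_π_app _ _ hc (i := i)
  haveI : CompactSpace c.pt := QuasiCompact.compactSpace_of_compactSpace (c.π.app i)
  haveI : QuasiSeparatedSpace c.pt := quasiSeparatedSpace_of_quasiSeparated (c.π.app i)
  let K := Sys.ofSheafCocone D T G c
  let P := (Sys.prod D T G).pullDiag c
  let A := colimit.cocone P
  have hA : EtColim.CohColim.IsCompactAcyclic A.pt :=
    (Sys.prod D T G).isCompactAcyclic_of_injective A hc (colimit.isColimit P)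
      (fun l => Sys.injective_prod D T G l)
  let e₀ := κ (c.π.app i) (D.map (T.from i)) (c.w _) G
  let ξ₀ := Sheaf.H.map e₀.inv (q + 1) ξ
  have h0 : Sheaf.H.map (A.ι.app (op i)) (q + 1)
      (Sheaf.H.map ((Sys.toProdDiag D T G c).app (op i)) (q + 1) ξ₀) = 0 :=
    @Subsingleton.elim (EtCoh.H c.pt A.pt (q + 1)) (hA.subsingleton_H q) _ _
  obtain ⟨kop, φ, hk⟩ :=
    (EtColim.CohColim.coh_colimit (q + 1) (colimit.isColimit P)).2 (op i) _ h0
  let k := kop.unop
  let Q := (Sys.ofSheaf D T G).pullDiag c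
  let ξk := Sheaf.H.map (Q.map φ) (q + 1) ξ₀
  have hξ : Sheaf.H.map (K.ι.app kop) (q + 1) ξk = ξ := by
    refine (Sheaf.H.map_comp_apply _ _ _).symm.trans ?_
    rw [K.w]
    refine (Sheaf.H.map_comp_apply _ _ _).symm.trans ?_
    exact (congrArg (fun a => Sheaf.H.map a (q + 1) ξ) e₀.inv_hom_id).trans
      (Sheaf.H.map_id_apply ξ)
  let S : ShortComplex (EtCoh.Ab (D.obj k)) :=
    ShortComplex.mk (Sys.toProd D T G k) (cokernel.π _) (cokernel.condition _)
  have hS : S.ShortExact :=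
    { exact := ShortComplex.exact_of_g_is_cokernel _ (cokernelIsCokernel _) }
  have hdie : Ext.comp ξk (Ext.mk₀ ((S.map (EtCoh.pull (c.π.app k))).f)) (add_zero (q + 1)) = 0 := by
    refine Eq.trans ?_ hk
    show Sheaf.H.map ((Sys.toProdDiag D T G c).app kop) (q + 1) ξk = _
    refine (Sheaf.H.map_comp_apply _ _ _).symm.trans (Eq.trans ?_ (Sheaf.H.map_comp_apply _ _ _))
    rw [(Sys.toProdDiag D T G c).naturality]
  obtain ⟨z, hz⟩ := Ext.covariant_sequence_exact₁ _ (hS.map_of_exact (EtCoh.pull (c.π.app k)))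
    ξk hdie (rfl : q + 1 = q + 1)
  obtain ⟨l, a, zl, hzl⟩ := ihs k S.X₃ z
  have ew : D.map a ≫ D.map (T.from k) = D.map (T.from l) := Sys.map_from D T a
  let y : EtCoh.H (D.obj l) ((EtCoh.pull (D.map a)).obj S.X₁) (q + 1) :=
    zl.comp (hS.map_of_exact (EtCoh.pull (D.map a))).extClass rfl
  refine ⟨l, Sheaf.H.map (κ (D.map a) (D.map (T.from k)) ew G).hom (q + 1) y, ?_⟩
  rw [EtaleSite.HpullFunctor.HpullVia_apply, Sheaf.H.map_apply,
    EtaleSite.HpullSeq.Hpull_postcomp, Ext.comp_assoc_of_second_deg_zero, Ext.mk₀_comp_mk₀]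
  let ν := (EtCore.pullComp (c.π.app l) (D.map a)).symm ≪≫ EtCore.pullCongr (c.w a)
  have hco : (EtCoh.pull (c.π.app l)).map (κ (D.map a) (D.map (T.from k)) ew G).hom ≫
      (κ (c.π.app l) (D.map (T.from l)) (c.w _) G).hom =
      ν.hom.app S.X₁ ≫ (K.ι.app kop) :=
    κ_assoc (c.π.app l) (D.map a) (D.map (T.from k)) (c.w a) ew (c.w _) (c.w (T.from k)) G
  refine Eq.trans (congrArg (fun w => Ext.comp _ (Ext.mk₀ w) (add_zero (q + 1))) hco) ?_
  rw [← Ext.mk₀_comp_mk₀, ← Ext.comp_assoc_of_second_deg_zero]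
  refine Eq.trans ?_ hξ
  refine congrArg (fun w => Ext.comp w (Ext.mk₀ (K.ι.app kop)) (add_zero (q + 1))) ?_
  refine (congrArg (fun w => Ext.comp w (Ext.mk₀ (ν.hom.app S.X₁)) (add_zero (q + 1)))
    (EtaleSite.HpullSeq.Hpull_extClass (c.π.app l) (hS.map_of_exact (EtCoh.pull (D.map a))) q zl)).trans ?_
  rw [← hz, ← hzl]
  let θ : (S.map (EtCoh.pull (D.map a))).map (EtCoh.pull (c.π.app l)) ⟶
      S.map (EtCoh.pull (c.π.app k)) :=
    { τ₁ := ν.hom.app S.X₁
      τ₂ := ν.hom.app S.X₂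
      τ₃ := ν.hom.app S.X₃
      comm₁₂ := (ν.hom.naturality S.f).symm
      comm₂₃ := (ν.hom.naturality S.g).symm }
  show (Ext.comp (EtCore.Hpull (c.π.app l) _ q zl) _ rfl).comp (Ext.mk₀ θ.τ₁) _ =
    (Ext.comp (EtCore.Hpull (c.π.app l) _ q zl) (Ext.mk₀ θ.τ₃) (add_zero q)).comp _ rfl
  rw [Ext.comp_assoc_of_third_deg_zero, Ext.comp_assoc_of_second_deg_zero,
    ((hS.map_of_exact (EtCoh.pull (D.map a))).map_of_exact
      (EtCoh.pull (c.π.app l))).extClass_naturality (hS.map_of_exact (EtCoh.pull (c.π.app k))) θ]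

end Terminal

end Groth.Agent.EtLimit
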