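import Groth.Agent.EtLimit.Sections

/-!
# A sheaf on a limit as the colimit of the inverse images of its direct images
-/

set_option autoImplicit false
set_option backward.isDefEq.respectTransparency false

universe u

open CategoryTheory CategoryTheory.Limits AlgebraicGeometry Opposite

noncomputable section

namespace Groth.Agent.EtLimit

open FHom

/-- Direct images of torsion sheaves along affine morphisms are torsion. -/
theorem isTorsion_push_of_isAffineHom {A B : Scheme.{u}} (f : A ⟶ B) [IsAffineHom f]
    {F : EtCoh.Ab A} (hF : EtCoh.IsTorsion F) : EtCoh.IsTorsion ((EtCoh.push f).obj F) := by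
  classical
  intro U s x
  obtain ⟨k, v, hv⟩ := U.left.affineCover.exists_eq x
  haveI : Etale U.hom := U.prop
  let V : B.Etale := Scheme.Etale.mk (U.left.affineCover.f k ≫ U.hom)
  let g : V ⟶ U := MorphismProperty.Over.homMk (U.left.affineCover.f k) rfl trivial
  haveI : IsAffine V.left := inferInstanceAs (IsAffine (U.left.affineCover.X k))
  refine ⟨V, g, ⟨v, hv⟩, ?_⟩
  let W := (EtCoh.bc f).obj V
  haveI := (compact_qs_bc f V).1
  let t : EtCoh.sect F W := F.obj.map ((EtCoh.bc f).map g).op s
  let S : Sieve W :=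
    { arrows := fun Z => setOf (fun h : Z ⟶ W => IsOfFinAddOrder (F.obj.map h.op t))
      downward_closed := fun {Z Z'} h hh a => by
        show IsOfFinAddOrder (F.obj.map (a ≫ h).op t)
        rw [op_comp, Functor.map_comp, CategoryTheory.comp_apply]
        exact (F.obj.map a.op).hom.isOfFinAddOrder hh }
  have hS : S ∈ A.smallEtaleTopology W :=
    EtaleSite.mem_topology_of_forall_exists S fun w => by
      obtain ⟨Z, h, ⟨z, hz⟩, hh⟩ := hF W t w
      exact ⟨Z, h, z, hh, hz⟩
  obtain ⟨ι, _, Z, h, hh, -, hcov⟩ := EtColim.Sections.exists_finite_refinement hS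
  haveI := Fintype.ofFinite ι
  refine isOfFinAddOrder_iff_nsmul_eq_zero.2
    ⟨∏ a, addOrderOf (F.obj.map (h a).op t),
      Finset.prod_pos fun a _ => (hh a).addOrderOf_pos, ?_⟩
  show (∏ a, addOrderOf (F.obj.map (h a).op t)) • t = 0
  refine EtColim.Sections.ext_of_cover F h hcov _ _ fun a => ?_
  rw [map_nsmul, map_zero]
  exact addOrderOf_dvd_iff_nsmul_eq_zero.1 (Finset.dvd_prod_of_mem _ (Finset.mem_univ a))

variable {I : Type u} [SmallCategory I] {D : I ⥤ Scheme.{u}} (c : Cone D) (F : EtCoh.Ab c.pt)

theorem pushσ_w {j i : I} (φ : j ⟶ i) {W : (D.obj j).Etale} {U : (D.obj i).Etale}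
    (w : W.left ⟶ U.left) (hw : w ≫ U.hom = W.hom ≫ D.map φ) :
    (bcFst (c.π.app j) W ≫ w) ≫ U.hom = ((EtCoh.bc (c.π.app j)).obj W).hom ≫ c.π.app i := by
  rw [Category.assoc, hw, ← Category.assoc, bcFst_w, Category.assoc, c.w]

/-- The transition morphisms between direct images. -/
def pushσ {j i : I} (φ : j ⟶ i) :
    FHom (D.map φ) ((EtCoh.push (c.π.app i)).obj F) ((EtCoh.push (c.π.app j)).obj F) where
  app W U w hw := F.obj.map (toBc (bcFst (c.π.app j) W ≫ w) (pushσ_w c φ w hw)).op
  naturality {W' W U U'} h g w hw w' hw' e := by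
    show F.obj.map ((EtCoh.bc (c.π.app i)).map g).op ≫ F.obj.map _ ≫
      F.obj.map ((EtCoh.bc (c.π.app j)).map h).op = F.obj.map _
    rw [← Functor.map_comp, ← Functor.map_comp, ← op_comp, ← op_comp]
    refine congrArg (fun a : _ ⟶ (EtCoh.bc (c.π.app i)).obj U' => F.obj.map a.op) (bc_hom_ext ?_)
    refine Eq.trans ?_ (toBc_fst _ _).symm
    refine (Category.assoc _ _ _).trans ?_
    refine ((congrArg (_ ≫ ·) (bc_map_fst g)).trans (Category.assoc _ _ _).symm).trans ?_
    refine (congrArg (· ≫ g.left) ((Category.assoc _ _ _).trans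
      (congrArg (_ ≫ ·) (toBc_fst _ _)))).trans ?_
    refine (Category.assoc _ _ _).trans ?_
    refine ((congrArg (_ ≫ ·) (Category.assoc _ _ _)).trans (Category.assoc _ _ _).symm).trans ?_
    refine (congrArg (· ≫ w ≫ g.left) (bc_map_fst h)).trans ?_
    exact (Category.assoc _ _ _).trans (congrArg (bcFst (c.π.app j) W' ≫ ·) e)

/-- The system of direct images. -/
def pushSys : Sys D where
  E i := (EtCoh.push (c.π.app i)).obj F
  σ φ := pushσ c F φ
  σ_id i := by
    ext W U w hw : 5
    exact congrArg (fun a : _ ⟶ (EtCoh.bc (c.π.app i)).obj U => F.obj.map a.op)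
      (bc_hom_ext ((toBc_fst _ _).trans (bc_map_fst (f := c.π.app i) (MorphismProperty.Over.homMk w
        (hw.trans ((congrArg (W.hom ≫ ·) (D.map_id i)).trans (Category.comp_id _))) trivial : W ⟶ U)).symm))
  σ_comp {k j i} ψ φ := by
    ext W U w hw : 5
    show F.obj.map _ ≫ F.obj.map _ = F.obj.map _
    rw [← Functor.map_comp, ← op_comp]
    refine congrArg (fun a : _ ⟶ (EtCoh.bc (c.π.app i)).obj U => F.obj.map a.op) (bc_hom_ext ?_)
    refine Eq.trans ?_ (toBc_fst _ _).symm
    refine (Category.assoc _ _ _).trans ((congrArg (_ ≫ ·) (toBc_fst _ _)).trans ?_)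
    refine (Category.assoc _ _ _).symm.trans ((congrArg (· ≫ _) (toBc_fst _ _)).trans ?_)
    exact (Category.assoc _ _ _).trans (congrArg (bcFst (c.π.app k) W ≫ ·) (pullback.lift_fst _ _ _))

/-- The counit as an `f`-morphism. -/
def pushε (i : I) : FHom (c.π.app i) ((EtCoh.push (c.π.app i)).obj F) F where
  app W U w hw := F.obj.map (toBc w hw).op
  naturality {W' W U U'} h g w hw w' hw' e := by
    show F.obj.map ((EtCoh.bc (c.π.app i)).map g).op ≫ F.obj.map _ ≫ F.obj.map h.op = F.obj.map _
    rw [← Functor.map_comp, ← Functor.map_comp, ← op_comp, ← op_comp]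
    refine congrArg (fun a : _ ⟶ (EtCoh.bc (c.π.app i)).obj U' => F.obj.map a.op) (bc_hom_ext ?_)
    refine Eq.trans ?_ (toBc_fst _ _).symm
    refine (Category.assoc _ _ _).trans ?_
    refine ((congrArg (_ ≫ ·) (bc_map_fst g)).trans (Category.assoc _ _ _).symm).trans ?_
    refine (congrArg (· ≫ g.left) ((Category.assoc _ _ _).trans
      (congrArg (h.left ≫ ·) (toBc_fst w hw)))).trans ?_
    exact (Category.assoc _ _ _).trans e

/-- The sheaf on the limit is a cocone on the inverse images of its direct images. -/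
def pushSysCocone : Cocone ((pushSys c F).pullDiag c) where
  pt := F
  ι :=
    { app := fun i => (pushε c F i.unop).desc
      naturality := fun i j a => by
        refine Eq.trans ?_ (Category.comp_id _).symm
        refine unit_post_inj ?_
        rw [← post_post]
        show ((unit _ _).post (((pushσ c F a.unop).comp (unit (c.π.app j.unop) _) (c.w a.unop)).desc)).post _ = _
        rw [unit_post_desc, comp_post, unit_post_desc, unit_post_desc]
        ext W U w hw : 5
        show F.obj.map _ ≫ F.obj.map _ = F.obj.map _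
        rw [← Functor.map_comp, ← op_comp]
        refine congrArg (fun a : _ ⟶ (EtCoh.bc (c.π.app i.unop)).obj U => F.obj.map a.op)
          (bc_hom_ext ?_)
        refine Eq.trans ?_ (toBc_fst _ _).symm
        refine (Category.assoc _ _ _).trans ((congrArg (_ ≫ ·) (toBc_fst _ _)).trans ?_)
        exact (Category.assoc _ _ _).symm.trans
          ((congrArg (· ≫ _) (toBc_fst _ _)).trans (pullback.lift_fst _ _ _)) }

variable [IsCofiltered I] [∀ (i j : I) (a : i ⟶ j), IsAffineHom (D.map a)]
  [∀ i, CompactSpace (D.obj i)] [∀ i, QuasiSeparatedSpace (D.obj i)]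

theorem isIso_desc_pushSysCocone (hc : IsLimit c) (K : Cocone ((pushSys c F).pullDiag c))
    (hK : IsColimit K) : IsIso (hK.desc (pushSysCocone c F)) := by
  let θ := hK.desc (pushSysCocone c F)
  have hθ : ∀ (i : I) (W : c.pt.Etale) (U : (D.obj i).Etale) (w : W.left ⟶ U.left)
      (hw : w ≫ U.hom = W.hom ≫ c.π.app i) (z : ((pushSys c F).E i).obj.obj (op U)),
      θ.hom.app (op W) (((pushSys c F).ρ K i).app W U w hw z) = F.obj.map (toBc w hw).op z := by
    intro i W U w hw z
    have h : ((pushSys c F).ρ K i).post θ = pushε c F i := by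
      rw [Sys.ρ, post_post, hK.fac]
      exact unit_post_desc _
    exact ConcreteCategory.congr_hom
      (congrArg (fun σ : FHom (c.π.app i) _ F => σ.app W U w hw) h) z
  have hb : ∀ (i : I) (U : (D.obj i).Etale) [CompactSpace U.left] [QuasiSeparatedSpace U.left],
      Function.Bijective (θ.hom.app (op ((EtCoh.bc (c.π.app i)).obj U))) := by
    intro i U _ _
    refine ⟨(injective_iff_map_eq_zero _).2 fun m hm => ?_, fun t => ?_⟩
    · obtain ⟨j, φ, z, rfl⟩ := (pushSys c F).exists_stage_section K hc hK U m
      rw [hθ] at hm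
      have h0 : z = 0 := by
        have := congrArg (F.obj.map (stageIso c φ U).hom.op) hm
        rw [map_zero] at this
        refine Eq.trans ?_ this
        change z = F.obj.map (stageIso c φ U).hom.op (F.obj.map (stageIso c φ U).inv.op z)
        rw [← ConcreteCategory.comp_apply, ← Functor.map_comp, ← op_comp, Iso.hom_inv_id, op_id,
          CategoryTheory.Functor.map_id]
        rfl
      subst h0
      exact map_zero _
    · refine ⟨((pushSys c F).ρ K i).app _ U (bcFst _ U) (bcFst_w _ _) t, (hθ _ _ _ _ _ _).trans ?_⟩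
      have e : toBc (bcFst (c.π.app i) U) (bcFst_w _ _) = 𝟙 ((EtCoh.bc (c.π.app i)).obj U) :=
        bc_hom_ext ((toBc_fst _ _).trans (Category.id_comp _).symm)
      rw [e, op_id, CategoryTheory.Functor.map_id]
      rfl
  have hb' : ∀ (V : c.pt.Etale) [CompactSpace V.left] [QuasiSeparatedSpace V.left],
      Function.Bijective (θ.hom.app (op V)) := by
    intro V _ _
    obtain ⟨i, U, h₁, h₂, ⟨e⟩⟩ := exists_stage_obj hc V
    have hn := θ.hom.naturality e.hom.op
    refine ⟨(injective_iff_map_eq_zero _).2 fun m hm => ?_, fun t => ?_⟩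
    · have h : θ.hom.app (op ((EtCoh.bc (c.π.app i)).obj U)) (K.pt.obj.map e.hom.op m) = 0 :=
        (ConcreteCategory.congr_hom hn m).trans ((congrArg (F.obj.map _) hm).trans (map_zero (F.obj.map _).hom))
      have h' := (hb i U).1 (h.trans (map_zero _).symm)
      have := congrArg (K.pt.obj.map e.inv.op) h'
      rw [map_zero] at this
      refine Eq.trans ?_ this
      rw [← ConcreteCategory.comp_apply, ← Functor.map_comp, ← op_comp, Iso.inv_hom_id, op_id,
        CategoryTheory.Functor.map_id]
      rfl
    · obtain ⟨m, hm⟩ := (hb i U).2 (F.obj.map e.hom.op t)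
      refine ⟨K.pt.obj.map e.inv.op m, ?_⟩
      refine (ConcreteCategory.congr_hom (θ.hom.naturality e.inv.op) m).trans ?_
      refine (congrArg (F.obj.map e.inv.op) hm).trans ?_
      rw [← ConcreteCategory.comp_apply, ← Functor.map_comp, ← op_comp, Iso.inv_hom_id, op_id,
        CategoryTheory.Functor.map_id]
      rfl
  have hcov : ∀ (V : c.pt.Etale) (x : V.left), ∃ (V' : c.pt.Etale) (g : V' ⟶ V),
      IsAffine V'.left ∧ ∃ v : V'.left, g.left v = x := by
    intro V x
    obtain ⟨k, v, hv⟩ := V.left.affineCover.exists_eq x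
    haveI : Etale V.hom := V.prop
    exact ⟨Scheme.Etale.mk (V.left.affineCover.f k ≫ V.hom),
      MorphismProperty.Over.homMk (V.left.affineCover.f k) rfl trivial,
      inferInstanceAs (IsAffine (V.left.affineCover.X k)), v, hv⟩
  haveI : Mono θ := by
    haveI : ∀ V : c.pt.Etaleᵒᵖ, Mono (θ.hom.app V) := by
      intro V
      refine (AddCommGrpCat.mono_iff_injective _).2 ((injective_iff_map_eq_zero _).2 fun m hm => ?_)
      choose V' g hV' v hv using hcov V.unop
      refine EtColim.Sections.ext_of_cover K.pt g (fun x => ⟨x, v x, hv x⟩) m 0 fun x => ?_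
      haveI := hV' x
      rw [map_zero]
      refine (hb' (V' x)).1 (Eq.trans ?_ (map_zero _).symm)
      exact (ConcreteCategory.congr_hom (θ.hom.naturality (g x).op) m).trans
        ((congrArg (F.obj.map _) hm).trans (map_zero (F.obj.map _).hom))
    haveI : Mono θ.hom := NatTrans.mono_of_mono_app _
    exact (sheafToPresheaf _ _).mono_of_mono_map this
  haveI : Epi θ := by
    have : Presheaf.IsLocallySurjective c.pt.smallEtaleTopology θ.hom := ⟨fun {V} s => by
      refine EtaleSite.mem_topology_of_forall_exists _ fun x => ?_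
      obtain ⟨V', g, hV', v, hv⟩ := hcov V x
      haveI := hV'
      exact ⟨V', g, v, (hb' V').2 (F.obj.map g.op s), hv⟩⟩
    exact (Sheaf.isLocallySurjective_iff_epi' AddCommGrpCat.{u + 1} θ).1 this
  exact isIso_of_mono_of_epi _

/-- The sheaf on the limit is the colimit of the inverse images of its direct images. -/
theorem nonempty_isColimit_pushSysCocone (hc : IsLimit c) :
    Nonempty (IsColimit (pushSysCocone c F)) := by
  let K := colimit.cocone ((pushSys c F).pullDiag c)
  haveI := isIso_desc_pushSysCocone c F hc K (colimit.isColimit _)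
  exact ⟨IsColimit.ofIsoColimit (colimit.isColimit _)
    (Cocone.ext (asIso ((colimit.isColimit _).desc (pushSysCocone c F)))
      fun i => (colimit.isColimit _).fac _ i)⟩

end Groth.Agent.EtLimit
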