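import Groth.Agent.EtLimit.Descent
import Groth.Agent.EtColim.Sections

/-!
# Sections of the limit of a system of étale sheaves

A system of sheaves `E_i` on the stages gives the diagram of inverse images on the limit; sections
of its colimit over quasi-compact quasi-separated objects are the colimit of the sections at the
stages.
-/

set_option autoImplicit false
set_option backward.isDefEq.respectTransparency false

universe u

open CategoryTheory CategoryTheory.Limits AlgebraicGeometry Opposite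

noncomputable section

namespace Groth.Agent.EtLimit

open FHom

namespace FHom

variable {A B : Scheme.{u}}

/-- Transport along an equality of morphisms of schemes. -/
def cast {f f' : A ⟶ B} {G : EtCoh.Ab B} {H : EtCoh.Ab A} (σ : FHom f G H) (e : f = f') :
    FHom f' G H where
  app W U w hw := σ.app W U w (by rw [e]; exact hw)
  naturality h g w hw w' hw' ee := σ.naturality h g _ _ _ _ ee

theorem cast_id_comp {f : A ⟶ B} {g : B ⟶ B} (hg : 𝟙 B = g) {G : EtCoh.Ab B} {H : EtCoh.Ab A}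
    (τ : FHom f G H) (e : f ≫ g = f) : ((FHom.id G).cast hg).comp τ e = τ := by
  ext W U w hw : 5
  exact τ.map_app _ _ _ _ hw (pullback.lift_fst _ _ _)

end FHom

variable {I : Type u} [SmallCategory I]

/-- A system of sheaves on the stages. -/
structure Sys (D : I ⥤ Scheme.{u}) where
  /-- The sheaves. -/
  E : ∀ i, EtCoh.Ab (D.obj i)
  /-- The transition morphisms. -/
  σ : ∀ {j i : I} (φ : j ⟶ i), FHom (D.map φ) (E i) (E j)
  σ_id : ∀ i, σ (𝟙 i) = (FHom.id (E i)).cast (D.map_id i).symm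
  σ_comp : ∀ {k j i : I} (ψ : k ⟶ j) (φ : j ⟶ i),
    (σ φ).comp (σ ψ) (D.map_comp ψ φ).symm = σ (ψ ≫ φ)

theorem nested_ext {n q : Scheme.{u}} (χ' : q ⟶ n) {i : Scheme.{u}} {α : n ⟶ i} {U : i.Etale}
    {T : Scheme.{u}} 
    (a b : T ⟶ ((EtCoh.bc χ').obj ((EtCoh.bc α).obj U)).left)
    (h1 : a ≫ bcFst χ' ((EtCoh.bc α).obj U) ≫ bcFst α U = b ≫ bcFst χ' ((EtCoh.bc α).obj U) ≫ bcFst α U)
    (h2 : a ≫ ((EtCoh.bc χ').obj ((EtCoh.bc α).obj U)).hom =
      b ≫ ((EtCoh.bc χ').obj ((EtCoh.bc α).obj U)).hom) : a = b := by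
  refine pullback.hom_ext (pullback.hom_ext ?_ ?_) h2
  · simpa only [Category.assoc] using h1
  · have e : bcFst χ' ((EtCoh.bc α).obj U) ≫ ((EtCoh.bc α).obj U).hom =
        ((EtCoh.bc χ').obj ((EtCoh.bc α).obj U)).hom ≫ χ' := bcFst_w _ _
    refine (Category.assoc _ _ _).trans ((congrArg (a ≫ ·) e).trans ?_)
    refine ((Category.assoc _ _ _).symm.trans (congrArg (· ≫ χ') h2)).trans ?_
    exact (Category.assoc _ _ _).trans ((congrArg (b ≫ ·) e).symm.trans (Category.assoc _ _ _).symm)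

namespace Sys

variable {D : I ⥤ Scheme.{u}} (S : Sys D) (c : Cone D)

/-- The inverse images on the limit. -/
def pullDiag : Iᵒᵖ ⥤ EtCoh.Ab c.pt where
  obj i := (EtCoh.pull (c.π.app i.unop)).obj (S.E i.unop)
  map {i j} a := ((S.σ a.unop).comp (unit (c.π.app j.unop) (S.E j.unop)) (c.w a.unop)).desc
  map_id i := unit_post_inj (by
    rw [unit_post_desc, post_id, unop_id]
    refine Eq.trans ?_ (cast_id_comp (D.map_id i.unop).symm (unit (c.π.app i.unop) (S.E i.unop))
      (by simp))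
    congr 1
    exact S.σ_id i.unop)
  map_comp {i j k} a b := unit_post_inj (by
    rw [unit_post_desc, ← post_post, unit_post_desc, comp_post, unit_post_desc]
    refine Eq.trans ?_ (comp_assoc (S.σ a.unop) (S.σ b.unop) (unit (c.π.app k.unop) (S.E k.unop))
      (D.map_comp b.unop a.unop).symm (c.w b.unop) (c.w (b.unop ≫ a.unop)) (c.w a.unop))
    rw [S.σ_comp]
    rfl)

variable {S c} (c' : Cocone (S.pullDiag c))

/-- The map from a stage to a cocone. -/
def ρ (i : I) : FHom (c.π.app i) (S.E i) c'.pt :=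
  (unit (c.π.app i) (S.E i)).post (c'.ι.app (op i))

theorem σ_comp_ρ {j i : I} (φ : j ⟶ i) : (S.σ φ).comp (S.ρ c' j) (c.w φ) = S.ρ c' i := by
  rw [ρ, ρ, ← c'.w φ.op, ← post_post]
  show _ = ((unit _ _).post ((S.σ φ).comp (unit (c.π.app j) (S.E j)) (c.w φ)).desc).post _
  rw [unit_post_desc, comp_post]

theorem σ_app_ρ_app {j i : I} (φ : j ⟶ i) {W : c.pt.Etale} {V : (D.obj j).Etale}
    {U : (D.obj i).Etale} (w₁ : W.left ⟶ V.left) (h₁ : w₁ ≫ V.hom = W.hom ≫ c.π.app j)
    (w₂ : V.left ⟶ U.left) (h₂ : w₂ ≫ U.hom = V.hom ≫ D.map φ)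
    (w : W.left ⟶ U.left) (hw : w ≫ U.hom = W.hom ≫ c.π.app i) (he : w₁ ≫ w₂ = w)
    (x : (S.E i).obj.obj (op U)) :
    (S.ρ c' j).app W V w₁ h₁ ((S.σ φ).app V U w₂ h₂ x) = (S.ρ c' i).app W U w hw x := by
  rw [comp_app_apply (S.σ φ) (S.ρ c' j) (c.w φ) w₁ h₁ w₂ h₂ w hw he, σ_comp_ρ]

theorem σ_app_σ_app {k j i : I} (ψ : k ⟶ j) (φ : j ⟶ i) {W : (D.obj k).Etale}
    {V : (D.obj j).Etale} {U : (D.obj i).Etale} (w₁ : W.left ⟶ V.left)
    (h₁ : w₁ ≫ V.hom = W.hom ≫ D.map ψ) (w₂ : V.left ⟶ U.left)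
    (h₂ : w₂ ≫ U.hom = V.hom ≫ D.map φ) (w : W.left ⟶ U.left)
    (hw : w ≫ U.hom = W.hom ≫ D.map (ψ ≫ φ)) (he : w₁ ≫ w₂ = w) (x : (S.E i).obj.obj (op U)) :
    (S.σ ψ).app W V w₁ h₁ ((S.σ φ).app V U w₂ h₂ x) = (S.σ (ψ ≫ φ)).app W U w hw x := by
  rw [comp_app_apply (S.σ φ) (S.σ ψ) (D.map_comp ψ φ).symm w₁ h₁ w₂ h₂ w hw he, S.σ_comp]

variable [IsCofiltered I] (hc : IsLimit c) [∀ (i j : I) (a : i ⟶ j), IsAffineHom (D.map a)]
  [∀ i, CompactSpace (D.obj i)] [∀ i, QuasiSeparatedSpace (D.obj i)] (hc' : IsColimit c')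

omit [IsCofiltered I] [∀ i, CompactSpace (D.obj i)] [∀ i, QuasiSeparatedSpace (D.obj i)] in
include hc in
theorem compact_qs_bcπ [IsCofiltered I] {i : I} (U : (D.obj i).Etale) [CompactSpace U.left]
    [QuasiSeparatedSpace U.left] : CompactSpace ((EtCoh.bc (c.π.app i)).obj U).left ∧
      QuasiSeparatedSpace ((EtCoh.bc (c.π.app i)).obj U).left :=
  haveI := isAffineHom_π_app _ _ hc (i := i)
  compact_qs_bc _ U

include hc hc' in
/-- A section of a stage killed in the limit is killed at a stage. -/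
theorem exists_stage_eq_zero {i : I} (U : (D.obj i).Etale) [CompactSpace U.left]
    [QuasiSeparatedSpace U.left] (x : (S.E i).obj.obj (op U))
    (hx : (S.ρ c' i).app _ U (bcFst (c.π.app i) U) (bcFst_w _ U) x = 0) :
    ∃ (j : I) (φ : j ⟶ i),
      (S.σ φ).app _ U (bcFst (D.map φ) U) (bcFst_w _ U) x = 0 := by
  obtain ⟨_, _⟩ := compact_qs_bcπ (c := c) hc U
  let W := (EtCoh.bc (c.π.app i)).obj U
  obtain ⟨j, a, ha⟩ := EtColim.Sections.exists_map_eq_zero (S.pullDiag c) c' hc' W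
    ((unit (c.π.app i) (S.E i)).app W U (bcFst (c.π.app i) U) (bcFst_w _ U) x) hx
  let U' := (EtCoh.bc (D.map a.unop)).obj U
  let x' := (S.σ a.unop).app U' U (bcFst (D.map a.unop) U) (bcFst_w _ U) x
  have h1 : (unit (c.π.app j.unop) (S.E j.unop)).app W U' (stageMap c a.unop U)
      (stageMap_w c a.unop U) x' = 0 := by
    rw [comp_app_apply (S.σ a.unop) (unit (c.π.app j.unop) (S.E j.unop)) (c.w a.unop) _ _ _ _ _
      (bcFst_w (c.π.app i) U) (stageMap_fst c a.unop U)]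
    rw [← unit_post_desc ((S.σ a.unop).comp (unit (c.π.app j.unop) (S.E j.unop)) (c.w a.unop))]
    exact ha
  have h2 : (unit (c.π.app j.unop) (S.E j.unop)).app _ U' (bcFst (c.π.app j.unop) U') (bcFst_w _ U') x'
      = 0 := by
    rw [← app_map_apply _ (stageIso c a.unop U).hom (stageMap c a.unop U) (stageMap_w c a.unop U)
      _ _ (stageIso_hom_stageMap c a.unop U) x', h1, map_zero]
  obtain ⟨_, _⟩ := compact_qs_bc (D.map a.unop) U
  obtain ⟨k, ψ, hψ⟩ := exists_stage_zero hc (S.E j.unop) U' x' h2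
  refine ⟨k, ψ ≫ a.unop, ?_⟩
  let U'' := (EtCoh.bc (D.map ψ)).obj U'
  have h3 : (S.σ ψ).app U'' U' (bcFst (D.map ψ) U') (bcFst_w _ U') x' = 0 := by
    rw [← unit_post_desc (S.σ ψ)]
    exact (congrArg ((S.σ ψ).desc.hom.app (op U'')) hψ).trans (map_zero _)
  rw [σ_app_σ_app ψ a.unop _ _ _ _ (bcFst (D.map ψ) U' ≫ bcFst (D.map a.unop) U) 
    ((Category.assoc _ _ _).trans ((congrArg (bcFst (D.map ψ) U' ≫ ·) (bcFst_w (D.map a.unop) U)).trans
      ((Category.assoc _ _ _).symm.trans ((congrArg (· ≫ D.map a.unop) (bcFst_w (D.map ψ) U')).trans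
        ((Category.assoc _ _ _).trans (congrArg (_ ≫ ·) (D.map_comp ψ a.unop).symm)))))) rfl] at h3
  let W' := (EtCoh.bc (D.map (ψ ≫ a.unop))).obj U
  let m : W'.left ⟶ U'.left := pullback.lift (bcFst (D.map (ψ ≫ a.unop)) U) (W'.hom ≫ D.map ψ)
    ((bcFst_w _ U).trans (by rw [Category.assoc, ← D.map_comp]))
  rw [← app_map_apply _ (toBc (W := W') (U := U') m (pullback.lift_snd _ _ _))
    (bcFst (D.map ψ) U' ≫ bcFst (D.map a.unop) U)
    ((Category.assoc _ _ _).trans ((congrArg (bcFst (D.map ψ) U' ≫ ·) (bcFst_w (D.map a.unop) U)).trans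
      ((Category.assoc _ _ _).symm.trans ((congrArg (· ≫ D.map a.unop) (bcFst_w (D.map ψ) U')).trans
        ((Category.assoc _ _ _).trans (congrArg (_ ≫ ·) (D.map_comp ψ a.unop).symm)))))) _ _
    ((Category.assoc _ _ _).symm.trans ((congrArg (· ≫ bcFst (D.map a.unop) U) (toBc_fst _ _)).trans
      (pullback.lift_fst _ _ _))) x, h3, map_zero]

include hc hc' in
set_option maxHeartbeats 2000000 in
/-- Every section of the limit over the base change of a quasi-compact quasi-separated object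
comes from a stage. -/
theorem exists_stage_section {i : I} (U : (D.obj i).Etale) [CompactSpace U.left]
    [QuasiSeparatedSpace U.left] (y : c'.pt.obj.obj (op ((EtCoh.bc (c.π.app i)).obj U))) :
    ∃ (j : I) (φ : j ⟶ i) (z : (S.E j).obj.obj (op ((EtCoh.bc (D.map φ)).obj U))),
      (S.ρ c' j).app _ _ (stageMap c φ U) (stageMap_w c φ U) z = y := by
  classical
  obtain ⟨_, _⟩ := compact_qs_bcπ (c := c) hc U
  let W := (EtCoh.bc (c.π.app i)).obj U
  let R : Sieve W :=
    { arrows := fun N g => ∃ (j : I) (V : (D.obj j).Etale) (x : (S.E j).obj.obj (op V))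
        (w : N.left ⟶ V.left) (hw : w ≫ V.hom = N.hom ≫ c.π.app j),
          c'.pt.obj.map g.op y = (S.ρ c' j).app N V w hw x
      downward_closed := by
        rintro N N' g ⟨j, V, x, w, hw, e⟩ h
        refine ⟨j, V, x, h.left ≫ w,
          by rw [Category.assoc, hw, ← Category.assoc, MorphismProperty.Over.w h], ?_⟩
        rw [op_comp, Functor.map_comp, ConcreteCategory.comp_apply, e,
          app_map_apply _ h w hw _ _ rfl] }
  have hR : R ∈ c.pt.smallEtaleTopology W := by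
    obtain ⟨j, y₁, rfl⟩ := EtColim.Sections.exists_rep (S.pullDiag c) c' hc' W y
    refine EtaleSite.mem_topology_of_forall_geomPoint _ fun Ω _ _ ξ t => ?_
    let π := c.π.app j.unop
    let G := S.E j.unop
    obtain ⟨V, χ, x, hx⟩ := EtaleSite.exists_germ_eq (ξ ≫ π) G
      ((EtaleSite.stalkPullIso π ξ).hom.app G (EtaleSite.germ ξ ((EtCoh.pull π).obj G) W t y₁))
    have hx' := congrArg ((EtaleSite.stalkPullIso π ξ).inv.app G) hx
    rw [EtaleSite.germ_stalkPullIso_inv] at hx'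
    erw [Iso.hom_inv_id_app_apply] at hx'
    obtain ⟨z, ⟨p₁, hp₁⟩, ⟨p₂, hp₂⟩, -⟩ := IsCofilteredOrEmpty.cone_objs
      ((Scheme.pointSmallEtale ξ).fiber.elementsMk _ t)
      ((Scheme.pointSmallEtale ξ).fiber.elementsMk _ (EtaleSite.fiberBcEquiv π ξ V χ))
    have hz : EtaleSite.germ ξ ((EtCoh.pull π).obj G) z.1 z.2 (((EtCoh.pull π).obj G).obj.map p₁.op y₁) =
        EtaleSite.germ ξ ((EtCoh.pull π).obj G) z.1 z.2 (((EtCoh.pull π).obj G).obj.map p₂.op
          (((EtCoh.pullPushAdj π).unit.app G).hom.app (op V) x)) := by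
      rw [EtaleSite.germ_res, EtaleSite.germ_res, hp₁]
      refine hx'.symm.trans ?_
      exact congrArg (fun q => EtaleSite.germ ξ ((EtCoh.pull π).obj G) _ q _) hp₂.symm
    obtain ⟨N, g, v, hv, hg⟩ := (EtaleSite.germ_eq_iff _ _ _ _ _ _).1 hz
    refine ⟨N, g ≫ p₁, v, ⟨j.unop, V, x, (g ≫ p₂).left ≫ bcFst π V, by
      rw [Category.assoc, bcFst_w, ← Category.assoc, MorphismProperty.Over.w (g ≫ p₂)], ?_⟩, ?_⟩
    · rw [← app_map_apply _ (g ≫ p₂) (bcFst π V) (bcFst_w _ _) _ _ rfl]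
      show c'.pt.obj.map (g ≫ p₁).op ((c'.ι.app j).hom.app (op W) y₁) =
        c'.pt.obj.map (g ≫ p₂).op ((c'.ι.app j).hom.app _ ((unit π G).app _ V (bcFst π V) (bcFst_w _ _) x))
      refine (NatTrans.naturality_apply (c'.ι.app j).hom (g ≫ p₁).op y₁).symm.trans
        (Eq.trans ?_ (NatTrans.naturality_apply (c'.ι.app j).hom (g ≫ p₂).op _))
      refine congrArg ((c'.ι.app j).hom.app (op N)) ?_
      rw [op_comp, op_comp, Functor.map_comp, Functor.map_comp, ConcreteCategory.comp_apply,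
        ConcreteCategory.comp_apply]
      refine hg.trans (congrArg (fun q => ((EtCoh.pull π).obj G).obj.map g.op
        (((EtCoh.pull π).obj G).obj.map p₂.op q)) ?_)
      exact (ConcreteCategory.congr_hom (ofPush_app ((EtCoh.pullPushAdj π).unit.app G) V) x).symm
    · rw [Functor.map_comp]
      exact (congrArg _ hv).trans hp₁
  obtain ⟨κ, hκ, N, g, hg, haff, hcov⟩ := EtColim.Sections.exists_finite_refinement hR
  choose jx V x w hw hy using hg
  have hN : ∀ a, ∃ (l : I) (N' : (D.obj l).Etale), CompactSpace N'.left ∧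
      QuasiSeparatedSpace N'.left ∧ Nonempty ((EtCoh.bc (c.π.app l)).obj N' ≅ N a) := fun a => by
    have := haff a
    exact exists_stage_obj hc (N a)
  choose il N' hc1 hq1 e using hN
  letI := Fintype.ofFinite κ
  obtain ⟨m, hm⟩ := IsCofiltered.inf_objs_exists
    (insert i (Finset.univ.image il ∪ Finset.univ.image jx))
  let α : m ⟶ i := (hm (Finset.mem_insert_self _ _)).some
  let β : ∀ a, m ⟶ jx a := fun a => (hm (Finset.mem_insert_of_mem
    (Finset.mem_union_right _ (Finset.mem_image_of_mem _ (Finset.mem_univ a))))).some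
  let γ : ∀ a, m ⟶ il a := fun a => (hm (Finset.mem_insert_of_mem
    (Finset.mem_union_left _ (Finset.mem_image_of_mem _ (Finset.mem_univ a))))).some
  let M₀ : ∀ a, (D.obj m).Etale := fun a => (EtCoh.bc (D.map (γ a))).obj (N' a)
  have hM₀ : ∀ a, CompactSpace (M₀ a).left ∧ QuasiSeparatedSpace (M₀ a).left := fun a => by
    have := hc1 a; have := hq1 a
    exact compact_qs_bc _ _
  let θ₀ : ∀ a, (EtCoh.bc (c.π.app m)).obj (M₀ a) ≅ N a := fun a =>
    stageIso c (γ a) (N' a) ≪≫ (e a).some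
  have hGL : ∀ a, ∃ (n : I) (φ : n ⟶ m) (G : ((EtCoh.bc (D.map φ)).obj (M₀ a)).left ⟶ U.left)
      (L : ((EtCoh.bc (D.map φ)).obj (M₀ a)).left ⟶ (V a).left),
      (G ≫ U.hom = ((EtCoh.bc (D.map φ)).obj (M₀ a)).hom ≫ D.map (φ ≫ α) ∧
        stageMap c φ (M₀ a) ≫ G = ((θ₀ a).hom ≫ g a).left ≫ bcFst (c.π.app i) U) ∧
      (L ≫ (V a).hom = ((EtCoh.bc (D.map φ)).obj (M₀ a)).hom ≫ D.map (φ ≫ β a) ∧
        stageMap c φ (M₀ a) ≫ L = (θ₀ a).hom.left ≫ w a) := fun a => by
    obtain ⟨_, _⟩ := hM₀ a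
    obtain ⟨n₁, φ₁, G, hG, hG'⟩ := exists_stage_hom hc α (M₀ a) U
      (((θ₀ a).hom ≫ g a).left ≫ bcFst (c.π.app i) U) (by
        rw [Category.assoc, bcFst_w, ← Category.assoc, MorphismProperty.Over.w])
    obtain ⟨n₂, φ₂, L, hL, hL'⟩ := exists_stage_hom hc (β a) (M₀ a) (V a)
      ((θ₀ a).hom.left ≫ w a) (by
        rw [Category.assoc, hw, ← Category.assoc, MorphismProperty.Over.w])
    obtain ⟨n, s₁, s₂, hs⟩ := IsCofiltered.cospan φ₁ φ₂
    let t₁ : ((EtCoh.bc (D.map (s₁ ≫ φ₁))).obj (M₀ a)).left ⟶ ((EtCoh.bc (D.map φ₁)).obj (M₀ a)).left :=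
      pullback.lift (bcFst _ _) (((EtCoh.bc (D.map (s₁ ≫ φ₁))).obj (M₀ a)).hom ≫ D.map s₁)
        ((bcFst_w _ _).trans (by rw [Category.assoc, ← D.map_comp]))
    let t₂ : ((EtCoh.bc (D.map (s₁ ≫ φ₁))).obj (M₀ a)).left ⟶ ((EtCoh.bc (D.map φ₂)).obj (M₀ a)).left :=
      pullback.lift (bcFst _ _) (((EtCoh.bc (D.map (s₁ ≫ φ₁))).obj (M₀ a)).hom ≫ D.map s₂)
        ((bcFst_w _ _).trans (by rw [Category.assoc, ← D.map_comp, hs]))
    have ht₁ : t₁ ≫ ((EtCoh.bc (D.map φ₁)).obj (M₀ a)).hom = _ := pullback.lift_snd _ _ _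
    have ht₂ : t₂ ≫ ((EtCoh.bc (D.map φ₂)).obj (M₀ a)).hom = _ := pullback.lift_snd _ _ _
    refine ⟨n, s₁ ≫ φ₁, t₁ ≫ G, t₂ ≫ L, ⟨?_, ?_⟩, ?_, ?_⟩
    · rw [Category.assoc, hG, reassoc_of% ht₁]; simp
    · rw [← hG', ← Category.assoc]
      refine congrArg (· ≫ G) (pullback.hom_ext ?_ ?_)
      · rw [Category.assoc, pullback.lift_fst]
        exact (stageMap_fst _ _ _).trans (stageMap_fst _ _ _).symm
      · rw [Category.assoc, pullback.lift_snd]
        erw [← Category.assoc, stageMap_w, Category.assoc, c.w]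
        exact (stageMap_w _ _ _).symm
    · rw [Category.assoc, hL, reassoc_of% ht₂, hs]; simp
    · rw [← hL', ← Category.assoc]
      refine congrArg (· ≫ L) (pullback.hom_ext ?_ ?_)
      · rw [Category.assoc, pullback.lift_fst]
        exact (stageMap_fst _ _ _).trans (stageMap_fst _ _ _).symm
      · rw [Category.assoc, pullback.lift_snd]
        erw [← Category.assoc, stageMap_w, Category.assoc, c.w]
        exact (stageMap_w _ _ _).symm
  choose n₀ φ₀ G₀ L₀ hGL using hGL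
  obtain ⟨n, φ, s, hs⟩ := IsCofiltered.wideCospan φ₀
  let M : κ → (D.obj n).Etale := fun a => (EtCoh.bc (D.map φ)).obj (M₀ a)
  let t : ∀ a, (M a).left ⟶ ((EtCoh.bc (D.map (φ₀ a))).obj (M₀ a)).left := fun a =>
    pullback.lift (bcFst _ _) ((M a).hom ≫ D.map (s a))
      ((bcFst_w _ _).trans (by rw [Category.assoc, ← D.map_comp, hs]))
  have ht : ∀ a, t a ≫ ((EtCoh.bc (D.map (φ₀ a))).obj (M₀ a)).hom = (M a).hom ≫ D.map (s a) :=
    fun a => pullback.lift_snd _ _ _
  have hG : ∀ a, (t a ≫ G₀ a) ≫ U.hom = (M a).hom ≫ D.map (φ ≫ α) := fun a => by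
    rw [Category.assoc, (hGL a).1.1, reassoc_of% (ht a), ← D.map_comp, ← Category.assoc, hs]
  have hL : ∀ a, (t a ≫ L₀ a) ≫ (V a).hom = (M a).hom ≫ D.map (φ ≫ β a) := fun a => by
    rw [Category.assoc, (hGL a).2.1, reassoc_of% (ht a), ← D.map_comp, ← Category.assoc, hs]
  let θ : ∀ a, (EtCoh.bc (c.π.app n)).obj (M a) ≅ N a := fun a =>
    stageIso c φ (M₀ a) ≪≫ θ₀ a
  have hstage : ∀ a, bcFst (c.π.app n) (M a) ≫ t a =
      (stageIso c φ (M₀ a)).hom.left ≫ stageMap c (φ₀ a) (M₀ a) := fun a => by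
    refine pullback.hom_ext ?_ ?_
    · rw [Category.assoc, pullback.lift_fst, Category.assoc]
      exact ((congrArg ((stageIso c φ (M₀ a)).hom.left ≫ ·) (stageMap_fst _ _ _)).trans
        (stageIso_hom_fst _ _ _)).symm
    · rw [Category.assoc, pullback.lift_snd, Category.assoc]
      refine Eq.trans ?_ (congrArg (_ ≫ ·) (stageMap_w c (φ₀ a) (M₀ a))).symm
      rw [← Category.assoc, bcFst_w, Category.assoc, c.w, ← Category.assoc,
        MorphismProperty.Over.w]
  have hθG : ∀ a, bcFst (c.π.app n) (M a) ≫ t a ≫ G₀ a =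
      ((θ a).hom ≫ g a).left ≫ bcFst (c.π.app i) U := fun a => by
    rw [← Category.assoc, hstage, Category.assoc, (hGL a).1.2]
    exact (Category.assoc _ _ _).symm
  have hθL : ∀ a, bcFst (c.π.app n) (M a) ≫ t a ≫ L₀ a = (θ a).hom.left ≫ w a := fun a => by
    rw [← Category.assoc, hstage, Category.assoc, (hGL a).2.2]
    exact (Category.assoc _ _ _).symm
  let Un := (EtCoh.bc (D.map (φ ≫ α))).obj U
  let Γ : ∀ a, M a ⟶ Un := fun a => toBc (t a ≫ G₀ a) (hG a)
  let z : ∀ a, (S.E n).obj.obj (op (M a)) := fun a =>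
    (S.σ (φ ≫ β a)).app (M a) (V a) (t a ≫ L₀ a) (hL a) (x a)
  have hz : ∀ a, (S.ρ c' n).app _ (M a) (bcFst (c.π.app n) (M a)) (bcFst_w _ _) (z a) =
      c'.pt.obj.map ((θ a).hom ≫ g a).op y := fun a => by
    rw [σ_app_ρ_app c' (φ ≫ β a) _ _ _ _ ((θ a).hom.left ≫ w a)
      (by rw [Category.assoc, hw, ← Category.assoc, MorphismProperty.Over.w]) (hθL a),
      op_comp, Functor.map_comp, ConcreteCategory.comp_apply, hy,
      app_map_apply _ (θ a).hom (w a) (hw a) _ _ rfl]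
  have hM : ∀ a, CompactSpace (M a).left ∧ QuasiSeparatedSpace (M a).left := fun a => by
    obtain ⟨_, _⟩ := hM₀ a
    exact compact_qs_bc _ _
  haveI hUn : CompactSpace Un.left ∧ QuasiSeparatedSpace Un.left := compact_qs_bc _ U
  haveI := hUn.1
  haveI := hUn.2
  let O : κ × κ → (D.obj n).Etale := fun p => EtColim.Sections.overlap (Γ p.1) (Γ p.2)
  have hov : ∀ p : κ × κ, ∃ (r : I) (ψ : r ⟶ n),
      (S.σ ψ).app _ (O p) (bcFst (D.map ψ) (O p)) (bcFst_w _ _)
        ((S.E n).obj.map (EtColim.Sections.overlapFst (Γ p.1) (Γ p.2)).op (z p.1) -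
          (S.E n).obj.map (EtColim.Sections.overlapSnd (Γ p.1) (Γ p.2)).op (z p.2)) = 0 := fun p => by
    obtain ⟨_, _⟩ := hM p.1
    obtain ⟨_, _⟩ := hM p.2
    haveI : CompactSpace (O p).left := EtColim.Sections.compactSpace_overlap _ _
    haveI : QuasiSeparatedSpace (O p).left := by
      haveI : QuasiSeparated (Γ p.2).left := QuasiSeparated.of_quasiSeparatedSpace _
      exact @quasiSeparatedSpace_of_quasiSeparated (O p).left (M p.1).left
        (pullback.fst (Γ p.1).left (Γ p.2).left) ‹QuasiSeparatedSpace (M p.1).left›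
        (MorphismProperty.pullback_fst (P := @QuasiSeparated) _ _ ‹QuasiSeparated (Γ p.2).left›)
    refine exists_stage_eq_zero c' hc hc' (O p) _ ?_
    rw [map_sub, sub_eq_zero]
    have key : ∀ (a : κ) (o : O p ⟶ M a),
        (S.ρ c' n).app _ (O p) (bcFst (c.π.app n) (O p)) (bcFst_w _ _) ((S.E n).obj.map o.op (z a)) =
          c'.pt.obj.map ((EtCoh.bc (c.π.app n)).map o ≫ (θ a).hom ≫ g a).op y := fun a o => by
      rw [map_app_apply _ o _ _ (bcFst (c.π.app n) (O p) ≫ o.left)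
        (by rw [Category.assoc, MorphismProperty.Over.w, bcFst_w]) rfl,
        ← app_map_apply _ ((EtCoh.bc (c.π.app n)).map o) _ (bcFst_w _ _) _ _ (bc_map_fst o), hz,
        op_comp, op_comp, op_comp, Functor.map_comp, Functor.map_comp, Functor.map_comp,
        ConcreteCategory.comp_apply, ConcreteCategory.comp_apply, ConcreteCategory.comp_apply]
    rw [key p.1, key p.2]
    refine congrArg (fun q : _ ⟶ W => c'.pt.obj.map q.op y) (bc_hom_ext ?_)
    have e1 : ∀ (a : κ) (o : O p ⟶ M a),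
        ((EtCoh.bc (c.π.app n)).map o ≫ (θ a).hom ≫ g a).left ≫ bcFst (c.π.app i) U =
          bcFst (c.π.app n) (O p) ≫ (o ≫ Γ a).left ≫ bcFst (D.map (φ ≫ α)) U := fun a o => by
      refine (Category.assoc _ _ _).trans ?_
      rw [← hθG a, ← Category.assoc, bc_map_fst, Category.assoc]
      refine congrArg (bcFst (c.π.app n) (O p) ≫ ·) ?_
      exact ((Category.assoc _ _ _).trans (congrArg (o.left ≫ ·) (toBc_fst _ _))).symm
    rw [e1, e1, EtColim.Sections.overlap_w]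
  choose r ψ hψ using hov
  let Z : Set Un.left := ⋃ a, Set.range (Γ a).left
  have hZ : IsOpen Z := isOpen_iUnion fun a => by
    haveI : Etale Un.hom := Un.prop
    haveI : Etale ((Γ a).left ≫ Un.hom) := (MorphismProperty.Over.w (Γ a)).symm ▸ (M a).prop
    haveI : Etale (Γ a).left := Etale.of_comp _ Un.hom
    exact (Γ a).left.isOpenMap.isOpen_range
  obtain ⟨r₀, ψ₀, hψ₀⟩ := exists_stage_subset hc Un Z hZ fun p => by
    obtain ⟨a, v, hv⟩ := hcov ((stageIso c (φ ≫ α) U).hom.left p)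
    refine Set.mem_iUnion.2 ⟨a, bcFst (c.π.app n) (M a) ((θ a).inv.left v), ?_⟩
    have e2 : (θ a).inv.left ≫ bcFst (c.π.app n) (M a) ≫ (Γ a).left =
        (g a).left ≫ (stageIso c (φ ≫ α) U).inv.left ≫ bcFst (c.π.app n) Un := by
      rw [show (stageIso c (φ ≫ α) U).inv.left ≫ bcFst (c.π.app n) Un = stageMap c (φ ≫ α) U from
        toBc_fst _ _]
      refine pullback.hom_ext ?_ ?_
      · rw [Category.assoc, Category.assoc, Category.assoc, stageMap_fst]
        refine (congrArg (fun q => (θ a).inv.left ≫ bcFst (c.π.app n) (M a) ≫ q) (toBc_fst _ _)).trans ?_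
        rw [hθG, ← Category.assoc]
        refine congrArg (· ≫ bcFst (c.π.app i) U) ?_
        exact congrArg (fun q => q.left) ((θ a).inv_hom_id_assoc (g a))
      · rw [Category.assoc, Category.assoc, Category.assoc]
        erw [MorphismProperty.Over.w (Γ a), bcFst_w, stageMap_w]
        rw [← Category.assoc, ← Category.assoc, MorphismProperty.Over.w, MorphismProperty.Over.w]
    have := congrArg (fun q => q v) e2
    simp only [Scheme.Hom.comp_apply] at this
    rw [this, hv, ← Scheme.Hom.comp_apply, ← Scheme.Hom.comp_apply]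
    rw [stageIso_inv_fst, stageIso_hom_stageMap]
  let Xo : Option (κ × κ) → I := fun o => o.elim r₀ r
  let fo : ∀ o, Xo o ⟶ n := fun o => match o with
    | none => ψ₀
    | some p => ψ p
  obtain ⟨q, χ, s', hs'⟩ := IsCofiltered.wideCospan fo
  let Uq := (EtCoh.bc (D.map χ)).obj Un
  let Γq : ∀ a, (EtCoh.bc (D.map χ)).obj (M a) ⟶ Uq := fun a => (EtCoh.bc (D.map χ)).map (Γ a)
  have hcovq : ∀ p : Uq.left, ∃ (a : κ) (v : ((EtCoh.bc (D.map χ)).obj (M a)).left),
      (Γq a).left v = p := fun p => by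
    let d : Uq.left ⟶ ((EtCoh.bc (D.map ψ₀)).obj Un).left :=
      pullback.lift (bcFst _ _) (Uq.hom ≫ D.map (s' none))
        ((bcFst_w _ _).trans (by rw [Category.assoc, ← D.map_comp, hs' none]))
    obtain ⟨a, v, hv⟩ := Set.mem_iUnion.1 (hψ₀ (d p))
    rw [← Scheme.Hom.comp_apply, pullback.lift_fst] at hv
    exact ⟨a, exists_bc_point (D.map χ) (Γ a) p v hv⟩
  let zq : ∀ a, (S.E q).obj.obj (op ((EtCoh.bc (D.map χ)).obj (M a))) := fun a =>
    (S.σ χ).app _ (M a) (bcFst (D.map χ) (M a)) (bcFst_w _ _) (z a)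
  obtain ⟨T, hT, -⟩ := EtColim.Sections.exists_unique_glue (S.E q) Γq hcovq zq fun a b => by
    let Oq := EtColim.Sections.overlap (Γq a) (Γq b)
    let oF := EtColim.Sections.overlapFst (Γq a) (Γq b)
    let oS := EtColim.Sections.overlapSnd (Γq a) (Γq b)
    let cm : Oq.left ⟶ (O (a, b)).left := pullback.lift (oF.left ≫ bcFst _ _) (oS.left ≫ bcFst _ _) (by
      rw [Category.assoc, Category.assoc, ← bc_map_fst, ← bc_map_fst, ← Category.assoc,
        ← Category.assoc]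
      exact congrArg (fun q => q.left ≫ bcFst (D.map χ) Un)
        (EtColim.Sections.overlap_w (Γq a) (Γq b)))
    have hcm : cm ≫ (O (a, b)).hom = Oq.hom ≫ D.map χ := by
      show cm ≫ pullback.fst _ _ ≫ (M a).hom = _
      rw [pullback.lift_fst_assoc, Category.assoc, bcFst_w, ← Category.assoc,
        MorphismProperty.Over.w oF]
    have h0 : (S.σ χ).app Oq (O (a, b)) cm hcm
        ((S.E n).obj.map (EtColim.Sections.overlapFst (Γ a) (Γ b)).op (z a) -
          (S.E n).obj.map (EtColim.Sections.overlapSnd (Γ a) (Γ b)).op (z b)) = 0 := by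
      let d : Oq.left ⟶ ((EtCoh.bc (D.map (ψ (a, b)))).obj (O (a, b))).left :=
        pullback.lift cm (Oq.hom ≫ D.map (s' (some (a, b))))
          (hcm.trans (by rw [Category.assoc, ← D.map_comp, hs' (some (a, b))]))
      obtain ⟨-, hd⟩ : True ∧ d ≫ ((EtCoh.bc (D.map (ψ (a, b)))).obj (O (a, b))).hom =
          Oq.hom ≫ D.map (s' (some (a, b))) := ⟨trivial, pullback.lift_snd _ _ _⟩
      have hχ : s' (some (a, b)) ≫ ψ (a, b) = χ := hs' (some (a, b))
      have := (σ_app_σ_app (S := S) (s' (some (a, b))) (ψ (a, b)) d hd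
        (bcFst (D.map (ψ (a, b))) (O (a, b))) (bcFst_w _ _) cm (by rw [hχ]; exact hcm)
        (pullback.lift_fst _ _ _) _).symm.trans ((congrArg _ (hψ (a, b))).trans (map_zero _))
      revert this
      generalize_proofs
      rw! [hχ]
      exact id
    rw [map_sub, sub_eq_zero] at h0
    rw [app_map_apply _ oF _ _ _ (by rw [Category.assoc, bcFst_w, ← Category.assoc,
        MorphismProperty.Over.w oF]) rfl,
      app_map_apply _ oS _ _ _ (by rw [Category.assoc, bcFst_w, ← Category.assoc,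
        MorphismProperty.Over.w oS]) rfl]
    rw [map_app_apply _ _ cm hcm (oF.left ≫ bcFst _ _) _ (pullback.lift_fst _ _ _),
      map_app_apply _ _ cm hcm (oS.left ≫ bcFst _ _) _ (pullback.lift_snd _ _ _)] at h0
    exact h0
  refine ⟨q, χ ≫ φ ≫ α, ?_⟩
  let Uf := (EtCoh.bc (D.map (χ ≫ φ ≫ α))).obj U
  let l₁ : Uf.left ⟶ Un.left := pullback.lift (bcFst _ _) (Uf.hom ≫ D.map χ)
    ((bcFst_w _ _).trans (by rw [Category.assoc, ← D.map_comp]))
  let h : Uf ⟶ Uq := toBc l₁ (pullback.lift_snd _ _ _)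
  refine ⟨(S.E q).obj.map h.op T, ?_⟩
  have hsm : (stageMap c (χ ≫ φ ≫ α) U ≫ h.left) ≫ Uq.hom = W.hom ≫ c.π.app q := by
    rw [Category.assoc, MorphismProperty.Over.w h, stageMap_w]
  rw [map_app_apply _ h _ _ (stageMap c (χ ≫ φ ≫ α) U ≫ h.left) hsm rfl]
  refine EtColim.Sections.ext_of_cover c'.pt g hcov _ _ fun a => ?_
  rw [app_map_apply _ (g a) _ hsm ((g a).left ≫ stageMap c (χ ≫ φ ≫ α) U ≫ h.left)
    (by rw [Category.assoc, hsm, ← Category.assoc, MorphismProperty.Over.w]) rfl]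
  have hι : ∃ ι : N a ⟶ (EtCoh.bc (c.π.app q)).obj ((EtCoh.bc (D.map χ)).obj (M a)),
      ι = (θ a).inv ≫ (stageIso c χ (M a)).inv := ⟨_, rfl⟩
  obtain ⟨ι, hι⟩ := hι
  let wa := ι.left ≫ bcFst (c.π.app q) ((EtCoh.bc (D.map χ)).obj (M a))
  have hwa : wa ≫ ((EtCoh.bc (D.map χ)).obj (M a)).hom = (N a).hom ≫ c.π.app q := by
    rw [Category.assoc, bcFst_w, ← Category.assoc, MorphismProperty.Over.w]
  have hwa' : wa = (θ a).inv.left ≫ stageMap c χ (M a) := by
    subst hι
    exact (Category.assoc _ _ _).trans (congrArg ((θ a).inv.left ≫ ·) (toBc_fst _ _))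
  rw [← map_app_apply _ (Γq a) wa hwa _ _ ?_ T, hT a,
    σ_app_ρ_app c' χ wa hwa _ _ ((θ a).inv.left ≫ bcFst (c.π.app n) (M a))
      (by rw [Category.assoc, bcFst_w, ← Category.assoc, MorphismProperty.Over.w])
      (by rw [hwa', Category.assoc, stageMap_fst]),
    ← app_map_apply _ (θ a).inv _ (bcFst_w _ _) _ _ rfl, hz, ← ConcreteCategory.comp_apply,
    ← Functor.map_comp, ← op_comp, Iso.inv_hom_id_assoc]
  refine nested_ext (D.map χ) _ _ ?_ ?_
  · have e1 : (Γq a).left ≫ bcFst (D.map χ) Un ≫ bcFst (D.map (φ ≫ α)) U =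
        bcFst (D.map χ) (M a) ≫ t a ≫ G₀ a :=
      ((Category.assoc _ _ _).symm.trans (congrArg (· ≫ bcFst (D.map (φ ≫ α)) U)
        (bc_map_fst (Γ a)))).trans ((Category.assoc _ _ _).trans
          (congrArg (bcFst (D.map χ) (M a) ≫ ·) (toBc_fst _ _)))
    have e2 : h.left ≫ bcFst (D.map χ) Un ≫ bcFst (D.map (φ ≫ α)) U =
        bcFst (D.map (χ ≫ φ ≫ α)) U :=
      (Category.assoc _ _ _).symm.trans ((congrArg (· ≫ bcFst (D.map (φ ≫ α)) U)
        (toBc_fst l₁ (pullback.lift_snd _ _ _))).trans (pullback.lift_fst _ _ _))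
    have e3 : stageMap c χ (M a) ≫ bcFst (D.map χ) (M a) ≫ t a ≫ G₀ a =
        ((θ a).hom ≫ g a).left ≫ bcFst (c.π.app i) U := by
      rw [← Category.assoc, stageMap_fst, hθG]
    simp only [Category.assoc]
    rw [e2, stageMap_fst, hwa', Category.assoc, e1, e3, ← Category.assoc]
    exact congrArg (fun k => k.left ≫ bcFst (c.π.app i) U) ((θ a).inv_hom_id_assoc (g a))
  · rw [Category.assoc, MorphismProperty.Over.w (Γq a), hwa, Category.assoc, hsm,
      ← Category.assoc, MorphismProperty.Over.w (g a)]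

end Sys

end Groth.Agent.EtLimit
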